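import Cfsg.Agent.TensorSympOrth.UCent
import Cfsg.Agent.Signalizer.Generation
import Cfsg.Agent.BlocksCharsC.PGroupCenter

/-!
# An outside element commuting with a transvection of the symplectic factor
-/

set_option autoImplicit false
set_option linter.unusedSectionVars false

namespace CfsgLib.TensorSympOrth

open Matrix Cfsg.Geo CfsgLib.MaxSub CfsgLib.TensorMax
open CfsgLib.TensorUnitary (form ev isom pMat)
open scoped Kronecker

/-- A `p`-group normalising a group of order divisible by `p` centralises one of its `p`-elements. -/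
theorem exists_fixed_pelement {G : Type*} [Group G] [Finite G] {p : ℕ} [Fact p.Prime] {X R : Subgroup G}
    (hR : IsPGroup p R) (hRX : R ≤ Subgroup.normalizer (X : Set G)) (hdiv : p ∣ Nat.card X) :
    ∃ y ∈ X, y ≠ 1 ∧ (∃ k : ℕ, y ^ p ^ k = 1) ∧ ∀ r ∈ R, r * y = y * r := by
  set N := Subgroup.normalizer (X : Set G) with hN
  have hXN : X ≤ N := Subgroup.le_normalizer
  set X' := X.subgroupOf N with hX'
  have hn : X'.Normal := Subgroup.normal_in_normalizer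
  obtain ⟨P, hP⟩ := (hR.comap_of_injective N.subtype N.subtype_injective : IsPGroup p (R.subgroupOf N)).exists_le_sylow
  obtain ⟨x, hx⟩ := exists_prime_orderOf_dvd_card' (G := X') p (by
    rwa [Nat.card_congr (Subgroup.subgroupOfEquivOfLe hXN).toEquiv])
  have hxp : IsPGroup p (Subgroup.zpowers (x : N)) := IsPGroup.of_card (n := 1) (by
    rw [Nat.card_zpowers, orderOf_submonoid x, hx, pow_one])
  obtain ⟨Q, hQ⟩ := hxp.exists_le_sylow
  obtain ⟨g, hg⟩ := MulAction.exists_smul_eq N Q P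
  have hxP : g * (x : N) * g⁻¹ ∈ (P : Subgroup N) := by
    rw [← hg, Sylow.coe_subgroup_smul]
    have h := Subgroup.smul_mem_pointwise_smul (x : N) (MulAut.conj g) _ (hQ (Subgroup.mem_zpowers _))
    simpa using h
  set K := X'.subgroupOf (P : Subgroup N) with hK
  have hx1 : (x : N) ≠ 1 := fun h => (Fact.out : p.Prime).ne_one (by
    rw [← hx, ← orderOf_submonoid x, h, orderOf_one])
  have : Nontrivial K := ⟨⟨⟨⟨_, hxP⟩, hn.conj_mem _ x.2 g⟩, 1, fun h => hx1 (by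
    have h' : g * (x : N) * g⁻¹ = 1 := congrArg (fun k : K => ((k : (P : Subgroup N)) : N)) h
    rw [conj_eq_one_iff] at h'
    exact h')⟩⟩
  have : K.Normal := hn.subgroupOf _
  obtain ⟨y, ⟨hyK, hyc⟩, hy1⟩ := CfsgLib.BlocksCharsC.exists_mem_ne_one
    (CfsgLib.BlocksCharsC.inf_center_ne_bot P.2 K)
  obtain ⟨k, hk⟩ := P.2 y
  refine ⟨((y : N) : G), hyK, fun h => hy1 (Subtype.ext (Subtype.ext h)), ⟨k, ?_⟩, fun r hr => ?_⟩
  · exact congrArg (fun z : (P : Subgroup N) => ((z : N) : G)) hk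
  · exact congrArg (fun z : (P : Subgroup N) => ((z : N) : G))
      (Subgroup.mem_center_iff.mp hyc ⟨⟨r, hRX hr⟩, hP hr⟩)

variable {F : Type*} [Field F] {a b : ℕ}

/-- Transformations with image in the plane of two orthogonal vectors. -/
noncomputable def sgl (f₁ : (Fin a → F) → (Fin a → F) → F) (u₁ u₂ : Fin a → F) (t : F × F × F) : GL (Fin a) F :=
  ctv f₁ u₁ (t.1 - t.2.1) * ctv f₁ u₂ (t.2.2 - t.2.1) * ctv f₁ (u₁ + u₂) t.2.1

namespace Setting

variable {f₁ : (Fin a → F) → (Fin a → F) → F} {f₂ : (Fin b → F) → (Fin b → F) → F}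
  (hs : Setting f₁ f₂) {M : Subgroup (GL (Idx a b) F)}
include hs

local notation "Φ" => form f₁ f₂
local notation "𝕃" => tensSO f₁ f₂

theorem sgl_mem (u₁ u₂ : Fin a → F) (t : F × F × F) : sgl f₁ u₁ u₂ t ∈ isom f₁ :=
  (isom f₁).mul_mem ((isom f₁).mul_mem (hs.ctv1_mem _ _) (hs.ctv1_mem _ _)) (hs.ctv1_mem _ _)

theorem sgl_mulVec {u₁ u₂ : Fin a → F} (h12 : f₁ u₁ u₂ = 0) (t : F × F × F) (x : Fin a → F) :
    (sgl f₁ u₁ u₂ t : Matrix (Fin a) (Fin a) F) *ᵥ x = x + (t.1 * f₁ x u₁ + t.2.1 * f₁ x u₂) • u₁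
      + (t.2.1 * f₁ x u₁ + t.2.2 * f₁ x u₂) • u₂ := by
  have h21 : f₁ u₂ u₁ = 0 := by rw [hs.skew1, h12, neg_zero]
  simp only [sgl, gl_mul_mulVec, hs.ctv1_mulVec, hs.b1.add_left, hs.b1.add_right, hs.b1.smul_left, hs.alt1, h12,
    h21]
  module

theorem sgK_mulVec {u₁ u₂ : Fin a → F} (h12 : f₁ u₁ u₂ = 0) (t : F × F × F) (v : Idx a b → F) :
    (krG (sgl f₁ u₁ u₂ t, (1 : GL (Fin b) F)) : Matrix (Idx a b) (Idx a b) F) *ᵥ v
      = v + ten u₁ (t.1 • evU f₁ u₁ v + t.2.1 • evU f₁ u₂ v)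
        + ten u₂ (t.2.1 • evU f₁ u₁ v + t.2.2 • evU f₁ u₂ v) := by
  induction v using TensorUnitary.ten_induction with
  | hadd v w hv hw =>
    rw [mulVec_add, hv, hw, hs.evU_add, hs.evU_add]
    simp only [smul_add, ten_add_right]
    abel
  | h0 => simp only [mulVec_zero, hs.evU_zero, smul_zero, add_zero, ten_zero_right]
  | h x y =>
    simp only [krG_val, kron_mulVec_ten, hs.sgl_mulVec h12, Units.val_one, one_mulVec, hs.evU_ten, ten_add_left,
      ten_add_right, ten_smul_left, ten_smul_right, smul_smul, add_smul]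

/-- Conjugation by an element of the first factor preserves fixed slices. -/
theorem fixF_conjS {n : ℕ} {p : Fin n → Fin b → F} {g : GL (Idx a b) F} (hg : g ∈ fixF p) (S : GL (Fin a) F) :
    krG (S, (1 : GL (Fin b) F)) * g * (krG (S, (1 : GL (Fin b) F)))⁻¹ ∈ fixF p := by
  intro i x
  rw [gl_mul_mulVec, gl_mul_mulVec, ← map_inv, Prod.inv_mk, inv_one, krG_val, krG_val, Units.val_one,
    kron_mulVec_ten, one_mulVec, hg, kron_mulVec_ten, one_mulVec, gl_mulVec_inv]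

variable [Fintype F]

/-- An element outside, fixing the slices, that commutes with a transvection of the first factor. -/
theorem exists_commute_root (ha : 4 ≤ a) (hLM : 𝕃 ≤ M) {n : ℕ} {p : Fin n → Fin b → F}
    (hp : IsOrth f₂ p) (hn0 : 0 < n) (hn : b ≤ n + 2) {y : GL (Idx a b) F} (hyM : y ∈ M) (hyL : y ∉ 𝕃)
    (hy : y ∈ fixF p) :
    ∃ u : Fin a → F, u ≠ 0 ∧ ∃ k : F, k ≠ 0 ∧ ∃ y' ∈ M, y' ∉ 𝕃 ∧ y' ∈ fixF p ∧
      y' * krG (ctv f₁ u k, (1 : GL (Fin b) F)) = krG (ctv f₁ u k, (1 : GL (Fin b) F)) * y' := by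
  classical
  obtain ⟨ℓ, hℓ⟩ : ∃ ℓ, ℓ = ringChar F := ⟨_, rfl⟩
  have hℓ' : Fact ℓ.Prime := ⟨hℓ ▸ CharP.char_is_prime F _⟩
  have hℓc : CharP F ℓ := hℓ ▸ (inferInstance : CharP F (ringChar F))
  have hb0 : 0 < b := lt_of_lt_of_le hn0 (hs.orth_le hp)
  obtain ⟨u₁, hu₁⟩ : ∃ u₁ : Fin a → F, u₁ ≠ 0 := ⟨Pi.single ⟨0, by omega⟩ 1, by simp⟩
  obtain ⟨u₂, h21, hu₂⟩ : ∃ u₂ : Fin a → F, f₁ u₂ u₁ = 0 ∧ ∀ c : F, c • u₁ ≠ u₂ := by
    have h := finrank_dotsKer (fun _ : Fin 1 => leftVec f₁ u₁)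
    rw [Fintype.card_fin] at h
    obtain ⟨w, hw, hw'⟩ := SetLike.not_le_iff_exists.mp (fun hle :
        (dotsKer fun _ : Fin 1 => leftVec f₁ u₁) ≤ Submodule.span F {u₁} => by
      have h1 := Submodule.finrank_mono hle
      rw [finrank_span_singleton hu₁] at h1
      omega)
    rw [mem_dotsKer] at hw
    exact ⟨w, by rw [← hs.s1.dot_leftVec]; exact hw 0,
      fun c hc => hw' (Submodule.mem_span_singleton.mpr ⟨c, hc⟩)⟩
  have h12 : f₁ u₁ u₂ = 0 := by rw [hs.skew1, h21, neg_zero]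
  have hu₂0 : u₂ ≠ 0 := fun h => hu₂ 0 (by rw [h, zero_smul])
  obtain ⟨x₁, hx₁₂, hx₁₁⟩ := hs.s1.exists_orth_not_orth (u := u₂) (v := u₁) fun c hc => by
    rcases eq_or_ne c 0 with rfl | hc0
    · exact hu₁ (by rw [← hc, zero_smul])
    · exact hu₂ c⁻¹ (by rw [← hc, smul_smul, inv_mul_cancel₀ hc0, one_smul])
  obtain ⟨x₂, hx₂₁, hx₂₂⟩ := hs.s1.exists_orth_not_orth hu₂
  let D : F × F × F → GL (Idx a b) F := fun t => krG (sgl f₁ u₁ u₂ t, (1 : GL (Fin b) F))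
  have hD : ∀ t v, (D t : Matrix (Idx a b) (Idx a b) F) *ᵥ v = v + ten u₁ (t.1 • evU f₁ u₁ v + t.2.1 • evU f₁ u₂ v)
      + ten u₂ (t.2.1 • evU f₁ u₁ v + t.2.2 • evU f₁ u₂ v) := hs.sgK_mulVec h12
  have hev0 : ∀ r s, evU f₁ u₁ (ten u₁ r + ten u₂ s) = (0 : Fin b → F) ∧
      evU f₁ u₂ (ten u₁ r + ten u₂ s) = (0 : Fin b → F) := fun r s => by
    simp [hs.evU_add, hs.evU_ten, hs.alt1, h12, h21]
  have hfix2 : ∀ t r s, (D t : Matrix (Idx a b) (Idx a b) F) *ᵥ (ten u₁ r + ten u₂ s) = ten u₁ r + ten u₂ s :=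
    fun t r s => by
      rw [hD, (hev0 r s).1, (hev0 r s).2]
      simp [ten_zero_right]
  have hDmul : ∀ t t', D t * D t' = D (t + t') := fun t t' => gl_ext fun v => by
    rw [gl_mul_mulVec, hD t' v, add_assoc, mulVec_add, hfix2, hD, hD]
    simp only [Prod.fst_add, Prod.snd_add, add_smul, ten_add_right]
    abel
  have hD0 : D 0 = 1 := mul_eq_left.mp (by rw [hDmul, add_zero] : D 0 * D 0 = D 0)
  let φ : Multiplicative (F × F × F) →* GL (Idx a b) F :=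
    { toFun := fun t => D t.toAdd
      map_one' := hD0
      map_mul' := fun t t' => (hDmul _ _).symm }
  set R := φ.range with hRdef
  have hRmem : ∀ r ∈ R, ∃ t, r = D t := by
    rintro r ⟨t, rfl⟩
    exact ⟨t.toAdd, rfl⟩
  have hDR : ∀ t, D t ∈ R := fun t => ⟨Multiplicative.ofAdd t, rfl⟩
  have hDpow : ∀ t, D t ^ ℓ = 1 := fun t => by
    have h1 : ∀ j : ℕ, D t ^ j = D (j • t) := fun j => by
      induction j with
      | zero => rw [pow_zero, zero_smul, hD0]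
      | succ j ih => rw [pow_succ, ih, hDmul, succ_nsmul]
    rw [h1, ← hD0]
    congr 1
    ext <;> simp [CharP.cast_eq_zero]
  have hRel : Cfsg.IsElementaryAbelian ℓ R := by
    refine ⟨⟨⟨fun r r' => ?_⟩⟩, fun r hr => ?_⟩
    · obtain ⟨t, ht⟩ := hRmem r r.2
      obtain ⟨t', ht'⟩ := hRmem r' r'.2
      refine Subtype.ext ?_
      show (r : GL (Idx a b) F) * r' = r' * r
      rw [ht, ht', hDmul, hDmul, add_comm]
    · obtain ⟨t, rfl⟩ := hRmem r hr
      exact hDpow t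
  have hRp : IsPGroup ℓ R := fun r => ⟨1, Subtype.ext (by rw [pow_one]; exact hRel.2 r r.2)⟩
  set X := M ⊓ fixF p with hX
  have hRX : R ≤ Subgroup.normalizer (X : Set (GL (Idx a b) F)) := by
    have h1 : ∀ r ∈ R, ∀ z ∈ X, r * z * r⁻¹ ∈ X := by
      intro r hr z hz
      obtain ⟨t, rfl⟩ := hRmem r hr
      have hK : D t ∈ M := hLM (hs.krG_mem (hs.sgl_mem _ _ _) (Subgroup.one_mem _))
      exact ⟨M.mul_mem (M.mul_mem hK hz.1) (M.inv_mem hK), hs.fixF_conjS hz.2 _⟩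
    intro r hr
    refine Subgroup.mem_normalizer_iff.mpr fun z => ⟨h1 r hr z, fun hz => ?_⟩
    have := h1 r⁻¹ (R.inv_mem hr) _ hz
    rwa [show r⁻¹ * (r * z * r⁻¹) * r⁻¹⁻¹ = z by group] at this
  have hctv : ∀ k : F, krG (ctv f₁ u₁ k, (1 : GL (Fin b) F)) = D (k, 0, 0) := fun k => by
    show _ = krG (sgl f₁ u₁ u₂ _, 1)
    congr 2
    exact gl_ext fun x => by rw [hs.ctv1_mulVec, hs.sgl_mulVec h12]; simp
  by_cases hdiv : ℓ ∣ Nat.card X
  · obtain ⟨y', hy', hy'1, ⟨k, hk⟩, hcomm⟩ := exists_fixed_pelement hRp hRX hdiv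
    refine ⟨u₁, hu₁, 1, one_ne_zero, y', hy'.1, fun hL => hy'1 ?_, hy'.2,
      by rw [hctv]; exact (hcomm _ (hDR _)).symm⟩
    obtain ⟨T, hT, hyT, -⟩ := hs.eq_one_kron (by omega) hL (h := p ⟨0, hn0⟩)
      (fun h0 => hp.1 _ (by rw [h0, bl_zero_left hs.b2])) (hy'.2 _)
    rw [hyT, ← map_pow, Prod.pow_mk, one_pow, ← map_one krG, ← Prod.mk_one_one] at hk
    rw [hyT, hs.eq_one_of_fix hp hn hT (fun i => ?_) (krG_one_inj (by omega) hk), Prod.mk_one_one, map_one]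
    have h1 := hy'.2 i (Pi.single ⟨0, by omega⟩ 1)
    rw [hyT, krG_val, Units.val_one, kron_mulVec_ten, one_mulVec] at h1
    exact ten_inj_right (by simp) h1
  obtain ⟨B, hB, hidx, hnot⟩ : ∃ B : Subgroup (GL (Idx a b) F), B ≤ R ∧ B.relIndex R ≤ ℓ ∧
      ¬ X ⊓ Subgroup.centralizer (B : Set (GL (Idx a b) F)) ≤ 𝕃 := by
    by_contra hcon
    push Not at hcon
    exact hyL (CfsgLib.Signalizer.le_of_forall_hyperplane hRel hdiv hRX hcon ⟨hyM, hy⟩)
  obtain ⟨y', ⟨hy', hy'c⟩, hy'L⟩ := SetLike.not_le_iff_exists.mp hnot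
  obtain ⟨z, hzB, hz1⟩ : ∃ z ∈ B, z ≠ 1 := by
    refine CfsgLib.BlocksCharsC.exists_mem_ne_one fun hB0 => ?_
    rw [hB0, Subgroup.relIndex_bot_left] at hidx
    have hinj : Function.Injective (fun t : F × F => (⟨D (t.1, 0, t.2), hDR _⟩ : R)) := by
      intro t t' h
      have h1 := congrArg (fun r : GL (Idx a b) F => evU f₁ x₁ ((r : Matrix (Idx a b) (Idx a b) F) *ᵥ
        ten x₁ (Pi.single ⟨0, by omega⟩ 1 : Fin b → F))) (congrArg Subtype.val h)
      have h2 := congrArg (fun r : GL (Idx a b) F => evU f₁ x₂ ((r : Matrix (Idx a b) (Idx a b) F) *ᵥ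
        ten x₂ (Pi.single ⟨0, by omega⟩ 1 : Fin b → F))) (congrArg Subtype.val h)
      have e11 : f₁ u₁ x₁ = -1 := by rw [hs.skew1, hx₁₁]
      have e22 : f₁ u₂ x₂ = -1 := by rw [hs.skew1, hx₂₂]
      simp only [hD, hs.evU_add, hs.evU_ten, hs.alt1, hx₁₁, hx₁₂, hx₂₁, hx₂₂, e11, e22, zero_smul, smul_zero,
        add_zero, zero_add, one_smul, smul_smul, ten_zero_right, hs.evU_zero] at h1 h2
      have h1' := congrFun h1 ⟨0, by omega⟩
      have h2' := congrFun h2 ⟨0, by omega⟩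
      simp at h1' h2'
      exact Prod.ext h1' h2'
    have h1 := Nat.card_le_card_of_injective _ hinj
    rw [Nat.card_prod, Nat.card_eq_fintype_card] at h1
    have hq := Fintype.one_lt_card (α := F)
    have hℓq : ℓ ≤ Fintype.card F := by
      obtain ⟨k, -, hk⟩ := FiniteField.card F ℓ
      rw [hk]; exact Nat.le_self_pow k.ne_zero ℓ
    have := Nat.mul_le_mul_left (Fintype.card F) hq
    omega
  obtain ⟨t, rfl⟩ := hRmem z (hB hzB)
  have hcz : y' * D t = D t * y' := (Subgroup.mem_centralizer_iff.mp hy'c _ hzB).symm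
  have ht : t ≠ 0 := fun h => hz1 (by rw [h, hD0])
  by_cases hdet : t.1 * t.2.2 - t.2.1 * t.2.1 = 0
  · -- a transvection
    obtain ⟨α, β, γ⟩ := t
    simp only at hdet
    by_cases hα : α = 0
    · subst hα
      have hβ : β = 0 := mul_self_eq_zero.mp (by linear_combination -hdet)
      subst hβ
      have hγ : γ ≠ 0 := fun h => ht (by rw [h]; rfl)
      refine ⟨u₂, hu₂0, γ, hγ, y', hy'.1, hy'L, hy'.2, ?_⟩
      have e : ctv f₁ u₂ γ = sgl f₁ u₁ u₂ (0, 0, γ) := gl_ext fun x => by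
        rw [hs.ctv1_mulVec, hs.sgl_mulVec h12]; simp
      rw [e]
      exact hcz
    · refine ⟨u₁ + (β / α) • u₂, fun h0 => ?_, α, hα, y', hy'.1, hy'L, hy'.2, ?_⟩
      · have e := congrArg (fun x => f₁ x₁ x) h0
        simp only [hs.b1.add_right, hs.b1.smul_right, hx₁₁, hx₁₂, bl_zero_right hs.b1, mul_zero, add_zero] at e
        exact one_ne_zero e
      · have e : ctv f₁ (u₁ + (β / α) • u₂) α = sgl f₁ u₁ u₂ (α, β, γ) := gl_ext fun x => by
          rw [hs.ctv1_mulVec, hs.sgl_mulVec h12, hs.b1.add_right, hs.b1.smul_right]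
          match_scalars <;> field_simp
          linear_combination -(f₁ x u₂) * hdet
        rw [e]
        exact hcz
  -- the element commutes with the whole group
  refine ⟨u₁, hu₁, 1, one_ne_zero, y', hy'.1, hy'L, hy'.2, ?_⟩
  rw [hctv]
  set r := D ((1 : F), (0 : F), (0 : F)) with hr
  set w := y' * r * y'⁻¹ * r⁻¹ with hw
  suffices hw1 : w = 1 by rwa [hw, mul_inv_eq_one, mul_inv_eq_iff_eq_mul] at hw1
  have hwX : w ∈ X := by
    rw [hw, show y' * r * y'⁻¹ * r⁻¹ = y' * (r * y'⁻¹ * r⁻¹) by group]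
    exact X.mul_mem hy' ((Subgroup.mem_normalizer_iff.mp (hRX (hDR _)) _).mp (X.inv_mem hy'))
  have hR0 : ∀ v, ∃ c d, (r : Matrix (Idx a b) (Idx a b) F) *ᵥ v = v + (ten u₁ c + ten u₂ d) := fun v =>
    ⟨_, _, by rw [hr, hD, add_assoc]⟩
  have hsurj : ∀ c d : Fin b → F, ∃ v, (D t : Matrix (Idx a b) (Idx a b) F) *ᵥ v = v + (ten u₁ c + ten u₂ d) := by
    intro c d
    set Δ := t.1 * t.2.2 - t.2.1 * t.2.1 with hΔ
    refine ⟨ten x₁ (Δ⁻¹ • (t.2.2 • c - t.2.1 • d)) + ten x₂ (Δ⁻¹ • (t.1 • d - t.2.1 • c)), ?_⟩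
    rw [hD]
    simp only [hs.evU_add, hs.evU_ten, hx₁₁, hx₁₂, hx₂₁, hx₂₂, one_smul, zero_smul, add_zero, zero_add, smul_smul,
      smul_sub]
    rw [add_assoc]
    congr 3 <;> match_scalars <;> field_simp <;> rw [hΔ] <;> ring
  have hyU : ∀ c d, ∃ c' d', (y' : Matrix (Idx a b) (Idx a b) F) *ᵥ (ten u₁ c + ten u₂ d) = ten u₁ c' + ten u₂ d' := by
    intro c d
    obtain ⟨v, hv⟩ := hsurj c d
    have h1 : (y' : Matrix (Idx a b) (Idx a b) F) *ᵥ ((D t : Matrix (Idx a b) (Idx a b) F) *ᵥ v)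
        = (D t : Matrix (Idx a b) (Idx a b) F) *ᵥ ((y' : Matrix (Idx a b) (Idx a b) F) *ᵥ v) := by
      rw [← gl_mul_mulVec, hcz, gl_mul_mulVec]
    rw [hv, mulVec_add, hD t ((y' : Matrix (Idx a b) (Idx a b) F) *ᵥ v), add_assoc, add_left_cancel_iff] at h1
    exact ⟨_, _, h1⟩
  have hyUi : ∀ c d, ∃ c' d', ((y'⁻¹ : GL (Idx a b) F) : Matrix (Idx a b) (Idx a b) F) *ᵥ (ten u₁ c + ten u₂ d)
      = ten u₁ c' + ten u₂ d' := by
    intro c d
    obtain ⟨v, hv⟩ := hsurj c d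
    have hczi : y'⁻¹ * D t = D t * y'⁻¹ := by rw [inv_mul_eq_iff_eq_mul, ← mul_assoc, hcz, mul_inv_cancel_right]
    have h1 : ((y'⁻¹ : GL (Idx a b) F) : Matrix (Idx a b) (Idx a b) F) *ᵥ ((D t : Matrix (Idx a b) (Idx a b) F) *ᵥ v)
        = (D t : Matrix (Idx a b) (Idx a b) F) *ᵥ (((y'⁻¹ : GL (Idx a b) F) : Matrix (Idx a b) (Idx a b) F) *ᵥ v) := by
      rw [← gl_mul_mulVec, hczi, gl_mul_mulVec]
    rw [hv, mulVec_add, hD t (((y'⁻¹ : GL (Idx a b) F) : Matrix (Idx a b) (Idx a b) F) *ᵥ v), add_assoc,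
      add_left_cancel_iff] at h1
    exact ⟨_, _, h1⟩
  have hwfix : ∀ c d, (w : Matrix (Idx a b) (Idx a b) F) *ᵥ (ten u₁ c + ten u₂ d) = ten u₁ c + ten u₂ d := by
    intro c d
    have hri : ((r⁻¹ : GL (Idx a b) F) : Matrix (Idx a b) (Idx a b) F) *ᵥ (ten u₁ c + ten u₂ d)
        = ten u₁ c + ten u₂ d := gl_mulVec_inj r (by rw [gl_mulVec_inv, hr, hfix2])
    obtain ⟨c', d', h⟩ := hyUi c d
    rw [hw, gl_mul_mulVec, gl_mul_mulVec, gl_mul_mulVec, hri, h, hr, hfix2, ← h, gl_mulVec_inv]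
  have hwim : ∀ v, ∃ c d, (w : Matrix (Idx a b) (Idx a b) F) *ᵥ v = v + (ten u₁ c + ten u₂ d) := by
    intro v
    obtain ⟨v', rfl⟩ : ∃ v', (r : Matrix (Idx a b) (Idx a b) F) *ᵥ v' = v := ⟨_, gl_mulVec_inv r v⟩
    obtain ⟨c₁, d₁, h₁⟩ := hR0 (((y'⁻¹ : GL (Idx a b) F) : Matrix (Idx a b) (Idx a b) F) *ᵥ v')
    obtain ⟨c₂, d₂, h₂⟩ := hR0 v'
    obtain ⟨c₃, d₃, h₃⟩ := hyU c₁ d₁
    refine ⟨c₃ - c₂, d₃ - d₂, ?_⟩
    rw [hw, gl_mul_mulVec, gl_inv_mulVec, gl_mul_mulVec, gl_mul_mulVec, h₁, mulVec_add, gl_mulVec_inv, h₃, h₂,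
      ten_sub_right, ten_sub_right]
    abel
  have hwℓ : w ^ ℓ = 1 := by
    have h1 : ∀ j : ℕ, ∀ v, ((w ^ j : GL (Idx a b) F) : Matrix (Idx a b) (Idx a b) F) *ᵥ v
        = v + (j : F) • ((w : Matrix (Idx a b) (Idx a b) F) *ᵥ v - v) := fun j => by
      induction j with
      | zero => intro v; rw [pow_zero, Units.val_one, one_mulVec, Nat.cast_zero, zero_smul, add_zero]
      | succ j ih =>
        intro v
        obtain ⟨c, d, hcd⟩ := hwim v
        rw [pow_succ', gl_mul_mulVec, ih, mulVec_add, mulVec_smul, hcd, add_sub_cancel_left, hwfix, Nat.cast_succ,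
          add_smul, one_smul]
        abel
    exact gl_ext fun v => by rw [h1, CharP.cast_eq_zero, zero_smul, add_zero, Units.val_one, one_mulVec]
  have h1 : orderOf w ∣ Nat.card X := by
    rw [← Subgroup.orderOf_mk w hwX]
    exact orderOf_dvd_natCard _
  rcases (Nat.dvd_prime (Fact.out : ℓ.Prime)).mp (orderOf_dvd_of_pow_eq_one hwℓ) with h2 | h2
  · exact orderOf_eq_one_iff.mp h2
  · exact absurd (h2 ▸ h1) hdiv

end Setting

end CfsgLib.TensorSympOrth
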