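import Cfsg.Agent.TensorSympOrth.Step

/-!
# Lemmas for the first step
-/

set_option autoImplicit false
set_option linter.unusedSectionVars false

namespace CfsgLib.TensorSympOrth

open Matrix Cfsg.Geo CfsgLib.MaxSub CfsgLib.TensorMax
open CfsgLib.TensorUnitary (form ev isom pMat rowsIn)
open scoped Kronecker

variable {F : Type*} [Field F] {a b : ℕ}

/-- A column of a vector. -/
def col (v : Idx a b → F) (k : Fin b) : Fin a → F := fun i => v (i, k)

/-- The vectors whose columns lie in `H`. -/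
def colsIn (b : ℕ) (H : Submodule F (Fin a → F)) : Submodule F (Idx a b → F) where
  carrier := {v | ∀ k, col v k ∈ H}
  add_mem' {u v} hu hv k := H.add_mem (hu k) (hv k)
  zero_mem' _ := H.zero_mem
  smul_mem' c {v} hv k := H.smul_mem c (hv k)

theorem finrank_colsIn (H : Submodule F (Fin a → F)) :
    Module.finrank F (colsIn b H) = b * Module.finrank F H := by
  let e : colsIn b H ≃ₗ[F] (Fin b → H) :=
    { toFun := fun v k => ⟨col v.1 k, v.2 k⟩
      map_add' := fun _ _ => rfl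
      map_smul' := fun _ _ => rfl
      invFun := fun w => ⟨fun p => (w p.2 : Fin a → F) p.1, fun k => (w k).2⟩
      left_inv := fun _ => rfl
      right_inv := fun _ => rfl }
  rw [e.finrank_eq, Module.finrank_pi_fintype, Finset.sum_const, Finset.card_univ, Fintype.card_fin,
    smul_eq_mul]

theorem col_add (v w : Idx a b → F) (k : Fin b) : col (v + w) k = col v k + col w k := rfl

theorem col_sub (v w : Idx a b → F) (k : Fin b) : col (v - w) k = col v k - col w k := rfl

theorem col_ten (x : Fin a → F) (y : Fin b → F) (k : Fin b) : col (ten x y) k = y k • x :=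
  funext fun _ => mul_comm _ _

theorem sum_ten_col (v : Idx a b → F) : ∑ k, ten (col v k) (Pi.single k 1) = v := by
  funext ⟨i, j⟩
  rw [Finset.sum_apply, Finset.sum_eq_single j]
  · simp [ten, col]
  · intro k _ hkj; simp [ten, Ne.symm hkj]
  · simp

theorem kron_one_col (A : Matrix (Fin a) (Fin a) F) (v : Idx a b → F) (k : Fin b) :
    col ((A ⊗ₖ (1 : Matrix (Fin b) (Fin b) F)) *ᵥ v) k = A *ᵥ col v k := by
  induction v using TensorUnitary.ten_induction with
  | hadd v w hv hw =>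
    rw [mulVec_add, col_add, hv, hw, col_add, mulVec_add]
  | h0 => simp only [mulVec_zero]; exact (mulVec_zero A).symm
  | h x y => rw [kron_mulVec_ten, one_mulVec, col_ten, col_ten, mulVec_smul]

theorem img_kron_one (S : GL (Fin a) F) :
    img (krG (S, (1 : GL (Fin b) F))) = colsIn b (img S) := by
  refine le_antisymm ?_ ?_
  · intro v hv k
    obtain ⟨x, rfl⟩ := mem_img.mp hv
    rw [col_sub, krG_val, Units.val_one, kron_one_col]
    exact sub_mem_img S _
  · intro v hv
    rw [← sum_ten_col v]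
    refine Submodule.sum_mem _ fun k _ => ?_
    obtain ⟨z, hz⟩ := mem_img.mp (hv k)
    refine mem_img.mpr ⟨ten z (Pi.single k 1), ?_⟩
    rw [krG_val, Units.val_one, kron_mulVec_ten, one_mulVec, ← ten_sub_left, hz]

theorem img_one : img (1 : GL (Fin b) F) = ⊥ :=
  (Submodule.eq_bot_iff _).mpr fun v hv => by
    obtain ⟨x, rfl⟩ := mem_img.mp hv
    rw [Units.val_one, one_mulVec, sub_self]

theorem nilpotent_kernel {ι : Type} [Fintype ι] [DecidableEq ι] [Nonempty ι] {N : Matrix ι ι F} {n : ℕ}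
    (h : N ^ n = 0) : ∃ w, w ≠ 0 ∧ N *ᵥ w = 0 := by
  by_contra hcon
  push Not at hcon
  obtain ⟨x, hx⟩ := exists_ne (0 : ι → F)
  have : ∀ j : ℕ, (N ^ j) *ᵥ x ≠ 0 := by
    intro j
    induction j with
    | zero => rwa [pow_zero, one_mulVec]
    | succ j ih =>
      rw [pow_succ', ← mulVec_mulVec]
      exact hcon _ ih
  exact this n (by rw [h, zero_mulVec])

namespace Setting

variable {f₁ : (Fin a → F) → (Fin a → F) → F} {f₂ : (Fin b → F) → (Fin b → F) → F}
  (hs : Setting f₁ f₂) {M : Subgroup (GL (Idx a b) F)}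
include hs

local notation "Φ" => form f₁ f₂
local notation "𝕃" => tensSO f₁ f₂

theorem ctvK_mulVec (u : Fin a → F) (k : F) (v : Idx a b → F) :
    (krG (ctv f₁ u k, (1 : GL (Fin b) F)) : Matrix (Idx a b) (Idx a b) F) *ᵥ v
      = v + k • ten u (evU f₁ u v) := by
  induction v using TensorUnitary.ten_induction with
  | hadd v w hv hw => rw [mulVec_add, hv, hw, hs.evU_add, ten_add_right, smul_add]; abel
  | h0 => rw [mulVec_zero, hs.evU_zero, ten_zero_right, smul_zero, add_zero]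
  | h x y =>
    rw [krG_val, Units.val_one, kron_mulVec_ten, one_mulVec, hs.ctv1_mulVec, hs.evU_ten, ten_add_left,
      ten_smul_left, ten_smul_right, smul_smul]

/-- An element of the stabiliser with scalar second component. -/
theorem eq_kron_one (hb : 0 < b) {x : GL (Idx a b) F} (hx : x ∈ 𝕃) {S : GL (Fin a) F} {T : GL (Fin b) F}
    (hxST : x = krG (S, T)) {t : F} (hT : (T : Matrix (Fin b) (Fin b) F) = t • 1) :
    ∃ S' ∈ isom f₁, x = krG (S', 1) := by
  have ht : t ≠ 0 := by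
    rintro rfl
    rw [zero_smul] at hT
    have h1 := Units.mul_inv T
    rw [hT, zero_mul] at h1
    have h2 := congrFun (congrFun h1 ⟨0, hb⟩) ⟨0, hb⟩
    simp at h2
  let S' : GL (Fin a) F := Units.map (Matrix.scalar (Fin a) : F →+* Matrix (Fin a) (Fin a) F).toMonoidHom
    (Units.mk0 t ht) * S
  have hS' : (S' : Matrix (Fin a) (Fin a) F) = t • (S : Matrix (Fin a) (Fin a) F) := by
    simp [S', Matrix.smul_eq_diagonal_mul]
  have heq : x = krG (S', (1 : GL (Fin b) F)) := by
    rw [hxST]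
    apply Units.ext
    rw [krG_val, krG_val, hT, hS', Units.val_one, smul_kronecker, kronecker_smul]
  obtain ⟨z, hz⟩ := (hs.n2 (Pi.single (⟨0, hb⟩ : Fin b) (1 : F)) (by simp)).2
  refine ⟨S', fun u u' => ?_, heq⟩
  have := hx.2 (ten u (Pi.single ⟨0, hb⟩ 1)) (ten u' z)
  rw [heq, krG_val, Units.val_one, kron_mulVec_ten, kron_mulVec_ten, one_mulVec, one_mulVec,
    hs.form_ten_ten, hs.form_ten_ten] at this
  exact mul_right_cancel₀ hz this

/-- An element of the stabiliser with scalar first component. -/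
theorem eq_one_kron' (ha : 0 < a) (hb : 0 < b) {x : GL (Idx a b) F} (hx : x ∈ 𝕃) {S : GL (Fin a) F}
    {T : GL (Fin b) F} (hxST : x = krG (S, T)) {s : F} (hS : (S : Matrix (Fin a) (Fin a) F) = s • 1) :
    ∃ T' ∈ isom f₂, x = krG (1, T') := by
  have hs0 : s ≠ 0 := by
    rintro rfl
    rw [zero_smul] at hS
    have h1 := Units.mul_inv S
    rw [hS, zero_mul] at h1
    have h2 := congrFun (congrFun h1 ⟨0, ha⟩) ⟨0, ha⟩
    simp at h2
  let T' : GL (Fin b) F := Units.map (Matrix.scalar (Fin b) : F →+* Matrix (Fin b) (Fin b) F).toMonoidHom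
    (Units.mk0 s hs0) * T
  have hT' : (T' : Matrix (Fin b) (Fin b) F) = s • (T : Matrix (Fin b) (Fin b) F) := by
    simp [T', Matrix.smul_eq_diagonal_mul]
  have heq : x = krG ((1 : GL (Fin a) F), T') := by
    rw [hxST]
    apply Units.ext
    rw [krG_val, krG_val, hS, hT', Units.val_one, smul_kronecker, kronecker_smul]
  obtain ⟨z, hz⟩ := (hs.n1 (Pi.single (⟨0, ha⟩ : Fin a) (1 : F)) (by simp)).2
  refine ⟨T', fun w w' => ?_, heq⟩
  have := hx.2 (ten (Pi.single ⟨0, ha⟩ 1) w) (ten z w')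
  rw [heq, krG_val, Units.val_one, kron_mulVec_ten, kron_mulVec_ten, one_mulVec, one_mulVec,
    hs.form_ten_ten, hs.form_ten_ten] at this
  exact mul_left_cancel₀ hz this

theorem scalar_of_eigen_gl {n : ℕ} {T : GL (Fin n) F}
    (h : ∀ w, ∃ c : F, (T : Matrix (Fin n) (Fin n) F) *ᵥ w = c • w) :
    ∃ t : F, (T : Matrix (Fin n) (Fin n) F) = t • 1 := by
  obtain ⟨t, ht⟩ := exists_scalar_of_eigen (T : Matrix (Fin n) (Fin n) F).mulVecLin h
  exact ⟨t, Matrix.ext_iff_mulVec.mpr fun w => by rw [smul_mulVec, one_mulVec]; exact ht w⟩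

/-- An involution of rank `a` in the stabiliser. -/
theorem recognise_rank (ha : 0 < a) (hb : 3 ≤ b) {x : GL (Idx a b) F} (hx : x ∈ 𝕃)
    (hrank : Module.finrank F (img x) = a) :
    (∃ T' ∈ isom f₂, x = krG (1, T')) ∨ ∃ S' ∈ isom f₁, x = krG (S', 1) := by
  obtain ⟨S, T, rfl⟩ := mem_kroneckerSubgroup_iff.mp hx.1
  by_cases hT : ∀ w, ∃ c : F, (T : Matrix (Fin b) (Fin b) F) *ᵥ w = c • w
  · obtain ⟨t, ht⟩ := hs.scalar_of_eigen_gl hT
    exact Or.inr (hs.eq_kron_one (by omega) hx rfl ht)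
  by_cases hS : ∀ u, ∃ c : F, (S : Matrix (Fin a) (Fin a) F) *ᵥ u = c • u
  · obtain ⟨s, hs'⟩ := hs.scalar_of_eigen_gl hS
    exact Or.inl (hs.eq_one_kron' ha (by omega) hx rfl hs')
  exfalso
  push Not at hT hS
  obtain ⟨w₀, hw₀⟩ := hT
  obtain ⟨u₀, hu₀⟩ := hS
  have hw0 : w₀ ≠ 0 := fun h => hw₀ 0 (by rw [h, mulVec_zero, smul_zero])
  have hu0 : u₀ ≠ 0 := fun h => hu₀ 0 (by rw [h, mulVec_zero, smul_zero])
  obtain ⟨α, hα0, hα1⟩ := exists_dot_eq_zero_one (a := (T : Matrix (Fin b) (Fin b) F) *ᵥ w₀) (b := w₀)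
    (fun c hc => hw₀ c⁻¹ (by
      rcases eq_or_ne c 0 with rfl | hc0
      · exact absurd (by simpa using hc.symm) hw0
      · conv_rhs => rw [← hc, smul_smul, inv_mul_cancel₀ hc0, one_smul]))
  let L : (Fin a → F) →ₗ[F] (Idx a b → F) :=
    { toFun := fun u => (krG (S, T) : Matrix (Idx a b) (Idx a b) F) *ᵥ ten u w₀ - ten u w₀
      map_add' := fun u v => by rw [ten_add_left, mulVec_add]; abel
      map_smul' := fun c u => by rw [ten_smul_left, mulVec_smul, RingHom.id_apply, smul_sub] }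
  have hLrow : ∀ u i, TensorUnitary.row (L u) i
      = ((S : Matrix (Fin a) (Fin a) F) *ᵥ u) i • ((T : Matrix (Fin b) (Fin b) F) *ᵥ w₀) - u i • w₀ := by
    intro u i
    show TensorUnitary.row ((krG (S, T) : Matrix (Idx a b) (Idx a b) F) *ᵥ ten u w₀ - ten u w₀) i = _
    rw [row_sub, krG_val, kron_mulVec_ten, TensorUnitary.row_ten, TensorUnitary.row_ten]
  have hLinj : Function.Injective L := by
    rw [injective_iff_map_eq_zero]
    intro u hu
    funext i
    have h1 := congrArg (fun v : Idx a b → F => TensorUnitary.row v i ⬝ᵥ α) hu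
    simp only [hLrow, sub_dotProduct, smul_dotProduct, hα0, hα1, smul_eq_mul, mul_zero, mul_one] at h1
    have h2 : TensorUnitary.row (0 : Idx a b → F) i ⬝ᵥ α = 0 := zero_dotProduct α
    rw [h2, zero_sub, neg_eq_zero] at h1
    exact h1
  have heq : LinearMap.range L = img (krG (S, T)) := by
    refine Submodule.eq_of_le_of_finrank_le ?_ ?_
    · rintro _ ⟨u, rfl⟩; exact sub_mem_img _ _
    · rw [hrank, LinearMap.finrank_range_of_inj hLinj, Module.finrank_fin_fun]
  obtain ⟨β, hβ0, hβ1⟩ := exists_dot_eq_zero_one (a := (S : Matrix (Fin a) (Fin a) F) *ᵥ u₀) (b := u₀)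
    (fun c hc => hu₀ c⁻¹ (by
      rcases eq_or_ne c 0 with rfl | hc0
      · exact absurd (by simpa using hc.symm) hu0
      · conv_rhs => rw [← hc, smul_smul, inv_mul_cancel₀ hc0, one_smul]))
  set W₂ := Submodule.span F ({(T : Matrix (Fin b) (Fin b) F) *ᵥ w₀, w₀} : Set (Fin b → F)) with hW₂
  have hall : ∀ w, w ∈ W₂ := by
    intro w
    have hmem := sub_mem_img (krG (S, T)) (ten u₀ w)
    rw [← heq] at hmem
    obtain ⟨u, hu⟩ := hmem
    have hrow : ∀ i, ((S : Matrix (Fin a) (Fin a) F) *ᵥ u₀) i • ((T : Matrix (Fin b) (Fin b) F) *ᵥ w)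
        - u₀ i • w ∈ W₂ := by
      intro i
      have h1 := congrArg (fun v : Idx a b → F => TensorUnitary.row v i) hu
      simp only [hLrow, row_sub, krG_val, kron_mulVec_ten, TensorUnitary.row_ten] at h1
      rw [← h1]
      exact W₂.sub_mem (W₂.smul_mem _ (Submodule.subset_span (by simp)))
        (W₂.smul_mem _ (Submodule.subset_span (by simp)))
    have h2 := W₂.sum_mem (t := Finset.univ) fun i _ => W₂.smul_mem (β i) (hrow i)
    simp only [smul_sub, smul_smul, Finset.sum_sub_distrib, ← Finset.sum_smul] at h2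
    have e1 : ∑ i, β i * ((S : Matrix (Fin a) (Fin a) F) *ᵥ u₀) i = 0 := by
      rw [← hβ0, dotProduct]; exact Finset.sum_congr rfl fun i _ => mul_comm _ _
    have e2 : ∑ i, β i * u₀ i = 1 := by
      rw [← hβ1, dotProduct]; exact Finset.sum_congr rfl fun i _ => mul_comm _ _
    rw [e1, e2, zero_smul, one_smul, zero_sub] at h2
    simpa using W₂.neg_mem h2
  classical
  have h3 := finrank_span_finset_le_card
    ({(T : Matrix (Fin b) (Fin b) F) *ᵥ w₀, w₀} : Finset (Fin b → F)) (R := F)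
  rw [Finset.coe_insert, Finset.coe_singleton, Set.finrank, ← hW₂, Submodule.eq_top_iff'.mpr hall,
    finrank_top, Module.finrank_fin_fun] at h3
  have h4 : ({(T : Matrix (Fin b) (Fin b) F) *ᵥ w₀, w₀} : Finset (Fin b → F)).card ≤ 2 := Finset.card_le_two
  omega

/-- An involution of rank one on a complement of a family. -/
theorem exists_comp_family {n : ℕ} {p : Fin n → Fin b → F} (hp : IsOrth f₂ p) :
    ∃ v : Fin (b - n) → Fin b → F, IsOrth f₂ v ∧ ∀ i j, f₂ (v i) (p j) = 0 := by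
  classical
  obtain ⟨k, hk, -, hkp⟩ := hs.exists_eigen_family (T := 1) (Subgroup.one_mem _) (mul_one 1) (m := b - n)
    (by have := hs.orth_le hp; omega) hp (fun i => Or.inl (by rw [Units.val_one, one_mulVec]))
  choose ι hι using hkp
  have hinj : Function.Injective ι := fun i j h => by
    by_contra hij
    have h1 := hp.2 i j hij
    rw [← hι i, h, hι j] at h1
    exact hp.1 j h1
  let J : Finset (Fin b) := Finset.univ \ Finset.univ.image ι
  have hJ : J.card = b - n := by
    rw [Finset.card_sdiff, Finset.inter_univ, Finset.card_univ, Fintype.card_fin,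
      Finset.card_image_of_injective _ hinj, Finset.card_univ, Fintype.card_fin]
  refine ⟨fun i => k (J.orderEmbOfFin hJ i), ⟨fun i => hk.1 _, fun i j hij => hk.2 _ _ fun h =>
    hij ((J.orderEmbOfFin hJ).injective h)⟩, fun i j => ?_⟩
  rw [← hι j]
  refine hk.2 _ _ fun h => ?_
  have := Finset.mem_sdiff.mp (J.orderEmbOfFin_mem hJ i)
  exact this.2 (h ▸ Finset.mem_image_of_mem _ (Finset.mem_univ j))

/-- An isometry moving every vector along a fixed vector is trivial. -/
theorem eq_one_of_line {T : GL (Fin b) F} (hT : T ∈ isom f₂) {c : Fin b → F} (hc0 : c ≠ 0)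
    (hTc : (T : Matrix (Fin b) (Fin b) F) *ᵥ c = c)
    (h : ∀ z, ∃ α : F, (T : Matrix (Fin b) (Fin b) F) *ᵥ z = z + α • c) : T = 1 := by
  choose α hα using h
  have e1 : ∀ z, α z * f₂ c c = 0 := fun z => by
    have h1 := hT z c
    rw [hTc, hα, hs.b2.add_left, hs.b2.smul_left] at h1
    linear_combination h1
  by_contra hne
  obtain ⟨y, hy⟩ : ∃ y, α y ≠ 0 := by
    by_contra hcon
    push Not at hcon
    exact hne (gl_ext fun z => by rw [hα, hcon, zero_smul, add_zero, Units.val_one, one_mulVec])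
  have hcc : f₂ c c = 0 := (mul_eq_zero.mp (e1 y)).resolve_left hy
  have e2 : ∀ z, α z = 0 ∨ f₂ z c = 0 := fun z => by
    have h1 := hT z z
    rw [hα, hs.b2.add_left, hs.b2.add_right, hs.b2.add_right, hs.b2.smul_left, hs.b2.smul_left,
      hs.b2.smul_right, hs.b2.smul_right, hcc, hs.symm2 c z] at h1
    rcases mul_eq_zero.mp (show α z * (2 * f₂ z c) = 0 by linear_combination h1) with h | h
    · exact Or.inl h
    · exact Or.inr ((mul_eq_zero.mp h).resolve_left hs.two)
  obtain ⟨z, hz⟩ := (hs.n2 c hc0).1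
  have hαz := (e2 z).resolve_right hz
  have hyc := (e2 y).resolve_left hy
  have hadd : α (y + z) = α y := by
    have h1 := hα (y + z)
    rw [mulVec_add, hα, hα, hαz, zero_smul, add_zero] at h1
    have h2 : (α (y + z) - α y) • c = 0 := by linear_combination (norm := module) -h1
    exact sub_eq_zero.mp ((smul_eq_zero.mp h2).resolve_right hc0)
  rcases e2 (y + z) with h | h
  · exact hy (hadd ▸ h)
  · exact hz (by rwa [hs.b2.add_left, hyc, zero_add] at h)

variable [Fintype F]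

/-- A conjugate of `1 ⊗ T` of the shape `S ⊗ 1` gives growth. -/
theorem grow_of_U (ha : 0 < a) (hLM : 𝕃 ≤ M) (hM : M ≤ isom Φ) {g : GL (Idx a b) F} (hg : g ∈ M)
    {T : GL (Fin b) F} (hT1 : T ≠ 1) {S' : GL (Fin a) F}
    (hconj : g * krG (1, T) * g⁻¹ = krG (S', 1)) (hS' : S' ∈ isom f₁)
    {m : ℕ} {v : Fin m → Fin b → F} (hv : IsOrth f₂ v) (hm : b ≤ m + 2) (hm0 : 0 < m)
    (hTv : ∀ i, (T : Matrix (Fin b) (Fin b) F) *ᵥ v i = v i) :
    Grow f₁ f₂ M (Fin.elim0 : Fin 0 → Fin b → F) := by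
  obtain ⟨y₀, hy₀⟩ : ∃ y, (S' : Matrix (Fin a) (Fin a) F) *ᵥ y ≠ y := by
    by_contra hcon
    push Not at hcon
    have hS1 : S' = 1 := gl_ext fun y => by rw [hcon, Units.val_one, one_mulVec]
    rw [hS1, Prod.mk_one_one, map_one, mul_inv_eq_one, mul_eq_left] at hconj
    exact hT1 (krG_one_inj ha (a := a) (by rw [hconj, Prod.mk_one_one, map_one]))
  set u := (S' : Matrix (Fin a) (Fin a) F) *ᵥ y₀ - y₀ with hu
  set t := krG (ctv f₁ u 1, (1 : GL (Fin b) F)) with ht
  have htL : t ∈ 𝕃 := hs.krG_mem (hs.ctv1_mem _ _) (Subgroup.one_mem _)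
  set y := g⁻¹ * t * g with hy
  have hyM : y ∈ M := M.mul_mem (M.mul_mem (M.inv_mem hg) (hLM htL)) hg
  have hfix : ∀ i x, (y : Matrix (Idx a b) (Idx a b) F) *ᵥ ten x (v i) = ten x (v i) := by
    intro i x
    set z := (g : Matrix (Idx a b) (Idx a b) F) *ᵥ ten x (v i) with hz
    have hxz : (krG (S', (1 : GL (Fin b) F)) : Matrix (Idx a b) (Idx a b) F) *ᵥ z = z := by
      rw [← hconj, hz, gl_mul_mulVec, gl_mul_mulVec, gl_inv_mulVec, krG_val, Units.val_one, kron_mulVec_ten,
        one_mulVec, hTv]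
    have hev : evU f₁ u z = 0 := hs.eq_of_forall2 fun w => by
      rw [bl_zero_left hs.b2, ← hs.form_ten_right', hu, ten_sub_left, bl_sub_right hs.bf, sub_eq_zero]
      conv_rhs => rw [← (hs.krG_mem hS' (Subgroup.one_mem (isom f₂))).2 z (ten y₀ w)]
      rw [hxz, krG_val, Units.val_one, kron_mulVec_ten, one_mulVec]
    rw [hy, gl_mul_mulVec, gl_mul_mulVec, ← hz, ht, hs.ctvK_mulVec, hev, ten_zero_right, smul_zero, add_zero,
      hz, gl_inv_mulVec]
  have hv0 : v ⟨0, hm0⟩ ≠ 0 := fun h => hv.1 ⟨0, hm0⟩ (by rw [h, bl_zero_left hs.b2])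
  refine hs.grow_of hyM (fun hyL => ?_) (fun i => i.elim0) (hv.1 ⟨0, hm0⟩) (fun i => i.elim0)
    (hfix ⟨0, hm0⟩)
  obtain ⟨T'', hT'', hyT, -⟩ := hs.eq_one_kron ha hyL hv0 (hfix ⟨0, hm0⟩)
  set q := ringChar F
  have : Fact q.Prime := ⟨CharP.char_is_prime F q⟩
  have hpow : ∀ j : ℕ, ctv f₁ u 1 ^ j = ctv f₁ u (j : F) := by
    intro j
    induction j with
    | zero => rw [pow_zero, Nat.cast_zero, ctv, zero_smul, tv_zero_left]
    | succ j ih => rw [pow_succ, ih, ctv_add hs.b1 hs.n1 (hs.alt1 _), Nat.cast_succ]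
  have hTq : T'' ^ q ^ 1 = 1 := by
    refine krG_one_inj ha (a := a) ?_
    have h1 : y ^ q = 1 := by
      rw [hy, show (g⁻¹ * t * g) ^ q = g⁻¹ * t ^ q * g by
        have := conj_pow (a := g⁻¹) (b := t) (i := q); simpa using this, ht, ← map_pow, Prod.pow_mk, one_pow,
        hpow, CharP.cast_eq_zero, ctv, zero_smul, tv_zero_left, Prod.mk_one_one, map_one, mul_one,
        inv_mul_cancel]
    rw [hyT, ← map_pow, Prod.pow_mk, one_pow] at h1
    rw [pow_one, Prod.mk_one_one, map_one, h1]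
  have hfix' : ∀ i, (T'' : Matrix (Fin b) (Fin b) F) *ᵥ v i = v i := fun i => by
    have h1 := hfix i (Pi.single ⟨0, ha⟩ 1)
    rw [hyT, krG_val, Units.val_one, kron_mulVec_ten, one_mulVec] at h1
    exact ten_inj_right (by simp) h1
  have hT''1 := hs.eq_one_of_fix hv hm hT'' hfix' hTq
  rw [hT''1, Prod.mk_one_one, map_one, hy, mul_assoc, inv_mul_eq_one, right_eq_mul] at hyT
  obtain ⟨z, hz⟩ := (hs.n1 u (sub_ne_zero.mpr hy₀)).1
  have h2 := congrArg (fun h : GL (Idx a b) F =>
    (h : Matrix (Idx a b) (Idx a b) F) *ᵥ ten z (v ⟨0, hm0⟩)) hyT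
  simp only [ht, krG_val, Units.val_one, kron_mulVec_ten, one_mulVec, hs.ctv1_mulVec] at h2
  have h3 := ten_inj_left hv0 h2
  rw [one_mul, add_eq_left, smul_eq_zero] at h3
  exact h3.elim hz (sub_ne_zero.mpr hy₀)

end Setting

end CfsgLib.TensorSympOrth
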