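import Cfsg.Agent.TensorSympOrth.URoot
import Cfsg.Agent.TensorSympOrth.TopLemmas

/-!
# The end of the reduction: slices in the symplectic factor
-/

set_option autoImplicit false
set_option linter.unusedSectionVars false

namespace CfsgLib.TensorSympOrth

open Matrix Cfsg.Geo CfsgLib.MaxSub CfsgLib.TensorMax
open CfsgLib.TensorUnitary (form ev isom pMat)
open scoped Kronecker

variable {F : Type*} [Field F] {a b : ℕ}

/-- Elements fixing the slice at `u` and moving its orthogonal space into it. -/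
def InU (f₁ : (Fin a → F) → (Fin a → F) → F) (M : Subgroup (GL (Idx a b) F)) (u : Fin a → F)
    (g : GL (Idx a b) F) : Prop :=
  g ∈ M ∧ (∀ w, (g : Matrix (Idx a b) (Idx a b) F) *ᵥ ten u w = ten u w) ∧
    ∀ v, evU f₁ u v = 0 → ∃ t, (g : Matrix (Idx a b) (Idx a b) F) *ᵥ v - v = ten u t

namespace Setting

variable {f₁ : (Fin a → F) → (Fin a → F) → F} {f₂ : (Fin b → F) → (Fin b → F) → F}
  (hs : Setting f₁ f₂) {M : Subgroup (GL (Idx a b) F)}
include hs

local notation "Φ" => form f₁ f₂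
local notation "𝕃" => tensSO f₁ f₂

theorem evU_add_right (u u' : Fin a → F) (v : Idx a b → F) :
    evU f₁ (u + u') v = evU f₁ u v + evU f₁ u' v := funext fun _ => hs.b1.add_right _ _ _

/-- An element commuting with a transvection of the first factor acts on its slice by an isometry. -/
theorem exists_slice_isom (hM : M ≤ isom Φ) {u u' : Fin a → F} (huu : f₁ u u' = 1) {k : F} (hk : k ≠ 0)
    {y : GL (Idx a b) F} (hy : y ∈ M)
    (hc : y * krG (ctv f₁ u k, (1 : GL (Fin b) F)) = krG (ctv f₁ u k, (1 : GL (Fin b) F)) * y) :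
    ∃ T ∈ isom f₂, ∀ w, (y : Matrix (Idx a b) (Idx a b) F) *ᵥ ten u w
      = ten u ((T : Matrix (Fin b) (Fin b) F) *ᵥ w) := by
  have hu'u : f₁ u' u = -1 := by rw [hs.skew1, huu]
  let L : (Fin b → F) →ₗ[F] (Fin b → F) :=
    { toFun := fun w => -evU f₁ u ((y : Matrix (Idx a b) (Idx a b) F) *ᵥ ten u' w)
      map_add' := fun w w' => by rw [ten_add_right, mulVec_add, hs.evU_add, neg_add]
      map_smul' := fun c w => by rw [ten_smul_right, mulVec_smul, hs.evU_smul, RingHom.id_apply, smul_neg] }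
  have hL : ∀ w, (y : Matrix (Idx a b) (Idx a b) F) *ᵥ ten u w = ten u (L w) := by
    intro w
    have h1 : (y : Matrix (Idx a b) (Idx a b) F) *ᵥ ((krG (ctv f₁ u k, (1 : GL (Fin b) F)) : Matrix (Idx a b) (Idx a b) F)
        *ᵥ ten u' w) = (krG (ctv f₁ u k, (1 : GL (Fin b) F)) : Matrix (Idx a b) (Idx a b) F) *ᵥ
        ((y : Matrix (Idx a b) (Idx a b) F) *ᵥ ten u' w) := by
      rw [← gl_mul_mulVec, hc, gl_mul_mulVec]
    rw [hs.ctvK_mulVec, hs.ctvK_mulVec, mulVec_add, add_left_cancel_iff, mulVec_smul, hs.evU_ten, hu'u,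
      neg_one_smul] at h1
    have h2 := smul_right_injective _ hk h1
    show _ = ten u (-_)
    rw [← neg_one_smul F w, ten_smul_right, mulVec_smul, neg_one_smul, neg_eq_iff_eq_neg] at h2
    rw [h2, ← neg_one_smul F (evU f₁ u _), ten_smul_right, neg_one_smul]
  obtain ⟨T, hT, hTv⟩ := hs.exists_isom_of_linear L fun w w' => by
    have h1 := hM hy (ten u w) (ten u' w')
    rw [hL, hs.form_skew, hs.form_ten_right', hs.form_ten_ten, huu, one_mul,
      show evU f₁ u ((y : Matrix (Idx a b) (Idx a b) F) *ᵥ ten u' w') = -L w' by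
        show _ = - -_; rw [neg_neg], bl_neg_left hs.b2, neg_neg, hs.symm2] at h1
    exact h1
  exact ⟨T, hT, fun w => by rw [hTv]; exact hL w⟩

variable [Fintype F]

/-- All centres, from an outside element fixing the slices of a family spanning a hyperplane or a plane. -/
theorem cen_end (ha : 4 ≤ a) {n : ℕ} {p : Fin n → Fin b → F} (hp : IsOrth f₂ p) (hn : n + 2 = b)
    (hcase : b = 4 ∨ (b = 3 ∧ 5 ≤ Fintype.card F)) (hLM : 𝕃 ≤ M) (hM : M ≤ isom Φ) {y₀ : GL (Idx a b) F}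
    (hy₀M : y₀ ∈ M) (hy₀L : y₀ ∉ 𝕃) (hy₀ : y₀ ∈ fixF p) (v : Idx a b → F) : IsCen Φ M v := by
  classical
  have hn0 : 0 < n := by omega
  have ha' : 0 < a := by omega
  obtain ⟨u, hu, k, hk, y, hyM, hyL, hy, hcomm⟩ :=
    hs.exists_commute_root ha hLM hp hn0 (by omega) hy₀M hy₀L hy₀
  obtain ⟨u', huu⟩ : ∃ u', f₁ u u' = 1 := by
    obtain ⟨z, hz⟩ := (hs.n1 u hu).2
    exact ⟨(f₁ u z)⁻¹ • z, by rw [hs.b1.smul_right, inv_mul_cancel₀ hz]⟩
  have hu'u : f₁ u' u = -1 := by rw [hs.skew1, huu]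
  by_cases hex : ∃ B, CB f₁ M u B ∧ B ≠ 0 ∧ ∀ i, B *ᵥ p i = 0
  · obtain ⟨B, hB, hB0, hBp⟩ := hex
    rcases hcase with hb | ⟨hb, hq⟩
    · obtain rfl : n = 2 := by omega
      exact hs.cb_four ha' hb hLM hM hu hB hB0 hp hBp v
    · exact hs.cb_three ha' hb hq hLM hM hu hB hB0 (hp.1 ⟨0, hn0⟩) (hBp _) v
  exfalso
  push Not at hex
  obtain ⟨T, hT, hTy⟩ := hs.exists_slice_isom hM huu hk hyM hcomm
  have hTp : ∀ i, (T : Matrix (Fin b) (Fin b) F) *ᵥ p i = p i := fun i =>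
    ten_inj_right hu (by rw [← hTy, hy])
  set K := krG ((1 : GL (Fin a) F), T) with hK
  have hKL : K ∈ 𝕃 := hs.krG_mem (Subgroup.one_mem _) hT
  set z := K⁻¹ * y with hz
  have hKp : K ∈ fixF (a := a) p := fun i x => by
    rw [hK, krG_val, Units.val_one, kron_mulVec_ten, one_mulVec, hTp]
  have hzM : z ∈ M := M.mul_mem (M.inv_mem (hLM hKL)) hyM
  have hzp : z ∈ fixF p := (fixF p).mul_mem ((fixF p).inv_mem hKp) hy
  have hzu : ∀ w, (z : Matrix (Idx a b) (Idx a b) F) *ᵥ ten u w = ten u w := fun w => by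
    refine gl_mulVec_inj K ?_
    rw [hz, ← gl_mul_mulVec, mul_inv_cancel_left, hTy, hK, krG_val, Units.val_one, kron_mulVec_ten, one_mulVec]
  have hzL : z ∉ 𝕃 := fun h => hyL (by
    rw [show y = K * z by rw [hz, mul_inv_cancel_left]]
    exact (𝕃).mul_mem hKL h)
  -- general facts about elements fixing the slice
  have hev : ∀ g ∈ M, (∀ w, (g : Matrix (Idx a b) (Idx a b) F) *ᵥ ten u w = ten u w) →
      ∀ v, evU f₁ u ((g : Matrix (Idx a b) (Idx a b) F) *ᵥ v) = evU f₁ u v := by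
    intro g hg hgu v
    refine hs.eq_of_forall2 fun w => ?_
    rw [← hs.form_ten_right', ← hs.form_ten_right']
    conv_lhs => arg 4; rw [← hgu w]
    exact hM hg v _
  have hinvu : ∀ g : GL (Idx a b) F, (∀ w, (g : Matrix (Idx a b) (Idx a b) F) *ᵥ ten u w = ten u w) →
      ∀ w, ((g⁻¹ : GL (Idx a b) F) : Matrix (Idx a b) (Idx a b) F) *ᵥ ten u w = ten u w := fun g hg w => by
    conv_lhs => rw [← hg w, gl_inv_mulVec]
  have hGmul : ∀ g h, InU f₁ M u g → InU f₁ M u h → InU f₁ M u (g * h) := by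
    rintro g h ⟨hg, hgu, hgK⟩ ⟨hh, hhu, hhK⟩
    refine ⟨M.mul_mem hg hh, fun x => by rw [gl_mul_mulVec, hhu, hgu], fun v hv => ?_⟩
    obtain ⟨t, ht⟩ := hhK v hv
    obtain ⟨t', ht'⟩ := hgK v hv
    refine ⟨t' + t, ?_⟩
    rw [gl_mul_mulVec, sub_eq_iff_eq_add.mp ht, mulVec_add, hgu, sub_eq_iff_eq_add.mp ht', ten_add_right]
    abel
  have hGinv : ∀ g, InU f₁ M u g → InU f₁ M u g⁻¹ := by
    rintro g ⟨hg, hgu, hgK⟩
    refine ⟨M.inv_mem hg, hinvu g hgu, fun v hv => ?_⟩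
    obtain ⟨t, ht⟩ := hgK v hv
    refine ⟨-t, ?_⟩
    rw [sub_eq_iff_eq_add]
    refine gl_mulVec_inj g ?_
    rw [gl_mulVec_inv, mulVec_add, hgu, sub_eq_iff_eq_add.mp ht, ← neg_one_smul F t, ten_smul_right, neg_one_smul]
    abel
  have hGconj : ∀ g h, InU f₁ M u g → h ∈ M →
      (∀ w, (h : Matrix (Idx a b) (Idx a b) F) *ᵥ ten u w = ten u w) → InU f₁ M u (h * g * h⁻¹) := by
    rintro g h ⟨hg, hgu, hgK⟩ hh hhu
    refine ⟨M.mul_mem (M.mul_mem hh hg) (M.inv_mem hh), fun w => by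
      rw [gl_mul_mulVec, gl_mul_mulVec, hinvu h hhu, hgu, hhu], fun v hv => ?_⟩
    obtain ⟨t, ht⟩ := hgK (((h⁻¹ : GL (Idx a b) F) : Matrix (Idx a b) (Idx a b) F) *ᵥ v)
      (by rw [hev _ (M.inv_mem hh) (hinvu h hhu), hv])
    refine ⟨t, ?_⟩
    rw [gl_mul_mulVec, gl_mul_mulVec, sub_eq_iff_eq_add.mp ht, mulVec_add, gl_mulVec_inv, hhu]
    abel
  -- the map `φ`
  let φ : GL (Idx a b) F → (Fin b → F) → (Idx a b → F) :=
    fun g w => (g : Matrix (Idx a b) (Idx a b) F) *ᵥ ten u' w - ten u' w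
  have hφ : ∀ (g : GL (Idx a b) F) (w : Fin b → F), (g : Matrix (Idx a b) (Idx a b) F) *ᵥ ten u' w = ten u' w + φ g w := fun g w => by
    show _ = _ + (_ - _); abel
  have hφU : ∀ g, InU f₁ M u g → ∀ w, evU f₁ u (φ g w) = 0 := fun g hg w => by
    show evU f₁ u (_ - _) = 0
    rw [hs.evU_sub, hev g hg.1 hg.2.1, sub_self]
  have hφp : ∀ g : GL (Idx a b) F, g ∈ fixF p → ∀ i, φ g (p i) = 0 := fun g hg i => by
    show _ - _ = 0
    rw [hg, sub_self]
  have hKu : ∀ v, evU f₁ u v = 0 → ∀ t, Φ v (ten u t) = 0 := fun v hv t => by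
    rw [hs.form_ten_right', hv, bl_zero_left hs.b2]
  have hevu' : ∀ t, evU f₁ u' (ten u t : Idx a b → F) = t := fun t => by rw [hs.evU_ten, huu, one_smul]
  have hφmul : ∀ g h, InU f₁ M u g → InU f₁ M u h → ∀ w, ∃ t, φ (g * h) w = φ g w + φ h w + ten u t := by
    intro g h hg hh w
    obtain ⟨t, ht⟩ := hg.2.2 (φ h w) (hφU h hh w)
    refine ⟨t, ?_⟩
    rw [← ht]
    simp only [φ, gl_mul_mulVec, mulVec_sub]
    abel
  have hδ : ∀ g, InU f₁ M u g → ∀ v, evU f₁ u v = 0 →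
      ∀ w, f₂ (evU f₁ u' ((g : Matrix (Idx a b) (Idx a b) F) *ᵥ v - v)) w = - Φ v (φ g w) := by
    intro g hg v hv w
    obtain ⟨t, ht⟩ := hg.2.2 v hv
    rw [ht, hevu']
    have h1 := hM hg.1 v (ten u' w)
    rw [sub_eq_iff_eq_add.mp ht, hφ, hs.bf.add_left, hs.bf.add_right, hs.bf.add_right, hs.form_ten_ten, huu,
      hs.form_skew (ten u t) (φ g w), hKu _ (hφU g hg w)] at h1
    linear_combination h1
  have hdec : ∀ v, evU f₁ u (v + ten u' (evU f₁ u v)) = 0 := fun v => by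
    rw [hs.evU_add, hs.evU_ten, hu'u, neg_one_smul, add_neg_cancel]
  -- commutators are central, hence trivial
  have hstar : ∀ g h, InU f₁ M u g → InU f₁ M u h → g * h * (h * g)⁻¹ ∈ fixF p →
      ∀ e w, Φ (φ g e) (φ h w) = Φ (φ h e) (φ g w) := by
    intro g h hg hh hfix e w
    let A : (Fin b → F) →ₗ[F] (Fin b → F) :=
      { toFun := fun e => evU f₁ u' (((h : Matrix (Idx a b) (Idx a b) F) *ᵥ φ g e - φ g e) -
          ((g : Matrix (Idx a b) (Idx a b) F) *ᵥ φ h e - φ h e))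
        map_add' := fun x x' => by
          rw [← hs.evU_add]
          congr 1
          simp only [φ, ten_add_right, mulVec_add, mulVec_sub]
          abel
        map_smul' := fun k x => by
          rw [RingHom.id_apply, ← hs.evU_smul]
          congr 1
          simp only [φ, ten_smul_right, mulVec_smul, mulVec_sub, smul_sub] }
    have hwM : g * h * (h * g)⁻¹ ∈ M := M.mul_mem (M.mul_mem hg.1 hh.1) (M.inv_mem (M.mul_mem hh.1 hg.1))
    have hval : ∀ v, ((g * h : GL (Idx a b) F) : Matrix (Idx a b) (Idx a b) F) *ᵥ v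
        = ((h * g : GL (Idx a b) F) : Matrix (Idx a b) (Idx a b) F) *ᵥ v + ten u (A (evU f₁ u v)) := by
      intro v
      obtain ⟨v', hv'⟩ : ∃ v', v' = v + ten u' (evU f₁ u v) := ⟨_, rfl⟩
      obtain ⟨t₁, ht₁⟩ := hh.2.2 v' (hv' ▸ hdec v)
      obtain ⟨t₂, ht₂⟩ := hg.2.2 v' (hv' ▸ hdec v)
      set e := evU f₁ u v
      obtain ⟨t₃, ht₃⟩ := hg.2.2 (φ h e) (hφU h hh e)
      obtain ⟨t₄, ht₄⟩ := hh.2.2 (φ g e) (hφU g hg e)
      have hA : A e = t₄ - t₃ := by
        show evU f₁ u' (_ - _) = _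
        rw [ht₃, ht₄, hs.evU_sub, hevu', hevu']
      rw [show v = v' - ten u' e by rw [hv', add_sub_cancel_right], gl_mul_mulVec, gl_mul_mulVec]
      simp only [mulVec_sub, mulVec_add, hφ, hg.2.1, hh.2.1, sub_eq_iff_eq_add.mp ht₁,
        sub_eq_iff_eq_add.mp ht₂, sub_eq_iff_eq_add.mp ht₃, sub_eq_iff_eq_add.mp ht₄, hA, ten_sub_right]
      abel
    have hcent : IsCentU f₁ u (g * h * (h * g)⁻¹) (LinearMap.toMatrix' A) := by
      intro v
      obtain ⟨v', rfl⟩ : ∃ v', ((h * g : GL (Idx a b) F) : Matrix (Idx a b) (Idx a b) F) *ᵥ v' = v :=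
        ⟨_, gl_mulVec_inv (h * g) v⟩
      rw [gl_mul_mulVec, gl_inv_mulVec, hval, LinearMap.toMatrix'_mulVec,
        hev _ (M.mul_mem hh.1 hg.1) (fun x => by rw [gl_mul_mulVec, hg.2.1, hh.2.1])]
    have hA0 : LinearMap.toMatrix' A = 0 := by
      by_contra h0
      obtain ⟨i, hi⟩ := hex _ ⟨_, hwM, hcent⟩ h0
      refine hi ?_
      have h1 := hfix i u'
      rw [hcent, add_eq_left, hs.evU_ten, hu'u, neg_one_smul, mulVec_neg, ← neg_one_smul F (_ *ᵥ p i),
        ten_smul_right, smul_eq_zero, ten_eq_zero] at h1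
      exact (h1.resolve_left (neg_ne_zero.mpr one_ne_zero)).resolve_left hu
    have hAx : A e = 0 := by
      have := congrArg (fun B : Matrix (Fin b) (Fin b) F => B *ᵥ e) hA0
      simpa [LinearMap.toMatrix'_mulVec] using this
    have h2 : f₂ (evU f₁ u' ((h : Matrix (Idx a b) (Idx a b) F) *ᵥ φ g e - φ g e)) w -
        f₂ (evU f₁ u' ((g : Matrix (Idx a b) (Idx a b) F) *ᵥ φ h e - φ h e)) w = 0 := by
      rw [← bl_sub_left hs.b2, ← hs.evU_sub]
      exact (congrArg (fun t => f₂ t w) hAx).trans (bl_zero_left hs.b2 w)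
    rw [hδ g hg _ (hφU h hh e), hδ h hh _ (hφU g hg e)] at h2
    linear_combination -h2
  have hmemX : ∀ g h : GL (Idx a b) F, g ∈ fixF p → h * g⁻¹ * h⁻¹ ∈ fixF p → g * h * (h * g)⁻¹ ∈ fixF p :=
    fun g h hg hh => by
      rw [show g * h * (h * g)⁻¹ = g * (h * g⁻¹ * h⁻¹) by group]
      exact (fixF p).mul_mem hg hh
  -- elements of the first factor
  have hS : ∀ S : GL (Fin a) F, ∀ (x : Fin a → F) (w : Fin b → F),
      (krG (S, (1 : GL (Fin b) F)) : Matrix (Idx a b) (Idx a b) F) *ᵥ ten x w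
        = ten ((S : Matrix (Fin a) (Fin a) F) *ᵥ x) w := fun S x w => by
    rw [krG_val, Units.val_one, kron_mulVec_ten, one_mulVec]
  have hSM : ∀ S ∈ isom f₁, krG (S, (1 : GL (Fin b) F)) ∈ M := fun S hS =>
    hLM (hs.krG_mem hS (Subgroup.one_mem _))
  have hq : ∀ x, f₁ x u = 0 → f₁ x u' = 0 → ∃ q, InU f₁ M u q ∧ (∀ w, φ q w = ten x w) ∧
      ∀ g ∈ fixF p, q * g * q⁻¹ ∈ fixF p := by
    intro x hxu hxu'
    have hux : f₁ u x = 0 := by rw [hs.skew1, hxu, neg_zero]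
    have hu'x : f₁ u' x = 0 := by rw [hs.skew1, hxu', neg_zero]
    refine ⟨krG (sgl f₁ u x ((0 : F), (-1 : F), (0 : F)), (1 : GL (Fin b) F)),
      ⟨hSM _ (hs.sgl_mem _ _ _), fun w => ?_, fun v hv => ⟨-evU f₁ x v, ?_⟩⟩, fun w => ?_,
      fun g hg => hs.fixF_conjS hg _⟩
    · rw [hS, hs.sgl_mulVec hux]
      simp [hs.alt1, hux]
    · rw [hs.sgK_mulVec hux, hv]
      simp [ten_zero_right]
    · show _ - _ = _
      rw [hS, hs.sgl_mulVec hux]
      simp [hu'u, hu'x, ten_add_left]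
  obtain ⟨k₁, hk₁, hk₁p⟩ := hs.exists_aniso_perp hp (by omega)
  obtain ⟨k₂, hk₂, hk₂p⟩ := hs.exists_aniso_perp (hs.orth_snoc hp hk₁ hk₁p) (by omega)
  have hiso0 : ∀ e, (∀ i, f₂ e (p i) = 0) → f₂ e k₁ = 0 → f₂ e e = 0 → e = 0 := by
    intro e he he₁ hee
    have hbasis := hs.orth_snoc (hs.orth_snoc hp hk₁ hk₁p) hk₂ hk₂p
    have h2 : e = (f₂ e k₂ / f₂ k₂ k₂) • k₂ := sub_eq_zero.mp (hs.eq_zero_of_perp (n := n + 2) hbasis hn fun i => by
      induction i using Fin.lastCases with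
      | last => rw [Fin.snoc_last, bl_sub_left hs.b2, hs.b2.smul_left, div_mul_cancel₀ _ hk₂, sub_self]
      | cast i =>
        rw [Fin.snoc_castSucc, bl_sub_left hs.b2, hs.b2.smul_left, hk₂p, mul_zero, sub_zero]
        induction i using Fin.lastCases with
        | last => rw [Fin.snoc_last]; exact he₁
        | cast i => rw [Fin.snoc_castSucc]; exact he i)
    have h3 : f₂ e e = f₂ e k₂ / f₂ k₂ k₂ * f₂ e k₂ := by
      conv_lhs => arg 2; rw [h2]
      rw [hs.b2.smul_right]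
    rw [hee, eq_comm, mul_eq_zero, div_eq_zero_iff, or_iff_left hk₂, or_self] at h3
    rw [h2, h3, zero_div, zero_smul]
  -- the components vanish
  have hzero : ∀ g, InU f₁ M u g → g ∈ fixF p → ∀ x, f₁ x u = 0 → f₁ x u' = 0 →
      ∀ w, evU f₁ x (φ g w) = 0 := by
    intro g hg hgp x hxu hxu'
    rcases eq_or_ne x 0 with rfl | hx0
    · exact fun w => funext fun _ => bl_zero_right hs.b1 _
    have hux : f₁ u x = 0 := by rw [hs.skew1, hxu, neg_zero]
    have hu'x : f₁ u' x = 0 := by rw [hs.skew1, hxu', neg_zero]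
    obtain ⟨x', hxx', hx'u, hx'u'⟩ : ∃ x', f₁ x x' ≠ 0 ∧ f₁ x' u = 0 ∧ f₁ x' u' = 0 := by
      obtain ⟨r, hr⟩ := (hs.n1 x hx0).2
      refine ⟨r - f₁ r u' • u - f₁ u r • u', ?_, ?_, ?_⟩
      · simp only [bl_sub_right hs.b1, hs.b1.smul_right, hxu, hxu', mul_zero, sub_zero]
        exact hr
      · simp only [bl_sub_left hs.b1, hs.b1.smul_left, hs.alt1, hu'u, hs.skew1 r u]
        ring
      · simp only [bl_sub_left hs.b1, hs.b1.smul_left, hs.alt1, huu]
        ring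
    set t := krG (ctv f₁ x 1, (1 : GL (Fin b) F)) with ht
    have htv : ∀ v, (t : Matrix (Idx a b) (Idx a b) F) *ᵥ v = v + ten x (evU f₁ x v) := fun v => by
      rw [ht, hs.ctvK_mulVec, one_smul]
    have htu : ∀ w, (t : Matrix (Idx a b) (Idx a b) F) *ᵥ ten u w = ten u w := fun w => by
      rw [htv, hs.evU_ten, hux, zero_smul, ten_zero_right, add_zero]
    have htu' : ∀ w, (t : Matrix (Idx a b) (Idx a b) F) *ᵥ ten u' w = ten u' w := fun w => by
      rw [htv, hs.evU_ten, hu'x, zero_smul, ten_zero_right, add_zero]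
    set m := g * (t * g⁻¹ * t⁻¹) with hm
    have htg : InU f₁ M u (t * g⁻¹ * t⁻¹) := hGconj _ t (hGinv g hg) (hSM _ (hs.ctv1_mem _ _)) htu
    have hmU : InU f₁ M u m := hGmul _ _ hg htg
    have hmp : m ∈ fixF p := (fixF p).mul_mem hgp (hs.fixF_conjS ((fixF p).inv_mem hgp) _)
    let C : (Fin b → F) → (Fin b → F) := fun w => -evU f₁ x (φ g w)
    have hφm : ∀ w, ∃ s, φ m w = ten x (C w) + ten u s := by
      intro w
      obtain ⟨s₁, hs₁⟩ := hφmul g _ hg htg w
      obtain ⟨s₂, hs₂⟩ := hφmul g g⁻¹ hg (hGinv g hg) w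
      have h1 : φ (t * g⁻¹ * t⁻¹) w = (t : Matrix (Idx a b) (Idx a b) F) *ᵥ φ g⁻¹ w := by
        show _ - _ = _
        rw [gl_mul_mulVec, gl_mul_mulVec, show ((t⁻¹ : GL (Idx a b) F) : Matrix (Idx a b) (Idx a b) F) *ᵥ ten u' w
          = ten u' w from gl_mulVec_inj t (by rw [gl_mulVec_inv, htu']), hφ, mulVec_add, htu', add_sub_cancel_left]
      have h2 : φ g⁻¹ w = -(φ g w) - ten u s₂ := by
        have h3 : φ (g * g⁻¹) w = 0 := by
          show _ - _ = 0
          rw [mul_inv_cancel, Units.val_one, one_mulVec, sub_self]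
        rw [h3] at hs₂
        linear_combination (norm := abel) -hs₂
      refine ⟨s₁ - s₂, ?_⟩
      rw [hm, hs₁, h1, h2, mulVec_sub, mulVec_neg, htu, htv, ten_sub_right]
      show _ = ten x (-evU f₁ x (φ g w)) + _
      rw [← neg_one_smul F (evU f₁ x (φ g w)), ten_smul_right, neg_one_smul]
      abel
    have hCp : ∀ i, C (p i) = 0 := fun i => by
      show -evU f₁ x (φ g (p i)) = 0
      rw [hφp g hgp, hs.evU_zero, neg_zero]
    have hform : ∀ y y' A B s s', f₁ y u = 0 → f₁ y' u = 0 →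
        Φ (ten y A + ten u s) (ten y' B + ten u s') = f₁ y y' * f₂ A B := by
      intro y y' A B s s' h1 h2
      simp only [hs.bf.add_left, hs.bf.add_right, hs.form_ten_ten, h1, hs.skew1 u y', h2, hs.alt1]
      ring
    have hskew : ∀ e w, f₂ (C e) w = - f₂ e (C w) := by
      intro e w
      obtain ⟨q, hqU, hqφ, hqc⟩ := hq x' hx'u hx'u'
      obtain ⟨s, hs'⟩ := hφm e
      obtain ⟨s', hs''⟩ := hφm w
      have h := hstar m q hmU hqU (hmemX m q hmp (hqc _ ((fixF p).inv_mem hmp))) e w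
      rw [hs', hs'', hqφ, hqφ, ← add_zero (ten x' w), ← ten_zero_right (b := b) u, hform _ _ _ _ _ _ hxu hx'u,
        ← add_zero (ten x' e), ← ten_zero_right (b := b) u, hform _ _ _ _ _ _ hx'u hxu, hs.skew1 x' x] at h
      exact mul_left_cancel₀ hxx' (by linear_combination h)
    have hnull : ∀ e w, f₂ (C e) (C w) = 0 := by
      intro e w
      set S := ctv f₁ (x' - x) (f₁ x x')⁻¹ with hSdef
      have hSu : (S : Matrix (Fin a) (Fin a) F) *ᵥ u = u := by
        rw [hSdef, hs.ctv1_mulVec, bl_sub_right hs.b1, hs.skew1 u x', hx'u, hux]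
        simp
      have hSu' : (S : Matrix (Fin a) (Fin a) F) *ᵥ u' = u' := by
        rw [hSdef, hs.ctv1_mulVec, bl_sub_right hs.b1, hs.skew1 u' x', hx'u', hu'x]
        simp
      set K' := krG (S, (1 : GL (Fin b) F)) with hK'
      have hK'M := hSM S (hs.ctv1_mem _ _)
      have hm'U : InU f₁ M u (K' * m * K'⁻¹) := hGconj m K' hmU hK'M (fun w => by rw [hS, hSu])
      have hm'p : K' * m * K'⁻¹ ∈ fixF p := hs.fixF_conjS hmp S
      have hφm' : ∀ w, ∃ s, φ (K' * m * K'⁻¹) w = ten x' (C w) + ten u s := by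
        intro w
        obtain ⟨s, hs'⟩ := hφm w
        refine ⟨s, ?_⟩
        show _ - _ = _
        rw [gl_mul_mulVec, gl_mul_mulVec, show ((K'⁻¹ : GL (Idx a b) F) : Matrix (Idx a b) (Idx a b) F) *ᵥ ten u' w
          = ten u' w from gl_mulVec_inj K' (by rw [gl_mulVec_inv, hS, hSu']), hφ, mulVec_add, hS, hSu',
          add_sub_cancel_left, hs', mulVec_add, hS, hS, hSu, hSdef, hs.ctv1_move hxx']
      obtain ⟨s₁, h₁⟩ := hφm e
      obtain ⟨s₂, h₂⟩ := hφm' w
      obtain ⟨s₃, h₃⟩ := hφm' e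
      obtain ⟨s₄, h₄⟩ := hφm w
      have h := hstar m _ hmU hm'U (hmemX m _ hmp
        ((fixF p).mul_mem ((fixF p).mul_mem hm'p ((fixF p).inv_mem hmp)) ((fixF p).inv_mem hm'p))) e w
      rw [h₁, h₂, h₃, h₄, hform _ _ _ _ _ _ hxu hx'u, hform _ _ _ _ _ _ hx'u hxu, hs.skew1 x' x] at h
      exact (mul_eq_zero.mp (show (2 * f₁ x x') * f₂ (C e) (C w) = 0 by linear_combination h)).resolve_left
        (mul_ne_zero hs.two hxx')
    have hperp : ∀ e i, f₂ (C e) (p i) = 0 := fun e i => by rw [hskew, hCp, bl_zero_right hs.b2, neg_zero]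
    have hCk : C k₁ = 0 := hiso0 _ (hperp k₁) (by
      have h := hskew k₁ k₁
      rw [hs.symm2 k₁ (C k₁)] at h
      exact (mul_eq_zero.mp (show (2 : F) * f₂ (C k₁) k₁ = 0 by linear_combination h)).resolve_left hs.two)
      (hnull _ _)
    intro w
    have hC0 : C w = 0 := hiso0 _ (hperp w) (by rw [hskew, hCk, bl_zero_right hs.b2, neg_zero]) (hnull _ _)
    exact neg_eq_zero.mp hC0
  have htenu : ∀ v : Idx a b → F, evU f₁ u v = 0 → (∀ x, f₁ x u = 0 → f₁ x u' = 0 → evU f₁ x v = 0) →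
      v = ten u (evU f₁ u' v) := by
    intro v hvu hvH
    refine hs.eq_of_forall fun x w => ?_
    rw [hs.form_ten_right', hs.form_ten_right', hs.evU_ten]
    congr 1
    obtain ⟨r, hr⟩ : ∃ r, r = x - f₁ x u' • u - f₁ u x • u' := ⟨_, rfl⟩
    have h1 := hvH r (by
        simp only [hr, bl_sub_left hs.b1, hs.b1.smul_left, hs.alt1, hu'u, hs.skew1 x u]
        ring) (by
        simp only [hr, bl_sub_left hs.b1, hs.b1.smul_left, hs.alt1, huu]
        ring)
    conv_lhs => rw [show x = r + (f₁ x u' • u + f₁ u x • u') by rw [hr]; abel]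
    rw [hs.evU_add_right, hs.evU_add_right, hs.evU_smul_right, hs.evU_smul_right, h1, hvu, smul_zero, zero_add,
      zero_add]
  have hφu : ∀ g, InU f₁ M u g → g ∈ fixF p → ∀ w, ∃ s, φ g w = ten u s := fun g hg hgp w =>
    ⟨_, htenu _ (hφU g hg w) fun x h1 h2 => hzero g hg hgp x h1 h2 w⟩
  have hzU : InU f₁ M u z := by
    refine ⟨hzM, hzu, ?_⟩
    let S : Submodule F (Idx a b → F) :=
      { carrier := {v | ∃ t, (z : Matrix (Idx a b) (Idx a b) F) *ᵥ v - v = ten u t}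
        add_mem' := fun {v w} ⟨t, ht⟩ ⟨t', ht'⟩ => ⟨t + t', by
          rw [mulVec_add, ten_add_right, ← ht, ← ht']; abel⟩
        zero_mem' := ⟨0, by rw [mulVec_zero, sub_zero, ten_zero_right]⟩
        smul_mem' := fun k v ⟨t, ht⟩ => ⟨k • t, by rw [mulVec_smul, ten_smul_right, ← ht, smul_sub]⟩ }
    have hSx : ∀ x, f₁ x u = 0 → f₁ x u' = 0 → ∀ w, ten x w ∈ S := by
      intro x hxu hxu' w
      obtain ⟨q, hqU, hqφ, hqc⟩ := hq x hxu hxu'
      set m := z * q * z⁻¹ * q⁻¹ with hm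
      have hmU : InU f₁ M u m := hGmul _ _ (hGconj q z hqU hzM hzu) (hGinv q hqU)
      have hmp : m ∈ fixF p := by
        rw [hm, show z * q * z⁻¹ * q⁻¹ = z * (q * z⁻¹ * q⁻¹) by group]
        exact (fixF p).mul_mem hzp (hqc _ ((fixF p).inv_mem hzp))
      obtain ⟨s, hs₁⟩ := hφu m hmU hmp w
      obtain ⟨s', hs₂⟩ := hφmul m q hmU hqU w
      rw [hm, inv_mul_cancel_right, hs₁, hqφ] at hs₂
      have hk'0 : evU f₁ u (φ z⁻¹ w) = 0 := by
        show evU f₁ u (_ - _) = 0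
        rw [hs.evU_sub, hev _ (M.inv_mem hzM) (hinvu z hzu), sub_self]
      obtain ⟨t₁, ht₁⟩ := hqU.2.2 _ hk'0
      have h3 : φ (z * q * z⁻¹) w = (z : Matrix (Idx a b) (Idx a b) F) *ᵥ ten x w + ten u t₁ := by
        show _ - _ = _
        have h4 : (z : Matrix (Idx a b) (Idx a b) F) *ᵥ ten u' w + (z : Matrix (Idx a b) (Idx a b) F) *ᵥ φ z⁻¹ w
            = ten u' w := by rw [← mulVec_add, ← hφ, gl_mulVec_inv]
        rw [gl_mul_mulVec, gl_mul_mulVec, hφ z⁻¹, mulVec_add, sub_eq_iff_eq_add.mp ht₁, hφ q, hqφ, mulVec_add,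
          mulVec_add, mulVec_add, hzu]
        linear_combination (norm := abel) h4
      rw [h3] at hs₂
      refine ⟨s + s' - t₁, ?_⟩
      rw [ten_sub_right, ten_add_right]
      linear_combination (norm := abel) hs₂
    intro v hv
    suffices h : v ∈ S from h
    rw [← sum_ten_col v]
    refine S.sum_mem fun j _ => ?_
    have h1 : f₁ (col v j) u = 0 := congrFun hv j
    rw [show col v j = (col v j - f₁ (col v j) u' • u) + f₁ (col v j) u' • u by abel, ten_add_left]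
    refine S.add_mem (hSx _ ?_ ?_ _) ⟨0, ?_⟩
    · rw [bl_sub_left hs.b1, hs.b1.smul_left, h1, hs.alt1, mul_zero, sub_zero]
    · rw [bl_sub_left hs.b1, hs.b1.smul_left, huu, mul_one, sub_self]
    · rw [ten_smul_left, mulVec_smul, hzu, sub_self, ten_zero_right]
  have hKfix : ∀ v, evU f₁ u v = 0 → (z : Matrix (Idx a b) (Idx a b) F) *ᵥ v = v := by
    intro v hv
    obtain ⟨t, ht⟩ := hzU.2.2 v hv
    suffices h : t = 0 by rw [h, ten_zero_right, sub_eq_zero] at ht; exact ht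
    refine hs.eq_of_forall2 fun w => ?_
    obtain ⟨s, hs'⟩ := hφu z hzU hzp w
    have h1 := hδ z hzU v hv w
    rw [ht, hevu', hs', hKu v hv, neg_zero] at h1
    rw [h1, bl_zero_left hs.b2]
  let A : (Fin b → F) →ₗ[F] (Fin b → F) :=
    { toFun := fun e => -evU f₁ u' (φ z e)
      map_add' := fun x x' => by
        simp only [φ, ten_add_right, mulVec_add, hs.evU_sub, hs.evU_add]; abel
      map_smul' := fun k x => by
        simp only [φ, ten_smul_right, mulVec_smul, hs.evU_sub, hs.evU_smul, RingHom.id_apply, ← smul_sub, smul_neg] }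
  have hcent : IsCentU f₁ u z (LinearMap.toMatrix' A) := by
    intro v
    rw [LinearMap.toMatrix'_mulVec]
    set e := evU f₁ u v
    obtain ⟨s, hs'⟩ := hφu z hzU hzp e
    have hA : A e = -s := by
      show -evU f₁ u' (φ z e) = _
      rw [hs', hevu']
    conv_lhs => rw [show v = (v + ten u' e) - ten u' e by abel]
    rw [mulVec_sub, hKfix _ (hdec v), hφ, hs', hA, ← neg_one_smul F s, ten_smul_right, neg_one_smul]
    abel
  have hA0 : LinearMap.toMatrix' A = 0 := by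
    by_contra h0
    obtain ⟨i, hi⟩ := hex _ ⟨z, hzM, hcent⟩ h0
    refine hi ?_
    rw [LinearMap.toMatrix'_mulVec]
    show -evU f₁ u' (φ z (p i)) = 0
    rw [hφp z hzp, hs.evU_zero, neg_zero]
  refine hzL ?_
  rw [show z = 1 from gl_ext fun v => by
    rw [hcent, hA0, zero_mulVec, ten_zero_right, add_zero, Units.val_one, one_mulVec]]
  exact Subgroup.one_mem _

end Setting

end CfsgLib.TensorSympOrth
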