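import Cfsg.Agent.TensorSympOrth.Top
import Cfsg.Agent.TensorSympOrth.UEnd
import Cfsg.Agent.TensorMax.Transport
import Cfsg.Agent.MaxSub.SymplecticBasic
import Cfsg.Agent.AschbacherForms.FormTensor

/-!
# Maximality of stabilisers of tensor decompositions symplectic ⊗ orthogonal in symplectic groups
-/

set_option autoImplicit false
set_option linter.unusedSectionVars false

namespace CfsgLib.TensorSympOrth

open Matrix Cfsg.Geo CfsgLib.MaxSub CfsgLib.TensorMax
open CfsgLib.TensorUnitary (row form ev isom pMat)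
open scoped Kronecker

variable {F : Type*} [Field F] {a b : ℕ}

namespace Setting

variable {f₁ : (Fin a → F) → (Fin a → F) → F} {f₂ : (Fin b → F) → (Fin b → F) → F}
  (hs : Setting f₁ f₂) {M : Subgroup (GL (Idx a b) F)}
include hs

local notation "Φ" => form f₁ f₂
local notation "𝕃" => tensSO f₁ f₂

theorem formOfGram_eq_form (v w : Idx a b → F) :
    formOfGram (id : F → F) (gramMatrix f₁ ⊗ₖ gramMatrix f₂) v w = Φ v w := by
  simp only [formOfGram, form, Fintype.sum_prod_type, kroneckerMap_apply, gramMatrix]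
  refine Finset.sum_congr rfl fun i _ => ?_
  rw [Finset.sum_comm]
  refine Finset.sum_congr rfl fun j _ => ?_
  rw [hs.expand2 (TensorUnitary.row v i) (TensorUnitary.row w j), Finset.mul_sum]
  refine Finset.sum_congr rfl fun k _ => ?_
  rw [Finset.mul_sum]
  refine Finset.sum_congr rfl fun l _ => ?_
  simp only [TensorUnitary.row, id]
  ring

variable [Fintype F]

/-- An overgroup with an element outside the stabiliser contains all transvections. -/
theorem cen_of_overgroup (ha : 2 ≤ a) (hb : 3 ≤ b)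
    (hcase : 5 ≤ b ∨ (4 ≤ a ∧ (b = 4 ∨ 5 ≤ Fintype.card F))) (hLM : 𝕃 ≤ M) (hM : M ≤ isom Φ)
    {g : GL (Idx a b) F} (hg : g ∈ M) (hgL : g ∉ 𝕃) (v : Idx a b → F) : IsCen Φ M v := by
  have ha' : 0 < a := by omega
  have hc' : b = 3 ∨ 5 ≤ b ∨ 4 ≤ a := by
    rcases hcase with h | ⟨h, -⟩
    · exact Or.inr (Or.inl h)
    · exact Or.inr (Or.inr h)
  rcases hs.top ha hb hc' hLM hM hg hgL with ⟨h₁, hh₁, hp₁, y₁, hy₁M, hy₁L, hy₁⟩ | hall
  swap
  · exact hall v
  have o₁ := hs.orth_snoc (p := (Fin.elim0 : Fin 0 → Fin b → F)) ⟨fun i => i.elim0, fun i => i.elim0⟩ hh₁ hp₁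
  rcases Nat.lt_or_ge b 4 with hb4 | hb4
  · rcases hcase with h | ⟨h4, h | h⟩
    · omega
    · omega
    · exact hs.cen_end h4 o₁ (by omega) (Or.inr ⟨by omega, h⟩) hLM hM hy₁M hy₁L hy₁ v
  rcases hs.step ha' hLM hM o₁ Nat.one_pos (by omega) hy₁M hy₁L hy₁ with
    ⟨h₂, hh₂, hp₂, y₂, hy₂M, hy₂L, hy₂⟩ | hall
  swap
  · exact hall v
  have o₂ := hs.orth_snoc o₁ hh₂ hp₂
  rcases Nat.lt_or_ge b 5 with hb5 | hb5
  · rcases hcase with h | ⟨h4, -⟩
    · omega
    · exact hs.cen_end h4 o₂ (by omega) (Or.inl (by omega)) hLM hM hy₂M hy₂L hy₂ v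
  rcases hs.step ha' hLM hM o₂ (by omega) (by omega) hy₂M hy₂L hy₂ with
    ⟨h₃, hh₃, hp₃, y₃, hy₃M, hy₃L, hy₃⟩ | hall
  swap
  · exact hall v
  have o₃ := hs.orth_snoc o₂ hh₃ hp₃
  obtain ⟨x, y, hne, hiso⟩ := hs.exists_iso_three (o₃.1 0) (o₃.1 1) (o₃.1 2) (o₃.2 0 1 (Fin.ne_of_val_ne (by norm_num)))
    (o₃.2 0 2 (Fin.ne_of_val_ne (by norm_num))) (o₃.2 1 2 (Fin.ne_of_val_ne (by norm_num)))
  refine hs.cen_of_slice ha' hb hLM hM hne hiso hy₃M hy₃L (fun z => ?_) v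
  refine fix_of_span (fun w hw => ?_) (Submodule.add_mem _ (Submodule.add_mem _ (Submodule.smul_mem _ x
    (Submodule.subset_span (Set.mem_range_self _))) (Submodule.smul_mem _ y (Submodule.subset_span
    (Set.mem_range_self _)))) (Submodule.subset_span (Set.mem_range_self _))) z
  obtain ⟨i, rfl⟩ := hw
  exact hy₃ i

/-- A transvection outside the stabiliser. -/
theorem tensSO_lt_isom (ha : 2 ≤ a) (hb : 3 ≤ b) : 𝕃 < isom Φ := by
  refine lt_of_le_of_ne inf_le_right fun heq => ?_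
  obtain ⟨c, hc0, hc⟩ := hs.exists_iso hb
  obtain ⟨d, -, hdc⟩ := hs.exists_partner hc0 hc
  obtain ⟨u, hu⟩ : ∃ u : Fin a → F, u ≠ 0 := ⟨Pi.single ⟨0, by omega⟩ 1, by simp⟩
  obtain ⟨z, hz⟩ := (hs.n1 u hu).1
  have hv : ∀ x, (ctv Φ (ten u c) 1 : Matrix (Idx a b) (Idx a b) F) *ᵥ x = x + (1 * Φ x (ten u c)) • ten u c :=
    ctv_mulVec hs.bf hs.nf (hs.form_alt _) 1
  have hgL : ctv Φ (ten u c) 1 ∈ 𝕃 := by rw [heq]; exact ctv_mem hs.bf hs.nf hs.form_alt _ _
  obtain ⟨T, -, hT, -⟩ := hs.eq_one_kron (by omega) hgL hc0 fun x => by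
    rw [hv, hs.form_ten_ten, hc, mul_zero, mul_zero, zero_smul, add_zero]
  have hT1 : ∀ w, (T : Matrix (Fin b) (Fin b) F) *ᵥ w = w := fun w => ten_inj_right hu (by
    have h := hv (ten u w)
    rwa [hs.form_ten_ten, hs.alt1, zero_mul, mul_zero, zero_smul, add_zero, hT, krG_val, kron_mulVec_ten,
      Units.val_one, one_mulVec] at h)
  have h := hv (ten z d)
  rw [hs.form_ten_ten, hdc, mul_one, one_mul, hT, krG_val, kron_mulVec_ten, Units.val_one, one_mulVec, hT1,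
    left_eq_add, smul_eq_zero, ten_eq_zero] at h
  rcases h with h | h | h
  · exact hz h
  · exact hu h
  · exact hc0 h

end Setting

/-- The stabiliser in `Sp` of a tensor decomposition symplectic ⊗ orthogonal is maximal, for a second factor of
dimension at least five, or of dimension four, or three over at least five elements, with the first of dimension
at least four. -/
theorem isMaximalIn_tensorSympOrth {F : Type*} [Field F] [Fintype F] {m a b : ℕ} (h2 : (2 : F) ≠ 0) (ha : 2 ≤ a)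
    (hb : 3 ≤ b) (hcase : 5 ≤ b ∨ (4 ≤ a ∧ (b = 4 ∨ 5 ≤ Fintype.card F)))
    (e : (Fin m ⊕ Fin m) ≃ Fin a × Fin b) (P : GL (Fin m ⊕ Fin m) F) {f₁ : (Fin a → F) → (Fin a → F) → F}
    {f₂ : (Fin b → F) → (Fin b → F) → F} (hf₁ : IsSymplecticForm f₁) (hf₂ : IsSymmetricForm f₂)
    (hT : IsTensorFormStructure id (Cfsg.sympForm m F) f₁ f₂ e P) :
    IsMaximalIn (Cfsg.spGL m F) (tensorProductSubgroup a b e P ⊓ Cfsg.spGL m F) := by
  have hs : Setting f₁ f₂ := ⟨hf₁, hf₂, h2⟩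
  obtain ⟨c, hc0, hT⟩ := hT
  set J := CfsgLib.AschbacherForms.coords e P with hJ
  have hform : ∀ x y, Cfsg.sympForm m F (J x) (J y) = c * form f₁ f₂ x y := fun x y => by
    rw [← hs.formOfGram_eq_form]
    exact hT x y
  let φ : GL (Idx a b) F ≃* GL (Fin m ⊕ Fin m) F := (glReindex e.symm).trans (MulAut.conj P)
  have hφ : ∀ (g : GL (Idx a b) F) x, (φ g : Matrix (Fin m ⊕ Fin m) (Fin m ⊕ Fin m) F) *ᵥ J x
      = J ((g : Matrix (Idx a b) (Idx a b) F) *ᵥ x) := by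
    intro g x
    show ((P * glReindex e.symm g * P⁻¹ : GL (Fin m ⊕ Fin m) F) : Matrix (Fin m ⊕ Fin m) (Fin m ⊕ Fin m) F) *ᵥ
      ((P : Matrix (Fin m ⊕ Fin m) (Fin m ⊕ Fin m) F) *ᵥ (x ∘ e)) =
      (P : Matrix (Fin m ⊕ Fin m) (Fin m ⊕ Fin m) F) *ᵥ (_ ∘ e)
    rw [mulVec_mulVec, ← Units.val_mul, inv_mul_cancel_right, Units.val_mul, ← mulVec_mulVec]
    congr 1
    show (g : Matrix (Idx a b) (Idx a b) F).submatrix e.symm.symm e.symm.symm *ᵥ (x ∘ e) = _
    rw [Equiv.symm_symm, Matrix.submatrix_mulVec_equiv, Function.comp_assoc, Equiv.self_comp_symm,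
      Function.comp_id]
  have hSp : ∀ g, φ g ∈ Cfsg.spGL m F ↔ g ∈ isom (form f₁ f₂) := by
    intro g
    rw [mem_spGL_iff]
    refine ⟨fun h x y => ?_, fun h u v => ?_⟩
    · have := h (J x) (J y)
      rw [hφ, hφ, hform, hform] at this
      exact mul_left_cancel₀ hc0 this
    · obtain ⟨x, rfl⟩ := J.surjective u
      obtain ⟨y, rfl⟩ := J.surjective v
      rw [hφ, hφ, hform, hform, h]
  have hmapSp : (isom (form f₁ f₂)).map φ.toMonoidHom = Cfsg.spGL m F := by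
    ext g
    constructor
    · rintro ⟨h, hh, rfl⟩
      exact (hSp h).mpr hh
    · intro hg
      exact ⟨φ.symm g, (hSp _).mp (by rw [φ.apply_symm_apply]; exact hg), φ.apply_symm_apply g⟩
  have hK : (kroneckerSubgroup a b F).map φ.toMonoidHom = tensorProductSubgroup a b e P := by
    rw [tensorProductSubgroup, Subgroup.map_map]
    rfl
  have hmax : IsMaximalIn (isom (form f₁ f₂)) (tensSO f₁ f₂) := by
    refine ⟨hs.tensSO_lt_isom ha hb, fun M hLM hM => ?_⟩
    by_cases hne : ∃ g ∈ M, g ∉ tensSO f₁ f₂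
    swap
    · push Not at hne
      exact Or.inl (le_antisymm hne hLM)
    refine Or.inr (le_antisymm hM ?_)
    obtain ⟨g, hgM, hgL⟩ := hne
    refine (Subgroup.map_le_map_iff_of_injective (f := φ.toMonoidHom) φ.injective).mp ?_
    rw [hmapSp]
    refine spGL_le_of_forall_spTv fun v k => ?_
    obtain ⟨x, rfl⟩ := J.surjective v
    refine ⟨_, hs.cen_of_overgroup ha hb hcase hLM hM hgM hgL x (k * c), gl_ext fun w => ?_⟩
    obtain ⟨y, rfl⟩ := J.surjective w
    show (φ _ : Matrix (Fin m ⊕ Fin m) (Fin m ⊕ Fin m) F) *ᵥ J y = _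
    rw [hφ, spTv_mulVec, hform, ctv_mulVec hs.bf hs.nf (hs.form_alt x), map_add, map_smul, mul_assoc]
  have h := CfsgLib.TensorMax.isMaximalIn_map φ hmax
  rwa [tensSO, Subgroup.map_inf _ _ _ φ.injective, hmapSp, hK] at h

end CfsgLib.TensorSympOrth
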