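import Cfsg.Agent.TensorSympOrth.Split

/-!
# One more fixed slice
-/

set_option autoImplicit false
set_option linter.unusedSectionVars false

namespace CfsgLib.TensorSympOrth

open Matrix Cfsg.Geo CfsgLib.MaxSub CfsgLib.TensorMax
open CfsgLib.TensorUnitary (form ev isom pMat rowsIn)
open scoped Kronecker

variable {F : Type*} [Field F] {a b : ℕ}

namespace Setting

variable {f₁ : (Fin a → F) → (Fin a → F) → F} {f₂ : (Fin b → F) → (Fin b → F) → F}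
  (hs : Setting f₁ f₂) {M : Subgroup (GL (Idx a b) F)}
include hs

local notation "Φ" => form f₁ f₂
local notation "𝕃" => tensSO f₁ f₂

/-- A non-zero vector orthogonal to fewer vectors than the dimension. -/
theorem exists_ne_perp {n : ℕ} (v : Fin n → Fin b → F) (hn : n < b) :
    ∃ k, k ≠ 0 ∧ ∀ i, f₂ k (v i) = 0 := by
  have h := finrank_dotsKer (fun i => leftVec f₂ (v i))
  obtain ⟨x, hx, hx0⟩ := Submodule.exists_mem_ne_zero_of_ne_bot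
    (p := dotsKer fun i => leftVec f₂ (v i)) fun h0 => by
      rw [h0, finrank_bot] at h
      simp at h
      omega
  rw [mem_dotsKer] at hx
  exact ⟨x, hx0, fun i => by rw [← hs.s2.dot_leftVec]; exact hx i⟩

theorem exists_nonsquare [Fintype F] : ∃ ν : F, ν ≠ 0 ∧ ¬ IsSquare ν := by
  obtain ⟨ν, hν⟩ := FiniteField.exists_nonsquare (F := F) fun h => hs.two (by
    have : CharP F 2 := ringChar.of_eq h
    exact CharTwo.two_eq_zero)
  exact ⟨ν, fun h => hν (h ▸ IsSquare.zero), hν⟩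

/-- A reflection as an element of the stabiliser. -/
theorem rflK_mem {e : Fin b → F} (he : f₂ e e ≠ 0) : krG ((1 : GL (Fin a) F), rfl' f₂ e) ∈ 𝕃 :=
  hs.krG_mem (Subgroup.one_mem _) (hs.rfl2_mem he)

theorem rflK_fix {n : ℕ} {p : Fin n → Fin b → F} {e : Fin b → F} (he : f₂ e e ≠ 0)
    (hep : ∀ i, f₂ e (p i) = 0) : krG ((1 : GL (Fin a) F), rfl' f₂ e) ∈ fixF p := fun i x => by
  rw [krG_val, Units.val_one, kron_mulVec_ten, one_mulVec, hs.rfl2_fix he (by rw [hs.symm2, hep])]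

theorem rflK_sq {e : Fin b → F} (he : f₂ e e ≠ 0) :
    krG ((1 : GL (Fin a) F), rfl' f₂ e) * krG ((1 : GL (Fin a) F), rfl' f₂ e) = 1 := by
  rw [← map_mul, Prod.mk_mul_mk, one_mul, hs.rfl2_sq he, Prod.mk_one_one, map_one]

theorem rfl2_ne_one {e : Fin b → F} (he : f₂ e e ≠ 0) : rfl' f₂ e ≠ 1 := fun h1 => he (by
  have h2 := hs.rfl2_self he
  rw [h1, Units.val_one, one_mulVec, eq_neg_iff_add_eq_zero, ← two_smul F e, smul_eq_zero] at h2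
  rw [h2.resolve_left hs.two, bl_zero_left hs.b2])

variable [Fintype F]

/-- The inductive step. -/
theorem step (ha : 0 < a) (hLM : 𝕃 ≤ M) (hM : M ≤ isom Φ) {n : ℕ} {p : Fin n → Fin b → F}
    (hp : IsOrth f₂ p) (hn0 : 0 < n) (hn : n + 3 ≤ b) {g : GL (Idx a b) F} (hgM : g ∈ M) (hgL : g ∉ 𝕃)
    (hg : g ∈ fixF p) : Grow f₁ f₂ M p := by
  classical
  by_contra hG
  set Y := M ⊓ fixF p with hY
  let i₀ : Fin n := ⟨0, hn0⟩
  have hp0 : p i₀ ≠ 0 := fun h0 => hp.1 i₀ (by rw [h0, bl_zero_left hs.b2])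
  have hYL : ∀ x ∈ Y, x ∈ 𝕃 → ∃ T ∈ isom f₂, x = krG (1, T) ∧
      ∀ i, (T : Matrix (Fin b) (Fin b) F) *ᵥ p i = p i := by
    intro x hx hxL
    obtain ⟨T, hT, hxT, -⟩ := hs.eq_one_kron ha hxL hp0 (hx.2 i₀)
    refine ⟨T, hT, hxT, fun i => ?_⟩
    have h1 := hx.2 i (Pi.single ⟨0, ha⟩ 1)
    rw [hxT, krG_val, Units.val_one, kron_mulVec_ten, one_mulVec] at h1
    exact ten_inj_right (by simp) h1
  have hsq : ∀ {T : GL (Fin b) F}, krG ((1 : GL (Fin a) F), T) * krG ((1 : GL (Fin a) F), T) = 1 → T * T = 1 := by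
    intro T h
    refine krG_one_inj ha (a := a) ?_
    rw [Prod.mk_one_one, map_one]
    rw [← map_mul, Prod.mk_mul_mk, one_mul] at h
    exact h
  have hH1 : ∀ x ∈ Y, ∀ T ∈ isom f₂, T * T = 1 → (∀ i, (T : Matrix (Fin b) (Fin b) F) *ᵥ p i = p i) →
      T ≠ 1 → ∀ k₀, k₀ ≠ 0 → (∀ i, f₂ k₀ (p i) = 0) → (T : Matrix (Fin b) (Fin b) F) *ᵥ k₀ = k₀ →
      x * krG ((1 : GL (Fin a) F), T) = krG ((1 : GL (Fin a) F), T) * x → x ∈ 𝕃 := by
    intro x hx T hT hT2 hTp hT1 k₀ hk₀ hk₀p hk₀T hcomm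
    by_contra hxL
    exact hG (hs.split ha hLM hM hp hn hx.1 hxL hx.2 hT hT2 hT hT2 hTp hTp hT1 hk₀ hk₀p hk₀T hcomm)
  have hrY : ∀ {e : Fin b → F}, f₂ e e ≠ 0 → (∀ i, f₂ e (p i) = 0) →
      krG ((1 : GL (Fin a) F), rfl' f₂ e) ∈ Y := fun he hep => ⟨hLM (hs.rflK_mem he), hs.rflK_fix he hep⟩
  have hrp : ∀ {e : Fin b → F}, f₂ e e ≠ 0 → (∀ i, f₂ e (p i) = 0) →
      ∀ i, (rfl' f₂ e : Matrix (Fin b) (Fin b) F) *ᵥ p i = p i := fun he hep i =>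
    hs.rfl2_fix he (by rw [hs.symm2, hep])
  have hH2 : ∀ x ∈ Y, ∀ e, f₂ e e ≠ 0 → (∀ i, f₂ e (p i) = 0) →
      x * krG ((1 : GL (Fin a) F), rfl' f₂ e) * x⁻¹ ∈ 𝕃 → x ∈ 𝕃 := by
    intro x hx e he hep hm
    have hmY : x * krG ((1 : GL (Fin a) F), rfl' f₂ e) * x⁻¹ ∈ Y :=
      Y.mul_mem (Y.mul_mem hx (hrY he hep)) (Y.inv_mem hx)
    obtain ⟨T', hT', hmT, hT'p⟩ := hYL _ hmY hm
    have hm2 : T' * T' = 1 := hsq (by
      rw [← hmT, show x * krG ((1 : GL (Fin a) F), rfl' f₂ e) * x⁻¹ * (x * krG ((1 : GL (Fin a) F), rfl' f₂ e) * x⁻¹)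
        = x * (krG ((1 : GL (Fin a) F), rfl' f₂ e) * krG ((1 : GL (Fin a) F), rfl' f₂ e)) * x⁻¹ by group,
        hs.rflK_sq he, mul_one, mul_inv_cancel])
    obtain ⟨k₀, hk₀, hk₀p⟩ := hs.exists_ne_perp (Fin.snoc p e : Fin (n + 1) → Fin b → F) (by omega)
    by_contra hxL
    refine hG (hs.split ha hLM hM hp hn hx.1 hxL hx.2 (hs.rfl2_mem he) (hs.rfl2_sq he) hT' hm2
      (hrp he hep) hT'p (hs.rfl2_ne_one he) hk₀ (fun i => by simpa using hk₀p i.castSucc)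
      (hs.rfl2_fix he (by simpa using hk₀p (Fin.last n))) ?_)
    rw [← hmT, inv_mul_cancel_right]
  -- two classes of reflections
  obtain ⟨e₁, he₁, h₁⟩ := hs.exists_aniso_perp hp (by omega)
  have o₁ := hs.orth_snoc hp he₁ h₁
  obtain ⟨e₂, he₂, h₂⟩ := hs.exists_aniso_perp o₁ (by omega)
  have o₂ := hs.orth_snoc o₁ he₂ h₂
  obtain ⟨e₃, he₃, h₃⟩ := hs.exists_aniso_perp o₂ (by omega)
  have h₂p : ∀ i, f₂ e₂ (p i) = 0 := fun i => by simpa using h₂ i.castSucc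
  have h₃p : ∀ i, f₂ e₃ (p i) = 0 := fun i => by simpa using h₃ i.castSucc.castSucc
  have h₂₁ : f₂ e₂ e₁ = 0 := by simpa using h₂ (Fin.last n)
  have h₃₂ : f₂ e₃ e₂ = 0 := by simpa using h₃ (Fin.last (n + 1))
  obtain ⟨ν, hν0, hν⟩ := hs.exists_nonsquare
  obtain ⟨s₂, s₃, hs₂₃⟩ := exists_sq_add_sq
    (Nat.odd_iff.mpr (FiniteField.odd_card_of_char_ne_two fun h => hs.two (by
      have : CharP F 2 := ringChar.of_eq h
      exact CharTwo.two_eq_zero))) he₂ he₃ (ν * f₂ e₁ e₁)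
  obtain ⟨e', he'def⟩ : ∃ e', e' = s₂ • e₂ + s₃ • e₃ := ⟨_, rfl⟩
  have he'v : f₂ e' e' = ν * f₂ e₁ e₁ := by
    rw [he'def, hs.b2.add_left, hs.b2.add_right, hs.b2.add_right, hs.b2.smul_left, hs.b2.smul_left,
      hs.b2.smul_left, hs.b2.smul_left, hs.b2.smul_right, hs.b2.smul_right, hs.b2.smul_right, hs.b2.smul_right,
      hs.symm2 e₂ e₃, h₃₂]
    linear_combination hs₂₃
  have he' : f₂ e' e' ≠ 0 := by rw [he'v]; exact mul_ne_zero hν0 he₁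
  have he'p : ∀ i, f₂ e' (p i) = 0 := fun i => by
    rw [he'def, hs.b2.add_left, hs.b2.smul_left, hs.b2.smul_left, h₂p, h₃p, mul_zero, mul_zero, add_zero]
  have key : ∀ e, f₂ e e ≠ 0 → (∀ i, f₂ e (p i) = 0) → ∀ c ∈ Y, c ∈ 𝕃 → c ≠ 1 → c * c = 1 →
      (∃ h ∈ Y, c * krG ((1 : GL (Fin a) F), rfl' f₂ e) = h * krG ((1 : GL (Fin a) F), rfl' f₂ e₁) * h⁻¹) →
      ∀ x ∈ Y, x * c = c * x → x ∈ 𝕃 := by
    intro e he hep c hcY hcL hc1 hc2 ⟨h, hhY, hch⟩ x hx hxc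
    have hhL : h ∈ 𝕃 := hH2 h hhY e₁ he₁ h₁ (hch ▸ (𝕃).mul_mem hcL (hs.rflK_mem he))
    obtain ⟨Th, hTh, hhT, hThp⟩ := hYL h hhY hhL
    obtain ⟨Tc, hTc, hcT, hTcp⟩ := hYL c hcY hcL
    set k' := (Th : Matrix (Fin b) (Fin b) F) *ᵥ e₁ with hk'
    have hk'0 : f₂ k' k' ≠ 0 := by rw [hk', hTh]; exact he₁
    have hTc' : Tc = rfl' f₂ k' * rfl' f₂ e := by
      rw [hcT, hhT, hs.krG_conj, hs.conj_rfl one_ne_zero (fun w w' => by rw [one_mul]; exact hTh w w') he₁, ← map_mul, Prod.mk_mul_mk,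
        one_mul] at hch
      rw [← krG_one_inj ha hch, mul_assoc, hs.rfl2_sq he, mul_one]
    obtain ⟨k₀, hk₀, hk₀p⟩ := hs.exists_ne_perp
      (Fin.snoc (Fin.snoc p e : Fin (n + 1) → Fin b → F) k' : Fin (n + 2) → Fin b → F) (by omega)
    refine hH1 x hx Tc hTc (hsq (by rw [← hcT]; exact hc2)) hTcp
      (fun h1 => hc1 (by rw [hcT, h1, Prod.mk_one_one, map_one])) k₀ hk₀
      (fun i => by simpa using hk₀p i.castSucc.castSucc) ?_ (by rw [← hcT]; exact hxc)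
    rw [hTc', gl_mul_mulVec, hs.rfl2_fix he (by simpa using hk₀p (Fin.last n).castSucc),
      hs.rfl2_fix hk'0 (by simpa using hk₀p (Fin.last (n + 1)))]
  have hC : ∀ e, f₂ e e ≠ 0 → (∀ i, f₂ e (p i) = 0) → ∀ x ∈ Y,
      x * krG ((1 : GL (Fin a) F), rfl' f₂ e) = krG ((1 : GL (Fin a) F), rfl' f₂ e) * x → x ∈ 𝕃 :=
    fun e he hep x hx h => hH2 x hx e he hep (by rw [h, mul_inv_cancel_right]; exact hs.rflK_mem he)
  refine dihedral_contra (L := 𝕃) (Y := Y) (r := krG ((1 : GL (Fin a) F), rfl' f₂ e₁))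
    (s := krG ((1 : GL (Fin a) F), rfl' f₂ e')) (g := g) (hs.rflK_sq he₁) (hs.rflK_sq he') (hrY he₁ h₁)
    (hrY he' he'p) ⟨hgM, hg⟩ ?_ (fun h => hgL (hH2 g ⟨hgM, hg⟩ e' he' he'p h)) (hC e₁ he₁ h₁) (hC e' he' he'p)
    (fun h => hgL (by
      have := hH2 g⁻¹ (Y.inv_mem ⟨hgM, hg⟩) e₁ he₁ h₁ (by rwa [inv_inv])
      simpa using (𝕃).inv_mem this))
    (fun c hc hcL h1 h2 _ h3 => key e₁ he₁ h₁ c hc hcL h1 h2 h3)
    (fun c hc hcL h1 h2 _ h3 => key e' he' he'p c hc hcL h1 h2 h3)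
  intro h hh hconj
  have hhL := hH2 h hh e₁ he₁ h₁ (hconj ▸ hs.rflK_mem he')
  obtain ⟨Th, hTh, hhT, -⟩ := hYL h hh hhL
  rw [hhT, hs.krG_conj, hs.conj_rfl one_ne_zero (fun w w' => by rw [one_mul]; exact hTh w w') he₁] at hconj
  have himg := congrArg img (krG_one_inj ha hconj)
  rw [hs.img_rfl (by rw [hTh]; exact he₁), hs.img_rfl he'] at himg
  obtain ⟨l, hl⟩ := Submodule.mem_span_singleton.mp
    (himg.symm ▸ Submodule.mem_span_singleton_self e' : e' ∈ Submodule.span F {(Th : Matrix (Fin b) (Fin b) F) *ᵥ e₁})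
  refine hν ⟨l, mul_right_cancel₀ he₁ ?_⟩
  rw [← he'v, ← hl, hs.b2.smul_left, hs.b2.smul_right, hTh, mul_assoc]

end Setting

end CfsgLib.TensorSympOrth
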