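import Cfsg.Agent.TensorSympOrth.TopCore

/-!
# The first fixed slice
-/

set_option autoImplicit false
set_option linter.unusedSectionVars false

namespace CfsgLib.TensorSympOrth

open Matrix Cfsg.Geo CfsgLib.MaxSub CfsgLib.TensorMax
open CfsgLib.TensorUnitary (form ev isom pMat rowsIn)
open scoped Kronecker

variable {F : Type*} [Field F] {a b : ℕ}

/-- Elements all of whose conjugates under `M` lie in `L`. -/
def InnL {G : Type*} [Group G] (L M : Subgroup G) : Subgroup G where
  carrier := {m | ∀ h ∈ M, h * m * h⁻¹ ∈ L}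
  one_mem' h _ := by rw [mul_one, mul_inv_cancel]; exact L.one_mem
  mul_mem' {m m'} hm hm' h hh := by
    have := L.mul_mem (hm h hh) (hm' h hh)
    rwa [show h * m * h⁻¹ * (h * m' * h⁻¹) = h * (m * m') * h⁻¹ by group] at this
  inv_mem' {m} hm h hh := by
    have := L.inv_mem (hm h hh)
    rwa [show (h * m * h⁻¹)⁻¹ = h * m⁻¹ * h⁻¹ by group] at this

theorem InnL_conj {G : Type*} [Group G] {L M : Subgroup G} {m : G} (hm : m ∈ InnL L M) {h : G} (hh : h ∈ M) :
    h * m * h⁻¹ ∈ InnL L M := fun h' hh' => by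
  have := hm (h' * h) (M.mul_mem hh' hh)
  rwa [show h' * h * m * (h' * h)⁻¹ = h' * (h * m * h⁻¹) * h'⁻¹ by group] at this

namespace Setting

variable {f₁ : (Fin a → F) → (Fin a → F) → F} {f₂ : (Fin b → F) → (Fin b → F) → F}
  (hs : Setting f₁ f₂) {M : Subgroup (GL (Idx a b) F)} [Fintype F]
include hs

local notation "Φ" => form f₁ f₂
local notation "𝕃" => tensSO f₁ f₂

/-- Three vectors whose six images are independent, for a similitude with square a scalar and no anisotropic
eigenvector. -/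
theorem exists_six (hb : 5 ≤ b) {T : GL (Fin b) F} {μ ν : F}
    (hν : ∀ w, (T : Matrix (Fin b) (Fin b) F) *ᵥ ((T : Matrix (Fin b) (Fin b) F) *ᵥ w) = ν • w)
    (hμ : ∀ w w', f₂ ((T : Matrix (Fin b) (Fin b) F) *ᵥ w) ((T : Matrix (Fin b) (Fin b) F) *ᵥ w') = μ * f₂ w w')
    (hns : ∃ w, ∀ c : F, (T : Matrix (Fin b) (Fin b) F) *ᵥ w ≠ c • w)
    (hno : ∀ (w : Fin b → F) (c : F), (T : Matrix (Fin b) (Fin b) F) *ᵥ w = c • w → f₂ w w = 0) :
    ∃ w : Fin 3 → Fin b → F,
      LinearIndependent F (Sum.elim w fun i => (T : Matrix (Fin b) (Fin b) F) *ᵥ w i) := by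
  classical
  have hν0 : ν ≠ 0 := by
    obtain ⟨w, hw⟩ := hns
    intro h
    have h1 := hν w
    rw [h, zero_smul, ← mulVec_zero (T : Matrix (Fin b) (Fin b) F)] at h1
    have h2 := gl_mulVec_inj T h1
    exact hw 0 (by rw [h2, zero_smul])
  by_cases hsq : ∃ r, ν = r * r
  · obtain ⟨r, hr⟩ := hsq
    have hr0 : r ≠ 0 := fun h => hν0 (by rw [hr, h, zero_mul])
    let L : (Fin b → F) →ₗ[F] (Fin b → F) := (T : Matrix (Fin b) (Fin b) F).mulVecLin
    let Ep : Submodule F (Fin b → F) := LinearMap.ker (L - r • LinearMap.id)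
    let Em : Submodule F (Fin b → F) := LinearMap.ker (L + r • LinearMap.id)
    have hmp : ∀ w, w ∈ Ep ↔ (T : Matrix (Fin b) (Fin b) F) *ᵥ w = r • w := fun w => by
      show (L - r • LinearMap.id : (Fin b → F) →ₗ[F] (Fin b → F)) w = 0 ↔ _
      rw [LinearMap.sub_apply, sub_eq_zero]; rfl
    have hmm : ∀ w, w ∈ Em ↔ (T : Matrix (Fin b) (Fin b) F) *ᵥ w = (-r) • w := fun w => by
      show (L + r • LinearMap.id : (Fin b → F) →ₗ[F] (Fin b → F)) w = 0 ↔ _
      rw [LinearMap.add_apply, add_eq_zero_iff_eq_neg, neg_smul]; rfl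
    have hti : ∀ (E : Submodule F (Fin b → F)) (c : F),
        (∀ w, w ∈ E → (T : Matrix (Fin b) (Fin b) F) *ᵥ w = c • w) → ∀ s ∈ E, ∀ t ∈ E, f₂ s t = 0 := by
      intro E c hE s hs' t ht
      have h1 := hno _ c (hE _ (E.add_mem hs' ht))
      rw [hs.b2.add_left, hs.b2.add_right, hs.b2.add_right, hno s c (hE _ hs'), hno t c (hE _ ht),
        hs.symm2 t s, zero_add, add_zero, ← two_mul] at h1
      exact (mul_eq_zero.mp h1).resolve_left hs.two
    have hp2 := hs.s2.two_finrank_le Ep (hti Ep r fun w hw => (hmp w).mp hw)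
    have hm2 := hs.s2.two_finrank_le Em (hti Em (-r) fun w hw => (hmm w).mp hw)
    rw [Fintype.card_fin] at hp2 hm2
    have hsup : Ep ⊔ Em = ⊤ := Submodule.eq_top_iff'.mpr fun w => by
      have h2 : (2 : F)⁻¹ + 2⁻¹ = 1 := by rw [← two_mul, mul_inv_cancel₀ hs.two]
      refine Submodule.mem_sup.mpr ⟨(2 : F)⁻¹ • w + (2 : F)⁻¹ • (r⁻¹ • ((T : Matrix (Fin b) (Fin b) F) *ᵥ w)),
        (hmp _).mpr ?_, (2 : F)⁻¹ • w - (2 : F)⁻¹ • (r⁻¹ • ((T : Matrix (Fin b) (Fin b) F) *ᵥ w)),
        (hmm _).mpr ?_, ?_⟩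
      · rw [mulVec_add, mulVec_smul, mulVec_smul, mulVec_smul, hν, hr]
        simp only [smul_add, smul_smul]
        rw [add_comm]
        congr 2 <;> field_simp
      · rw [mulVec_sub, mulVec_smul, mulVec_smul, mulVec_smul, hν, hr]
        simp only [smul_sub, smul_smul]
        rw [show r⁻¹ * (r * r) = r by field_simp, show -r * (2⁻¹ * r⁻¹) = -2⁻¹ by field_simp]
        module
      · linear_combination (norm := module) h2 • w
    have h3 := Submodule.finrank_sup_add_finrank_inf_eq Ep Em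
    rw [hsup, finrank_top, Module.finrank_fin_fun] at h3
    have hinf : Ep ⊓ Em = ⊥ := (Submodule.eq_bot_iff _).mpr fun w hw => by
      have h4 := (hmp w).mp hw.1
      rw [(hmm w).mp hw.2, neg_smul, neg_eq_iff_add_eq_zero, ← two_smul F (r • w), smul_smul,
        smul_eq_zero] at h4
      exact h4.resolve_left (mul_ne_zero hs.two hr0)
    rw [hinf, finrank_bot] at h3
    let bp := Module.finBasis F Ep
    let bm := Module.finBasis F Em
    let ip : Fin 3 → Fin (Module.finrank F Ep) := fun i => ⟨i, by omega⟩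
    let im : Fin 3 → Fin (Module.finrank F Em) := fun i => ⟨i, by omega⟩
    let e : Fin 3 → Fin b → F := fun i => (bp (ip i) : Fin b → F)
    let f : Fin 3 → Fin b → F := fun i => (bm (im i) : Fin b → F)
    have he : LinearIndependent F e := (bp.linearIndependent.map' Ep.subtype (Submodule.ker_subtype Ep)).comp ip
      fun i j h => Fin.ext (congrArg (fun k => k.val) h :)
    have hf : LinearIndependent F f := (bm.linearIndependent.map' Em.subtype (Submodule.ker_subtype Em)).comp im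
      fun i j h => Fin.ext (congrArg (fun k => k.val) h :)
    refine ⟨fun i => e i + f i, ?_⟩
    rw [Fintype.linearIndependent_iff]
    intro g hg
    simp only [Fintype.sum_sum_type, Sum.elim_inl, Sum.elim_inr, mulVec_add] at hg
    have hTe : ∀ i, (T : Matrix (Fin b) (Fin b) F) *ᵥ e i = r • e i := fun i => (hmp _).mp (bp (ip i)).2
    have hTf : ∀ i, (T : Matrix (Fin b) (Fin b) F) *ᵥ f i = (-r) • f i := fun i => (hmm _).mp (bm (im i)).2
    simp only [hTe, hTf] at hg
    have hsum : ∑ i, (g (Sum.inl i) + r * g (Sum.inr i)) • e i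
        + ∑ i, (g (Sum.inl i) - r * g (Sum.inr i)) • f i = 0 := by
      rw [← hg, ← Finset.sum_add_distrib, ← Finset.sum_add_distrib]
      exact Finset.sum_congr rfl fun i _ => by module
    have hz : ∑ i, (g (Sum.inl i) + r * g (Sum.inr i)) • e i = 0 := by
      rw [← Submodule.mem_bot F, ← hinf]
      refine ⟨Ep.sum_mem fun i _ => Ep.smul_mem _ (bp (ip i)).2, ?_⟩
      rw [add_eq_zero_iff_eq_neg.mp hsum]
      exact Em.neg_mem (Em.sum_mem fun i _ => Em.smul_mem _ (bm (im i)).2)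
    rw [hz, zero_add] at hsum
    have h1 := Fintype.linearIndependent_iff.mp he _ hz
    have h2 := Fintype.linearIndependent_iff.mp hf _ hsum
    rintro (i | i)
    · exact (mul_eq_zero.mp (show (2 : F) * g (Sum.inl i) = 0 by linear_combination h1 i + h2 i)).resolve_left
        hs.two
    · exact (mul_eq_zero.mp (show (2 * r) * g (Sum.inr i) = 0 by linear_combination h1 i - h2 i)).resolve_left
        (mul_ne_zero hs.two hr0)
  · push Not at hsq
    let sp : ∀ k, (Fin k → Fin b → F) → Submodule F (Fin b → F) := fun k w =>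
      Submodule.span F (Set.range (Sum.elim w fun i => (T : Matrix (Fin b) (Fin b) F) *ᵥ w i))
    have hTsp : ∀ k w, ∀ v ∈ sp k w, (T : Matrix (Fin b) (Fin b) F) *ᵥ v ∈ sp k w := by
      intro k w v hv
      induction hv using Submodule.span_induction with
      | mem v hv =>
        obtain ⟨(i | i), rfl⟩ := hv
        · exact Submodule.subset_span ⟨Sum.inr i, rfl⟩
        · show (T : Matrix (Fin b) (Fin b) F) *ᵥ ((T : Matrix (Fin b) (Fin b) F) *ᵥ w i) ∈ sp k w
          rw [hν]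
          exact Submodule.smul_mem _ _ (Submodule.subset_span ⟨Sum.inl i, rfl⟩)
      | zero => rw [mulVec_zero]; exact Submodule.zero_mem _
      | add v w _ _ h1 h2 => rw [mulVec_add]; exact Submodule.add_mem _ h1 h2
      | smul c v _ h1 => rw [mulVec_smul]; exact Submodule.smul_mem _ c h1
    have hstep : ∀ k, k ≤ 3 → ∃ w : Fin k → Fin b → F,
        LinearIndependent F (Sum.elim w fun i => (T : Matrix (Fin b) (Fin b) F) *ᵥ w i) := by
      intro k
      induction k with
      | zero => exact fun _ => ⟨Fin.elim0, linearIndependent_empty_type⟩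
      | succ k ih =>
        intro hk
        obtain ⟨w, hw⟩ := ih (by omega)
        have hdim : Module.finrank F (sp k w) = k + k := by
          rw [show sp k w = Submodule.span F (Set.range _) from rfl, finrank_span_eq_card hw,
            Fintype.card_sum, Fintype.card_fin]
        have hlt : sp k w < ⊤ := lt_top_iff_ne_top.mpr fun h => by
          rw [h, finrank_top, Module.finrank_fin_fun] at hdim
          omega
        obtain ⟨v, -, hv⟩ := SetLike.exists_of_lt hlt
        refine ⟨Fin.snoc w v, ?_⟩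
        rw [Fintype.linearIndependent_iff]
        intro g hg
        simp only [Fintype.sum_sum_type, Sum.elim_inl, Sum.elim_inr, Fin.sum_univ_castSucc, Fin.snoc_castSucc,
          Fin.snoc_last] at hg
        set α := g (Sum.inl (Fin.last k))
        set β := g (Sum.inr (Fin.last k))
        set X := ∑ i : Fin k, g (Sum.inl i.castSucc) • w i with hX
        set Y := ∑ i : Fin k, g (Sum.inr i.castSucc) • ((T : Matrix (Fin b) (Fin b) F) *ᵥ w i) with hY
        have hXY : X + Y ∈ sp k w := Submodule.add_mem _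
          (Submodule.sum_mem _ fun i _ => Submodule.smul_mem _ _ (Submodule.subset_span ⟨Sum.inl i, rfl⟩))
          (Submodule.sum_mem _ fun i _ => Submodule.smul_mem _ _ (Submodule.subset_span ⟨Sum.inr i, rfl⟩))
        have hmem : α • v + β • ((T : Matrix (Fin b) (Fin b) F) *ᵥ v) ∈ sp k w := by
          have : α • v + β • ((T : Matrix (Fin b) (Fin b) F) *ᵥ v) = -(X + Y) := by
            linear_combination (norm := module) hg
          rw [this]
          exact Submodule.neg_mem _ hXY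
        have hmem2 := hTsp k w _ hmem
        rw [mulVec_add, mulVec_smul, mulVec_smul, hν, smul_smul] at hmem2
        have h3 := Submodule.sub_mem _ (Submodule.smul_mem _ α hmem) (Submodule.smul_mem _ β hmem2)
        have h4 : (α * α - β * β * ν) • v ∈ sp k w := by
          convert h3 using 1
          module
        have h5 : α * α - β * β * ν = 0 := by
          by_contra hne
          exact hv ((Submodule.smul_mem_iff _ hne).mp h4)
        have hβ : β = 0 := by
          by_contra hβ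
          exact hsq (α / β) (by field_simp; linear_combination -h5)
        have hα : α = 0 := by
          rw [hβ] at h5
          exact mul_self_eq_zero.mp (by linear_combination h5)
        have hrest : X + Y = 0 := by
          rw [hα, hβ, zero_smul, zero_smul, add_zero, add_zero] at hg
          exact hg
        have h6 := Fintype.linearIndependent_iff.mp hw
          (Sum.elim (fun i => g (Sum.inl i.castSucc)) (fun i => g (Sum.inr i.castSucc))) (by
            rw [Fintype.sum_sum_type]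
            simpa using hrest)
        rintro (i | i) <;> induction i using Fin.lastCases with
        | last => first | exact hα | exact hβ
        | cast i => first | exact h6 (Sum.inl i) | exact h6 (Sum.inr i)
    exact hstep 3 le_rfl

/-- A vector that is no eigenvector and is orthogonal to its image. -/
theorem exists_skew_vec (ha : 4 ≤ a) {S : GL (Fin a) F} {μ s : F} (hμ0 : μ ≠ 0)
    (hμ : ∀ u u', f₁ ((S : Matrix (Fin a) (Fin a) F) *ᵥ u) ((S : Matrix (Fin a) (Fin a) F) *ᵥ u') = μ * f₁ u u')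
    (hs2 : ∀ u, (S : Matrix (Fin a) (Fin a) F) *ᵥ ((S : Matrix (Fin a) (Fin a) F) *ᵥ u) = s • u)
    (hns : ∃ u, ∀ c : F, (S : Matrix (Fin a) (Fin a) F) *ᵥ u ≠ c • u) :
    ∃ u, (∀ c : F, (S : Matrix (Fin a) (Fin a) F) *ᵥ u ≠ c • u) ∧
      f₁ u ((S : Matrix (Fin a) (Fin a) F) *ᵥ u) = 0 := by
  obtain ⟨u₀, hu₀⟩ := hns
  have h1 : ∀ u, (s + μ) * f₁ u ((S : Matrix (Fin a) (Fin a) F) *ᵥ u) = 0 := fun u => by
    have := hμ u ((S : Matrix (Fin a) (Fin a) F) *ᵥ u)
    rw [hs2, hs.b1.smul_right, hs.skew1 ((S : Matrix (Fin a) (Fin a) F) *ᵥ u) u] at this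
    linear_combination -this
  by_cases hsμ : s + μ = 0
  swap
  · exact ⟨u₀, hu₀, (mul_eq_zero.mp (h1 u₀)).resolve_left hsμ⟩
  by_cases h0 : f₁ u₀ ((S : Matrix (Fin a) (Fin a) F) *ᵥ u₀) = 0
  · exact ⟨u₀, hu₀, h0⟩
  have hs0 : s ≠ 0 := fun h => hμ0 (by linear_combination hsμ - h)
  let q : (Fin a → F) → (Fin a → F) → F := fun x y => f₁ x ((S : Matrix (Fin a) (Fin a) F) *ᵥ y)
  have hqsymm : ∀ x y, q x y = q y x := fun x y => by
    have := hμ y ((S : Matrix (Fin a) (Fin a) F) *ᵥ x)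
    rw [hs2, hs.b1.smul_right] at this
    show f₁ x _ = f₁ y _
    rw [hs.skew1 x]
    refine mul_left_cancel₀ hs0 ?_
    linear_combination -this - f₁ y ((S : Matrix (Fin a) (Fin a) F) *ᵥ x) * hsμ
  have hq : Setting f₁ q := ⟨hs.symp, ⟨⟨fun x y v => hs.b1.add_left _ _ _, fun c x v => hs.b1.smul_left _ _ _,
    fun v x y => by show f₁ v _ = f₁ v _ + f₁ v _; rw [mulVec_add, hs.b1.add_right],
    fun c v x => by show f₁ v _ = c * f₁ v _; rw [mulVec_smul, hs.b1.smul_right]⟩, hqsymm, fun v hv => by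
      obtain ⟨z, hz⟩ := (hs.n1 v hv).2
      refine ⟨⟨((S⁻¹ : GL (Fin a) F) : Matrix (Fin a) (Fin a) F) *ᵥ z, ?_⟩,
        ((S⁻¹ : GL (Fin a) F) : Matrix (Fin a) (Fin a) F) *ᵥ z, ?_⟩
      · rw [hqsymm]; show f₁ v _ ≠ 0; rwa [gl_mulVec_inv]
      · show f₁ v _ ≠ 0; rwa [gl_mulVec_inv]⟩, hs.two⟩
  set w₀ := (S : Matrix (Fin a) (Fin a) F) *ᵥ u₀ with hw₀
  have hq0w : q u₀ w₀ = 0 := by
    show f₁ u₀ _ = 0
    rw [hw₀, hs2, hs.b1.smul_right, hs.alt1, mul_zero]
  have hqw : q w₀ w₀ ≠ 0 := by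
    show f₁ w₀ _ ≠ 0
    rw [hw₀, hs2, hs.b1.smul_right, hs.skew1]
    exact mul_ne_zero hs0 (neg_ne_zero.mpr h0)
  have o1 := hq.orth_snoc (p := (Fin.elim0 : Fin 0 → Fin a → F)) ⟨fun i => i.elim0, fun i => i.elim0⟩
    (h := u₀) h0 (fun i => i.elim0)
  have o2 := hq.orth_snoc o1 hqw (fun i => by
    induction i using Fin.lastCases with
    | last => rw [Fin.snoc_last, hqsymm]; exact hq0w
    | cast i => exact i.elim0)
  obtain ⟨h₁, hh₁, hp₁⟩ := hq.exists_aniso_perp o2 (by omega)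
  have o3 := hq.orth_snoc o2 hh₁ hp₁
  obtain ⟨h₂, hh₂, hp₂⟩ := hq.exists_aniso_perp o3 (by omega)
  obtain ⟨α, β, hαβ⟩ := exists_sq_add_sq
    (Nat.odd_iff.mpr (FiniteField.odd_card_of_char_ne_two fun h => hs.two (by
      have : CharP F 2 := ringChar.of_eq h
      exact CharTwo.two_eq_zero))) hh₁ hh₂ (- q u₀ u₀)
  have e10 : q h₁ u₀ = 0 := by simpa only [Fin.snoc_castSucc, Fin.snoc_last] using hp₁ (Fin.last 0).castSucc
  have e11 : q h₁ w₀ = 0 := by simpa only [Fin.snoc_castSucc, Fin.snoc_last] using hp₁ (Fin.last 1)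
  have e20 : q h₂ u₀ = 0 := by simpa only [Fin.snoc_castSucc, Fin.snoc_last] using hp₂ (Fin.last 0).castSucc.castSucc
  have e21 : q h₂ w₀ = 0 := by simpa only [Fin.snoc_castSucc, Fin.snoc_last] using hp₂ (Fin.last 1).castSucc
  have e2h : q h₂ h₁ = 0 := by simpa only [Fin.snoc_castSucc, Fin.snoc_last] using hp₂ (Fin.last 2)
  obtain ⟨h, hh⟩ : ∃ h, h = α • h₁ + β • h₂ := ⟨_, rfl⟩
  have ehu : q h u₀ = 0 := by rw [hh, hq.b2.add_left, hq.b2.smul_left, hq.b2.smul_left, e10, e20]; ring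
  have ehw : q h w₀ = 0 := by rw [hh, hq.b2.add_left, hq.b2.smul_left, hq.b2.smul_left, e11, e21]; ring
  have ehh : q h h = - q u₀ u₀ := by
    rw [hh]
    simp only [hq.b2.add_left, hq.b2.add_right, hq.b2.smul_left, hq.b2.smul_right, hqsymm h₁ h₂, e2h]
    linear_combination hαβ
  refine ⟨u₀ + h, fun c hc => ?_, ?_⟩
  · -- compare the components along `u₀`
    have h2 : q ((S : Matrix (Fin a) (Fin a) F) *ᵥ (u₀ + h)) u₀ = c * q u₀ u₀ := by
      rw [hc, hq.b2.smul_left, hq.b2.add_left, ehu, add_zero]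
    rw [mulVec_add, hq.b2.add_left, ← hw₀, hqsymm w₀, hq0w, zero_add] at h2
    have h3 : q ((S : Matrix (Fin a) (Fin a) F) *ᵥ h) u₀ = 0 := by
      show f₁ _ _ = 0
      rw [hμ]
      have h4 : f₁ h ((S : Matrix (Fin a) (Fin a) F) *ᵥ w₀) = 0 := ehw
      rw [hw₀, hs2, hs.b1.smul_right] at h4
      rw [(mul_eq_zero.mp h4).resolve_left hs0, mul_zero]
    rw [h3, eq_comm, mul_eq_zero] at h2
    rw [h2.resolve_right h0, zero_smul, ← mulVec_zero (S : Matrix (Fin a) (Fin a) F)] at hc
    have h5 := gl_mulVec_inj S hc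
    have h6 : q (u₀ + h) u₀ = q u₀ u₀ := by rw [hq.b2.add_left, ehu, add_zero]
    rw [h5, bl_zero_left hq.b2] at h6
    exact h0 h6.symm
  · show q (u₀ + h) (u₀ + h) = 0
    rw [hq.b2.add_left, hq.b2.add_right, hq.b2.add_right, hqsymm u₀ h, ehu, ehh]
    ring

/-- The first slice. -/
theorem top (ha : 2 ≤ a) (hb : 3 ≤ b) (hcase : b = 3 ∨ 5 ≤ b ∨ 4 ≤ a) (hLM : 𝕃 ≤ M) (hM : M ≤ isom Φ)
    {g : GL (Idx a b) F} (hg : g ∈ M) (hgL : g ∉ 𝕃) : Grow f₁ f₂ M (Fin.elim0 : Fin 0 → Fin b → F) := by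
  classical
  by_contra hG
  have ha' : 0 < a := by omega
  rcases Nat.lt_or_ge b 4 with hb4 | hb4
  · exact hs.top_three ha hb hLM hM hG (by omega) hg hgL
  obtain ⟨e₁, he₁, -⟩ := hs.exists_aniso_perp (p := (Fin.elim0 : Fin 0 → Fin b → F))
    ⟨fun i => i.elim0, fun i => i.elim0⟩ (by omega)
  have o1 := hs.orth_snoc (p := (Fin.elim0 : Fin 0 → Fin b → F)) ⟨fun i => i.elim0, fun i => i.elim0⟩
    (h := e₁) he₁ fun i => i.elim0
  obtain ⟨e₂, he₂, hp₂⟩ := hs.exists_aniso_perp o1 (by omega)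
  have h12 : f₂ e₁ e₂ = 0 := by rw [hs.symm2]; simpa only [Fin.snoc_last] using hp₂ (Fin.last 0)
  obtain ⟨hz, hz2, hz1, hzfix⟩ := hs.plane_props he₁ he₂ h12
  have hN : ∀ h ∈ M, h * krG ((1 : GL (Fin a) F), rfl' f₂ e₁ * rfl' f₂ e₂) * h⁻¹ ∈ 𝕃 :=
    fun h hh => hs.plane_mem ha hb hLM hM hG hb4 he₁ he₂ h12 hh
  set z := rfl' f₂ e₁ * rfl' f₂ e₂ with hzdef
  obtain ⟨k₀, hk₀, hk₀p⟩ := hs.exists_ne_perp ![e₁, e₂] (by omega)
  have hCz : ∀ x ∈ M, x * krG ((1 : GL (Fin a) F), z) = krG ((1 : GL (Fin a) F), z) * x → x ∈ 𝕃 :=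
    fun x hx h => hs.top_cent ha hb hLM hM hG hx hz hz2 hz1 hk₀ (hzfix _ (hk₀p 0) (hk₀p 1)) h
  set Z := krG ((1 : GL (Fin a) F), z) with hZ
  set x := g * Z * g⁻¹ with hx
  have hxL : x ∈ 𝕃 := hN g hg
  obtain ⟨S, T, μ, hμ, hxST, hSμ, hTμ⟩ := hs.tens_cases ha' hxL (by omega)
  -- an anisotropic eigenvector is impossible
  have heig : ∀ w, f₂ w w ≠ 0 → ∀ c : F, (T : Matrix (Fin b) (Fin b) F) *ᵥ w ≠ c • w := by
    intro w hw c hc
    have hc0 : c ≠ 0 := fun h => hw (by
      rw [h, zero_smul, ← mulVec_zero (T : Matrix (Fin b) (Fin b) F)] at hc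
      rw [gl_mulVec_inj T hc, bl_zero_left hs.b2])
    have hrr : rfl' f₂ ((T : Matrix (Fin b) (Fin b) F) *ᵥ w) = rfl' f₂ w := by
      refine gl_ext fun v => ?_
      rw [hs.rfl2_mulVec (by rw [hTμ]; exact mul_ne_zero (inv_ne_zero hμ) hw), hs.rfl2_mulVec hw, hc,
        hs.b2.smul_left, hs.b2.smul_right, hs.b2.smul_right, smul_smul]
      congr 2
      field_simp
    have hcomm : x * krG ((1 : GL (Fin a) F), rfl' f₂ w) * x⁻¹ = krG ((1 : GL (Fin a) F), rfl' f₂ w) := by
      rw [hxST, hs.krG_conj, hs.conj_rfl (inv_ne_zero hμ) hTμ hw, hrr]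
    have h1 := hCz (g⁻¹ * krG ((1 : GL (Fin a) F), rfl' f₂ w) * g)
      (M.mul_mem (M.mul_mem (M.inv_mem hg) (hLM (hs.rflK_mem hw))) hg) (by
        have h2 : Z = g⁻¹ * x * g := by rw [hx]; group
        rw [mul_inv_eq_iff_eq_mul] at hcomm
        rw [h2, show g⁻¹ * krG ((1 : GL (Fin a) F), rfl' f₂ w) * g * (g⁻¹ * x * g)
          = g⁻¹ * (krG ((1 : GL (Fin a) F), rfl' f₂ w) * x) * g by group, ← hcomm]
        group)
    have h3 := hs.top_refl ha hb hLM hM hG (M.inv_mem hg) hw (by rwa [inv_inv])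
    exact hgL (by simpa using (𝕃).inv_mem h3)
  have hx2 : x * x = 1 := by
    rw [hx, show g * Z * g⁻¹ * (g * Z * g⁻¹) = g * (Z * Z) * g⁻¹ by group, hZ, ← map_mul, Prod.mk_mul_mk, one_mul,
      hz2, Prod.mk_one_one, map_one, mul_one, mul_inv_cancel]
  -- the first component is not scalar
  have hSns : ∃ u, ∀ c : F, (S : Matrix (Fin a) (Fin a) F) *ᵥ u ≠ c • u := by
    by_contra hcon
    push Not at hcon
    obtain ⟨s, hS⟩ := hs.scalar_of_eigen_gl hcon
    obtain ⟨T', hT', hxT'⟩ := hs.eq_one_kron' ha' (by omega) hxL hxST hS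
    have hT'2 : T' * T' = 1 := by
      refine krG_one_inj ha' (a := a) ?_
      rw [Prod.mk_one_one, map_one, ← hx2, hxT', ← map_mul, Prod.mk_mul_mk, one_mul]
    obtain ⟨k, hk, hkT, -⟩ := hs.exists_eigen_family hT' hT'2 (m := b) (p := (Fin.elim0 : Fin 0 → Fin b → F))
      (by omega) ⟨fun i => i.elim0, fun i => i.elim0⟩ (fun i => i.elim0)
    have heq : (T : Matrix (Fin b) (Fin b) F) = s⁻¹ • (T' : Matrix (Fin b) (Fin b) F) := by
      have hs0 : s ≠ 0 := fun h => by
        have h1 := Units.mul_inv S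
        rw [hS, h, zero_smul, zero_mul] at h1
        have h2 := congrFun (congrFun h1 ⟨0, ha'⟩) ⟨0, ha'⟩
        simp at h2
      refine Matrix.ext_iff_mulVec.mpr fun w => ten_inj_right (x := (Pi.single ⟨0, ha'⟩ 1 : Fin a → F))
        (by simp) ?_
      have h1 := congrArg (fun m : GL (Idx a b) F =>
        (m : Matrix (Idx a b) (Idx a b) F) *ᵥ ten (Pi.single ⟨0, ha'⟩ 1) w) (hxST.symm.trans hxT')
      simp only [krG_val, Units.val_one, kron_mulVec_ten, one_mulVec, hS, smul_mulVec, ten_smul_left] at h1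
      rw [smul_mulVec, ten_smul_right, ← h1, smul_smul, inv_mul_cancel₀ hs0, one_smul]
    have hj := hk.1 ⟨0, by omega⟩
    rcases hkT ⟨0, by omega⟩ with h | h
    · exact heig _ hj s⁻¹ (by rw [heq, smul_mulVec, h])
    · exact heig _ hj (-s⁻¹) (by rw [heq, smul_mulVec, h, smul_neg, neg_smul])
  obtain ⟨e₀, -⟩ : ∃ e : Fin a → F, e = Pi.single ⟨0, ha'⟩ 1 := ⟨_, rfl⟩
  have hval : ∀ u w, ten ((S : Matrix (Fin a) (Fin a) F) *ᵥ ((S : Matrix (Fin a) (Fin a) F) *ᵥ u))
      ((T : Matrix (Fin b) (Fin b) F) *ᵥ ((T : Matrix (Fin b) (Fin b) F) *ᵥ w)) = ten u w := fun u w => by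
    have h1 := congrArg (fun m : GL (Idx a b) F => (m : Matrix (Idx a b) (Idx a b) F) *ᵥ ten u w) hx2
    simpa only [hxST, gl_mul_mulVec, krG_val, kron_mulVec_ten, Units.val_one, one_mulVec] using h1
  obtain ⟨s, hs2⟩ : ∃ s : F, ∀ u, (S : Matrix (Fin a) (Fin a) F) *ᵥ ((S : Matrix (Fin a) (Fin a) F) *ᵥ u)
      = s • u := by
    have hw : (Pi.single ⟨0, by omega⟩ 1 : Fin b → F) ≠ 0 := by simp
    obtain ⟨s, hS2⟩ := scalar_of_fix (S := (S : Matrix (Fin a) (Fin a) F) * (S : Matrix (Fin a) (Fin a) F))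
      (T := (T : Matrix (Fin b) (Fin b) F) * (T : Matrix (Fin b) (Fin b) F)) hw (fun u => by
        rw [kron_mulVec_ten, ← mulVec_mulVec, ← mulVec_mulVec]
        exact hval u _)
    exact ⟨s, fun u => by rw [mulVec_mulVec, hS2, smul_mulVec, one_mulVec]⟩
  rcases Nat.lt_or_ge b 5 with hb5 | hb5
  · -- `b = 4`
    have ha4 : 4 ≤ a := by rcases hcase with h | h | h <;> omega
    have hb' : b = 4 := by omega
    set N := InnL 𝕃 M with hNdef
    have hxN : x ∈ N := InnL_conj (show Z ∈ N from hN) hg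
    obtain ⟨u, hu, huS⟩ := hs.exists_skew_vec ha4 hμ hSμ hs2 hSns
    set u' := (S : Matrix (Fin a) (Fin a) F) *ᵥ u with hu'
    let D : (Fin a → F) → F → GL (Idx a b) F := fun v k => krG (ctv f₁ v k, (1 : GL (Fin b) F))
    have hD : ∀ v k, D v k ∈ 𝕃 := fun v k => hs.krG_mem (hs.ctv1_mem v k) (Subgroup.one_mem _)
    have hDmul : ∀ v k l, D v k * D v l = D v (k + l) := fun v k l => by
      simp only [D, ← map_mul, Prod.mk_mul_mk, mul_one, ctv_add hs.b1 hs.n1 (hs.alt1 _)]
    have hDinv : ∀ v k, (D v k)⁻¹ = D v (-k) := fun v k => by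
      refine inv_eq_of_mul_eq_one_right ?_
      rw [hDmul, add_neg_cancel]
      simp only [D, ctv, zero_smul, tv_zero_left, Prod.mk_one_one, map_one]
    have hDconj : ∀ S' ∈ isom f₁, ∀ v k, krG (S', (1 : GL (Fin b) F)) * D v k * (krG (S', 1))⁻¹
        = D ((S' : Matrix (Fin a) (Fin a) F) *ᵥ v) k := fun S' hS' v k => by
      simp only [D, ← map_inv, ← map_mul, Prod.inv_mk, Prod.mk_mul_mk, inv_one, one_mul,
        conj_ctv hs.b1 hs.n1 hs.alt1 hS']
    have hxt : x * D u 1 * x⁻¹ = D u' μ⁻¹ := by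
      simp only [D, hxST, ← map_inv, ← map_mul, Prod.inv_mk, Prod.mk_mul_mk, mul_one, mul_inv_cancel]
      congr 2
      refine gl_ext fun v => ?_
      rw [gl_mul_mulVec, gl_mul_mulVec, hs.ctv1_mulVec, mulVec_add, mulVec_smul, gl_mulVec_inv, ← hu',
        hs.ctv1_mulVec]
      congr 2
      rw [one_mul, eq_inv_mul_iff_mul_eq₀ hμ, ← hSμ, gl_mulVec_inv]
    have hm₀ : D u' μ⁻¹ * D u (-1) ∈ N := by
      rw [← hxt, ← hDinv u 1]
      have h1 := N.mul_mem hxN (InnL_conj (N.inv_mem hxN) (hLM (hD u 1)))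
      rwa [show x * (D u 1 * x⁻¹ * (D u 1)⁻¹) = x * D u 1 * x⁻¹ * (D u 1)⁻¹ by group] at h1
    have hu'u : f₁ u' u = 0 := by rw [hs.skew1, huS, neg_zero]
    have hmove : ∀ w, f₁ w u = 0 → (∀ c : F, c • u ≠ w) → D w μ⁻¹ * D u (-1) ∈ N := by
      intro w hw hwu
      obtain ⟨S', hS', hS'u, hS'w⟩ := hs.exists_move1_fix hu'u hw (fun c h => hu c h.symm) hwu
      have h1 := InnL_conj hm₀ (hLM (hs.krG_mem hS' (Subgroup.one_mem (isom f₂))))
      rwa [show krG (S', (1 : GL (Fin b) F)) * (D u' μ⁻¹ * D u (-1)) * (krG (S', 1))⁻¹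
        = krG (S', 1) * D u' μ⁻¹ * (krG (S', 1))⁻¹ * (krG (S', 1) * D u (-1) * (krG (S', 1))⁻¹) by group,
        hDconj S' hS', hDconj S' hS', hS'u, hS'w] at h1
    have hp := hmove (u' + u) (by rw [hs.b1.add_left, hu'u, hs.alt1, add_zero]) (fun c hc => hu (c - 1) (by
      rw [sub_smul, one_smul, hc, add_sub_cancel_right]))
    have hm := hmove (u' - u) (by rw [bl_sub_left hs.b1, hu'u, hs.alt1, sub_zero]) (fun c hc => hu (c + 1) (by
      rw [add_smul, one_smul, hc, sub_add_cancel]))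
    have hkey : D u (2 * μ⁻¹) ∈ N := by
      have h1 := N.mul_mem (N.mul_mem hp hm) (N.mul_mem (N.inv_mem hm₀) (N.inv_mem hm₀))
      convert h1 using 1
      rw [_root_.mul_inv_rev, hDinv, hDinv]
      simp only [D, ← map_mul, Prod.mk_mul_mk, mul_one]
      congr 2
      refine gl_ext fun v => ?_
      have huu' : f₁ u u' = 0 := huS
      simp only [gl_mul_mulVec, hs.ctv1_mulVec, hs.b1.add_left, hs.b1.add_right, bl_sub_left hs.b1,
        bl_sub_right hs.b1, hs.b1.smul_left, hs.alt1, hu'u, huu']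
      simp only [mul_zero, add_zero, sub_zero, zero_add]
      module
    have hu0 : u ≠ 0 := fun h => hu 0 (by rw [hu', h, mulVec_zero, smul_zero])
    set k := 2 * μ⁻¹ with hkdef
    have hk0 : k ≠ 0 := mul_ne_zero hs.two (inv_ne_zero hμ)
    clear_value k
    have hall : ∀ v, v ≠ 0 → D v k ∈ N := by
      intro v hv
      obtain ⟨S', hS', hS'u⟩ := hs.exists_move1 hu0 hv
      have h1 := InnL_conj hkey (hLM (hs.krG_mem hS' (Subgroup.one_mem (isom f₂))))
      rwa [hDconj S' hS', hS'u] at h1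
    have hcomm : ∀ v, D v k * Z = Z * D v k := fun v => by
      simp only [D, hZ, ← map_mul, Prod.mk_mul_mk, mul_one, one_mul]
    -- the image of every slice is an eigenspace
    have heigS : ∀ v, v ≠ 0 → ∃ c : F, ∀ w, (krG (S, (1 : GL (Fin b) F)) : Matrix (Idx a b) (Idx a b) F) *ᵥ
        ((g : Matrix (Idx a b) (Idx a b) F) *ᵥ ten v w) = c • ((g : Matrix (Idx a b) (Idx a b) F) *ᵥ ten v w) := by
      intro v hv
      set m := g * D v k * g⁻¹ with hmdef
      have hmL : m ∈ 𝕃 := hall v hv g hg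
      obtain ⟨p, hp⟩ : ∃ p, p = ringChar F := ⟨_, rfl⟩
      have hp' : Fact p.Prime := ⟨hp ▸ CharP.char_is_prime F _⟩
      have hpc : CharP F p := hp ▸ (inferInstance : CharP F (ringChar F))
      have hpow : ∀ j : ℕ, D v k ^ j = D v ((j : F) * k) := by
        intro j
        induction j with
        | zero => simp only [D, ctv, Nat.cast_zero, zero_mul, zero_smul, tv_zero_left, Prod.mk_one_one, map_one, pow_zero]
        | succ j ih => rw [pow_succ, ih, hDmul, Nat.cast_succ]; congr 1; ring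
      have hmp : m ^ p = 1 := by
        rw [hmdef, conj_pow, hpow, CharP.cast_eq_zero, zero_mul]
        simp only [D, ctv, zero_smul, tv_zero_left, Prod.mk_one_one, map_one, mul_one, mul_inv_cancel]
      obtain ⟨S₁, T₁, μ₁, hμ₁, hm1, hS₁, hT₁⟩ := hs.tens_cases ha' hmL (by omega)
      have hw : (Pi.single ⟨0, by omega⟩ 1 : Fin b → F) ≠ 0 := by simp
      obtain ⟨σ, hσ⟩ := scalar_of_fix (S := (S₁ : Matrix (Fin a) (Fin a) F) ^ p)
        (T := (T₁ : Matrix (Fin b) (Fin b) F) ^ p) hw (fun x => by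
          rw [← Units.val_pow_eq_pow_val, ← Units.val_pow_eq_pow_val, ← krG_val, ← Prod.pow_mk, map_pow, ← hm1,
            hmp, Units.val_one, one_mulVec])
      obtain ⟨ν, hν⟩ := (PerfectRing.bijective_frobenius (R := F) (p := p)).surjective σ
      simp only [frobenius_def] at hν
      have hσ0 : σ ≠ 0 := fun h => by
        rw [h, zero_smul, ← Units.val_pow_eq_pow_val] at hσ
        have h1 := Units.mul_inv (S₁ ^ p)
        rw [hσ, zero_mul] at h1
        have h2 := congrFun (congrFun h1 ⟨0, ha'⟩) ⟨0, ha'⟩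
        simp at h2
      have hν0 : ν ≠ 0 := fun h => hσ0 (by rw [← hν, h, zero_pow (Fact.out (p := p.Prime)).ne_zero])
      set A := ν⁻¹ • (S₁ : Matrix (Fin a) (Fin a) F) with hA
      set B := ν • (T₁ : Matrix (Fin b) (Fin b) F) with hB
      have hAB : (m : Matrix (Idx a b) (Idx a b) F) = A ⊗ₖ B := by
        rw [hm1, krG_val, hA, hB, smul_kronecker, kronecker_smul, smul_smul, inv_mul_cancel₀ hν0, one_smul]
      have hAp : A ^ p = 1 := by
        rw [hA, smul_pow, hσ, smul_smul, inv_pow, hν, inv_mul_cancel₀ hσ0, one_smul]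
      have hBp : B ^ p = 1 := by
        refine Matrix.ext_iff_mulVec.mpr fun w => ?_
        have h1 : (m ^ p : GL (Idx a b) F) = 1 := hmp
        have h2 := congrArg (fun m : GL (Idx a b) F =>
          (m : Matrix (Idx a b) (Idx a b) F) *ᵥ ten (Pi.single ⟨0, ha'⟩ 1) w) h1
        simp only [hm1, ← map_pow, Prod.pow_mk, krG_val, Units.val_pow_eq_pow_val, kron_mulVec_ten, hσ,
          smul_mulVec, one_mulVec, Units.val_one, ten_smul_left, ← ten_smul_right] at h2
        have h3 := ten_inj_right (by simp) h2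
        rw [hB, smul_pow, hν, smul_mulVec, one_mulVec]
        exact h3
      have : Nonempty (Fin a) := ⟨⟨0, ha'⟩⟩
      have : Nonempty (Fin b) := ⟨⟨0, by omega⟩⟩
      set N₁ := A - 1 with hN₁
      set N₂ := B - 1 with hN₂
      have hN₁p : N₁ ^ p = 0 := by
        rw [hN₁, sub_pow_char_of_commute (p := p) (Commute.one_right A), hAp, one_pow, sub_self]
      have hN₂p : N₂ ^ p = 0 := by
        rw [hN₂, sub_pow_char_of_commute (p := p) (Commute.one_right B), hBp, one_pow, sub_self]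
      let Yv : (Idx a b → F) → (Idx a b → F) := fun y => (m : Matrix (Idx a b) (Idx a b) F) *ᵥ y - y
      have hY2 : ∀ y, Yv (Yv y) = 0 := by
        intro y
        have hDD : ∀ y, (D v k : Matrix (Idx a b) (Idx a b) F) *ᵥ
            ((D v k : Matrix (Idx a b) (Idx a b) F) *ᵥ y - y) = (D v k : Matrix (Idx a b) (Idx a b) F) *ᵥ y - y := by
          intro y
          simp only [D, hs.ctvK_mulVec, add_sub_cancel_left, hs.evU_smul, hs.evU_ten, hs.alt1, zero_smul, smul_zero,
            ten_zero_right, add_zero]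
        show (m : Matrix (Idx a b) (Idx a b) F) *ᵥ (_ - y) - ((m : Matrix (Idx a b) (Idx a b) F) *ᵥ y - y) = 0
        rw [hmdef]
        conv_lhs => arg 2; arg 2; rw [← gl_mulVec_inv g y]
        conv_lhs => arg 1; arg 2; arg 2; rw [← gl_mulVec_inv g y]
        simp only [gl_mul_mulVec, gl_inv_mulVec, ← mulVec_sub, hDD, sub_self, mulVec_zero]
      have hYt : ∀ (x : Fin a → F) (w : Fin b → F), Yv (ten x w)
          = ten (N₁ *ᵥ x) w + ten x (N₂ *ᵥ w) + ten (N₁ *ᵥ x) (N₂ *ᵥ w) := by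
        intro x w
        show (m : Matrix (Idx a b) (Idx a b) F) *ᵥ ten x w - ten x w = _
        rw [hAB, kron_mulVec_ten, hN₁, hN₂, sub_mulVec, sub_mulVec, one_mulVec, one_mulVec]
        simp only [ten_sub_left, ten_sub_right]
        abel
      have hYadd : ∀ y y', Yv (y + y') = Yv y + Yv y' := fun y y' => by
        simp only [Yv, mulVec_add]; abel
      obtain ⟨w₀, hw₀, hw₀k⟩ := nilpotent_kernel hN₂p
      obtain ⟨x₀, hx₀, hx₀k⟩ := nilpotent_kernel hN₁p
      have hN₁2 : ∀ x, N₁ *ᵥ (N₁ *ᵥ x) = 0 := fun x => by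
        have h1 := hY2 (ten x w₀)
        simp only [hYt, hw₀k, ten_zero_right, add_zero] at h1
        exact (ten_eq_zero.mp h1).resolve_right hw₀
      have hN₂2 : ∀ w, N₂ *ᵥ (N₂ *ᵥ w) = 0 := fun w => by
        have h1 := hY2 (ten x₀ w)
        simp only [hYt, hx₀k, ten_zero_left, zero_add, add_zero] at h1
        exact (ten_eq_zero.mp h1).resolve_left hx₀
      have hone : ∀ x w, N₁ *ᵥ x = 0 ∨ N₂ *ᵥ w = 0 := fun x w => by
        have h1 := hY2 (ten x w)
        simp only [hYt, hYadd, hN₁2, hN₂2, ten_zero_left, ten_zero_right, add_zero, zero_add] at h1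
        rw [← two_smul F, smul_eq_zero] at h1
        exact ten_eq_zero.mp (h1.resolve_left hs.two)
      have hrank : Module.finrank F (img m) = b := by
        rw [hmdef, finrank_img_conj, img_kron_one, finrank_colsIn]
        suffices h : img (ctv f₁ v k) = Submodule.span F {v} by rw [h, finrank_span_singleton hv, mul_one]
        refine le_antisymm ?_ ?_
        · intro w hw
          obtain ⟨y, rfl⟩ := mem_img.mp hw
          rw [hs.ctv1_mulVec, add_sub_cancel_left]
          exact Submodule.smul_mem _ _ (Submodule.mem_span_singleton_self v)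
        · rw [Submodule.span_singleton_le_iff_mem]
          obtain ⟨y, hy⟩ := (hs.n1 v hv).1
          refine mem_img.mpr ⟨(k * f₁ y v)⁻¹ • y, ?_⟩
          rw [hs.ctv1_mulVec, add_sub_cancel_left, hs.b1.smul_left, ← mul_assoc, mul_comm k, mul_assoc,
            inv_mul_cancel₀ (mul_ne_zero hk0 hy), one_smul]
      -- the second component is trivial
      have hB1 : ∀ w, N₂ *ᵥ w = 0 := by
        by_contra hcon
        push Not at hcon
        obtain ⟨w₁, hw₁⟩ := hcon
        have hA1 : ∀ x, N₁ *ᵥ x = 0 := fun x => (hone x w₁).resolve_right hw₁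
        have hSs : (S₁ : Matrix (Fin a) (Fin a) F) = ν • 1 := Matrix.ext_iff_mulVec.mpr fun x => by
          have h1 := hA1 x
          rw [hN₁, sub_mulVec, one_mulVec, sub_eq_zero, hA, smul_mulVec] at h1
          rw [smul_mulVec, one_mulVec]
          conv_rhs => rw [← h1, smul_smul, mul_inv_cancel₀ hν0, one_smul]
        obtain ⟨T₂, hT₂, hmT₂⟩ := hs.eq_one_kron' ha' (by omega) hmL hm1 hSs
        have hTB : ∀ w, (T₂ : Matrix (Fin b) (Fin b) F) *ᵥ w = B *ᵥ w := fun w => by
          have h1 := congrArg (fun m : GL (Idx a b) F =>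
            (m : Matrix (Idx a b) (Idx a b) F) *ᵥ ten (Pi.single ⟨0, ha'⟩ 1) w) (hm1.symm.trans hmT₂)
          simp only [krG_val, Units.val_one, kron_mulVec_ten, one_mulVec, hSs, smul_mulVec, ten_smul_left,
            ← ten_smul_right] at h1
          rw [hB, smul_mulVec, ten_inj_right (by simp) h1]
        have hr := hrank
        rw [hmT₂, img_one_kron, TensorUnitary.finrank_rowsIn] at hr
        have hr1 : Module.finrank F (img T₂) ≤ 1 := by
          rcases Nat.lt_or_ge 1 (Module.finrank F (img T₂)) with h | h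
          · have := Nat.mul_le_mul ha4 h; omega
          · exact h
        set c := N₂ *ᵥ w₁ with hc
        have hT₂N : ∀ w, (T₂ : Matrix (Fin b) (Fin b) F) *ᵥ w = w + N₂ *ᵥ w := fun w => by
          rw [hTB, hN₂, sub_mulVec, one_mulVec]; abel
        have hci : ∀ w, N₂ *ᵥ w ∈ img T₂ := fun w => mem_img.mpr ⟨w, by rw [hT₂N, add_sub_cancel_left]⟩
        have hspan : img T₂ = Submodule.span F {c} := by
          refine (Submodule.eq_of_le_of_finrank_le ((Submodule.span_singleton_le_iff_mem _ _).mpr (hci w₁)) ?_).symm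
          rw [finrank_span_singleton hw₁]; exact hr1
        have h1 := hs.eq_one_of_line hT₂ hw₁ (by rw [hT₂N, hN₂2, add_zero]) (fun w => by
          obtain ⟨α, hα⟩ := Submodule.mem_span_singleton.mp (hspan ▸ hci w : N₂ *ᵥ w ∈ Submodule.span F {c})
          exact ⟨α, by rw [hα, hT₂N]⟩)
        have h2 := hT₂N w₁
        rw [h1, Units.val_one, one_mulVec, left_eq_add] at h2
        exact hw₁ h2
      have hTs : (T₁ : Matrix (Fin b) (Fin b) F) = ν⁻¹ • 1 := Matrix.ext_iff_mulVec.mpr fun w => by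
        have h1 := hB1 w
        rw [hN₂, sub_mulVec, one_mulVec, sub_eq_zero, hB, smul_mulVec] at h1
        rw [smul_mulVec, one_mulVec]
        conv_rhs => rw [← h1, smul_smul, inv_mul_cancel₀ hν0, one_smul]
      obtain ⟨S₂, hS₂, hmS₂⟩ := hs.eq_kron_one (by omega) hmL hm1 hTs
      have hr := hrank
      rw [hmS₂, img_kron_one, finrank_colsIn] at hr
      have hr1 : Module.finrank F (img S₂) = 1 := Nat.eq_of_mul_eq_mul_left (by omega : 0 < b) (by omega)
      obtain ⟨⟨v', hv'⟩, hv'0, hspan⟩ := finrank_eq_one_iff'.mp hr1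
      have hmx : m * x = x * m := by
        rw [hmdef, hx, show g * D v k * g⁻¹ * (g * Z * g⁻¹) = g * (D v k * Z) * g⁻¹ by group, hcomm]
        group
      have hSS : ∀ y, (S : Matrix (Fin a) (Fin a) F) *ᵥ ((S₂ : Matrix (Fin a) (Fin a) F) *ᵥ y)
          = (S₂ : Matrix (Fin a) (Fin a) F) *ᵥ ((S : Matrix (Fin a) (Fin a) F) *ᵥ y) := fun y => by
        have h1 := congrArg (fun m : GL (Idx a b) F =>
          (m : Matrix (Idx a b) (Idx a b) F) *ᵥ ten y (((T⁻¹ : GL (Fin b) F) : Matrix (Fin b) (Fin b) F) *ᵥ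
            Pi.single ⟨0, by omega⟩ 1)) hmx
        simp only [gl_mul_mulVec, hmS₂, hxST, krG_val, Units.val_one, kron_mulVec_ten, one_mulVec, gl_mulVec_inv]
          at h1
        exact (ten_inj_left hw h1).symm
      obtain ⟨y₁, hy₁⟩ := mem_img.mp hv'
      obtain ⟨c, hc⟩ := hspan ⟨(S : Matrix (Fin a) (Fin a) F) *ᵥ v', mem_img.mpr
        ⟨(S : Matrix (Fin a) (Fin a) F) *ᵥ y₁, by rw [← hSS, ← mulVec_sub, hy₁]⟩⟩
      refine ⟨c, fun w => ?_⟩
      have hmem : (g : Matrix (Idx a b) (Idx a b) F) *ᵥ ten v w ∈ img m := by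
        rw [hmdef, img_conj]
        refine Submodule.mem_map_of_mem (f := (g : Matrix (Idx a b) (Idx a b) F).mulVecLin) ?_
        obtain ⟨y, hy⟩ := (hs.n1 v hv).1
        refine mem_img.mpr ⟨ten y ((k * f₁ y v)⁻¹ • w), ?_⟩
        rw [hs.ctvK_mulVec, add_sub_cancel_left, hs.evU_ten, ten_smul_right, ten_smul_right, smul_smul, smul_smul,
          mul_inv_cancel₀ (mul_ne_zero hk0 hy), one_smul]
      rw [hmS₂, img_kron_one] at hmem
      set G := (g : Matrix (Idx a b) (Idx a b) F) *ᵥ ten v w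
      refine funext fun ⟨i, j⟩ => ?_
      show col ((krG (S, (1 : GL (Fin b) F)) : Matrix (Idx a b) (Idx a b) F) *ᵥ G) j i = _
      obtain ⟨α, hα⟩ := hspan ⟨col G j, hmem j⟩
      have hα' : α • v' = col G j := congrArg Subtype.val hα
      have hc' : c • v' = (S : Matrix (Fin a) (Fin a) F) *ᵥ v' := congrArg Subtype.val hc
      rw [krG_val, Units.val_one, kron_one_col, ← hα', mulVec_smul, ← hc', smul_comm, hα']
      rfl
    obtain ⟨w₁, hw₁⟩ : ∃ w₁ : Fin b → F, w₁ ≠ 0 := ⟨Pi.single ⟨0, by omega⟩ 1, by simp⟩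
    obtain ⟨w₂, hw₂⟩ := (hs.n2 w₁ hw₁).2
    let Lm : (Fin a → F) →ₗ[F] (Fin a → F) :=
      { toFun := fun v => (f₂ w₁ w₂)⁻¹ • ev f₂ w₂ (((g⁻¹ : GL (Idx a b) F) : Matrix (Idx a b) (Idx a b) F) *ᵥ
          ((krG (S, (1 : GL (Fin b) F)) : Matrix (Idx a b) (Idx a b) F) *ᵥ
            ((g : Matrix (Idx a b) (Idx a b) F) *ᵥ ten v w₁)))
        map_add' := fun v v' => by simp only [ten_add_left, mulVec_add, hs.ev_add, smul_add]
        map_smul' := fun c v => by simp only [ten_smul_left, mulVec_smul, hs.ev_smul, RingHom.id_apply, smul_comm c] }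
    have hLm : ∀ (v : Fin a → F) (c : F), (∀ w, (krG (S, (1 : GL (Fin b) F)) : Matrix (Idx a b) (Idx a b) F) *ᵥ
        ((g : Matrix (Idx a b) (Idx a b) F) *ᵥ ten v w) = c • ((g : Matrix (Idx a b) (Idx a b) F) *ᵥ ten v w)) →
        Lm v = c • v := fun v c h => by
      simp only [Lm, LinearMap.coe_mk, AddHom.coe_mk]
      rw [h]
      simp only [mulVec_smul, gl_inv_mulVec]
      rw [hs.ev_smul, hs.ev_ten, smul_smul, smul_smul, mul_comm (f₂ w₁ w₂)⁻¹,
        mul_assoc, inv_mul_cancel₀ hw₂, mul_one]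
    obtain ⟨c, hc⟩ := exists_scalar_of_eigen Lm fun v => by
      rcases eq_or_ne v 0 with rfl | hv
      · exact ⟨0, by rw [map_zero, smul_zero]⟩
      · obtain ⟨c, hc⟩ := heigS v hv; exact ⟨c, hLm v c hc⟩
    have hfin : ∀ y, (krG (S, (1 : GL (Fin b) F)) : Matrix (Idx a b) (Idx a b) F) *ᵥ
        ((g : Matrix (Idx a b) (Idx a b) F) *ᵥ y) = c • ((g : Matrix (Idx a b) (Idx a b) F) *ᵥ y) := by
      intro y
      induction y using TensorUnitary.ten_induction with
      | hadd p q hp hq => rw [mulVec_add, mulVec_add, hp, hq, smul_add]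
      | h0 => rw [mulVec_zero, mulVec_zero, smul_zero]
      | h v w =>
        rcases eq_or_ne v 0 with rfl | hv
        · rw [ten_zero_left, mulVec_zero, mulVec_zero, smul_zero]
        obtain ⟨c', hc'⟩ := heigS v hv
        have h1 := hc v
        rw [hLm v c' hc'] at h1
        rw [hc', smul_left_injective F hv h1]
    obtain ⟨u₁, hu₁⟩ := hSns
    refine hu₁ c (ten_inj_left hw₁ ?_)
    have h1 := hfin (((g⁻¹ : GL (Idx a b) F) : Matrix (Idx a b) (Idx a b) F) *ᵥ ten u₁ w₁)
    rw [gl_mulVec_inv, krG_val, Units.val_one, kron_mulVec_ten, one_mulVec] at h1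
    rw [h1, ten_smul_left]
  · -- `5 ≤ b`
    have hTns : ∃ w, ∀ c : F, (T : Matrix (Fin b) (Fin b) F) *ᵥ w ≠ c • w := ⟨e₁, fun c => heig e₁ he₁ c⟩
    have hs0 : s ≠ 0 := fun h => by
      obtain ⟨u₁, hu₁⟩ := hSns
      have h1 := hs2 u₁
      rw [h, zero_smul, ← mulVec_zero (S : Matrix (Fin a) (Fin a) F)] at h1
      exact hu₁ 0 (by rw [gl_mulVec_inj S h1, zero_smul])
    obtain ⟨w, hw⟩ := hs.exists_six hb5 (ν := s⁻¹) (μ := μ⁻¹) (fun w => by
        have h1 := hval (Pi.single ⟨0, ha'⟩ 1) w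
        rw [hs2, ten_smul_left, ← ten_smul_right] at h1
        have h2 := ten_inj_right (by simp) h1
        conv_rhs => rw [← h2, smul_smul, inv_mul_cancel₀ hs0, one_smul]) hTμ hTns
      (fun w c hc => by
        by_contra h
        exact heig w h c hc)
    let Lmap : (Fin 3 → Fin a → F) →ₗ[F] (Idx a b → F) :=
      { toFun := fun ξ => ∑ i, ((x : Matrix (Idx a b) (Idx a b) F) *ᵥ ten (ξ i) (w i) - ten (ξ i) (w i))
        map_add' := fun ξ η => by
          rw [← Finset.sum_add_distrib]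
          refine Finset.sum_congr rfl fun i _ => ?_
          rw [Pi.add_apply, ten_add_left, mulVec_add]; abel
        map_smul' := fun c ξ => by
          rw [RingHom.id_apply, Finset.smul_sum]
          refine Finset.sum_congr rfl fun i _ => ?_
          rw [Pi.smul_apply, ten_smul_left, mulVec_smul, smul_sub] }
    have hinj : Function.Injective Lmap := by
      rw [injective_iff_map_eq_zero]
      intro ξ hξ
      funext i r
      have hrow := congrArg (fun v : Idx a b → F => TensorUnitary.row v r) hξ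
      have hsum : ∀ (f : Fin 3 → Idx a b → F), TensorUnitary.row (∑ i, f i) r = ∑ i, TensorUnitary.row (f i) r :=
        fun f => by funext j; simp [TensorUnitary.row, Finset.sum_apply]
      have h0 : TensorUnitary.row (0 : Idx a b → F) r = 0 := rfl
      simp only [Lmap, LinearMap.coe_mk, AddHom.coe_mk, hsum, h0, row_sub, hxST, krG_val, kron_mulVec_ten,
        TensorUnitary.row_ten] at hrow
      have h1 := Fintype.linearIndependent_iff.mp hw
        (Sum.elim (fun j => -(ξ j r)) fun j => ((S : Matrix (Fin a) (Fin a) F) *ᵥ ξ j) r) (by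
          rw [Fintype.sum_sum_type, ← Finset.sum_add_distrib, ← hrow]
          refine Finset.sum_congr rfl fun j _ => ?_
          simp only [Sum.elim_inl, Sum.elim_inr]
          module)
      simpa using h1 (Sum.inl i)
    have h1 : LinearMap.range Lmap ≤ img x := by
      rintro _ ⟨ξ, rfl⟩
      simp only [Lmap, LinearMap.coe_mk, AddHom.coe_mk]
      exact Submodule.sum_mem _ fun i _ => sub_mem_img x _
    have h2 := Submodule.finrank_mono h1
    rw [LinearMap.finrank_range_of_inj hinj, Module.finrank_pi_fintype, Finset.sum_const, Finset.card_univ,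
      Fintype.card_fin, Module.finrank_fin_fun, smul_eq_mul, hx, finrank_img_conj, hZ, img_one_kron,
      TensorUnitary.finrank_rowsIn] at h2
    have h3 : Module.finrank F (img z) ≤ 2 := by
      have hli : LinearIndependent F ![e₁, e₂] := hs.orth_linearIndependent ⟨fun i => by fin_cases i <;> assumption,
        fun i j hij => by
          fin_cases i <;> fin_cases j <;> first | exact absurd rfl hij | exact h12 | (rw [hs.symm2]; exact h12)⟩
      have hsub : img z ≤ Submodule.span F (Set.range ![e₁, e₂]) := by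
        intro v hv
        obtain ⟨y, rfl⟩ := mem_img.mp hv
        rw [hzdef, gl_mul_mulVec, hs.rfl2_mulVec he₂ y, mulVec_sub, mulVec_smul,
          hs.rfl2_fix he₁ (show f₂ e₂ e₁ = 0 by rw [hs.symm2, h12]), hs.rfl2_mulVec he₁ y]
        convert Submodule.neg_mem _ (Submodule.add_mem _
          (Submodule.smul_mem _ (2 / f₂ e₁ e₁ * f₂ y e₁) (Submodule.subset_span (s := Set.range ![e₁, e₂]) ⟨(0 : Fin 2), rfl⟩))
          (Submodule.smul_mem _ (2 / f₂ e₂ e₂ * f₂ y e₂) (Submodule.subset_span (s := Set.range ![e₁, e₂]) ⟨(1 : Fin 2), rfl⟩))) using 1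
        simp only [Matrix.cons_val_zero, Matrix.cons_val_one]
        abel
      have := Submodule.finrank_mono hsub
      rwa [finrank_span_eq_card hli, Fintype.card_fin] at this
    have h4 := Nat.mul_le_mul_left a h3
    omega

end Setting

end CfsgLib.TensorSympOrth
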