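import Cfsg.Agent.TensorUnitary.Product
import Cfsg.Agent.MaxSub.QuadraticBasic

/-!
# The tensor product of a symplectic and a symmetric form
-/

set_option autoImplicit false
set_option linter.unusedSectionVars false

namespace CfsgLib.TensorSympOrth

open Matrix Cfsg.Geo CfsgLib.MaxSub CfsgLib.TensorMax
open CfsgLib.TensorUnitary (row form ev isom pMat ten_induction mat_ext_ten rowsIn)
open scoped Kronecker

section General

variable {ι : Type} [Fintype ι] [DecidableEq ι] {F : Type*} [Field F] {f : (ι → F) → (ι → F) → F}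

theorem bl_sesq (hb : IsBilinearForm f) (hn : IsNondegenerateForm f) :
    SesqForm (RingEquiv.refl F) f :=
  ⟨hb.add_left, hb.smul_left, hb.add_right, fun c v x => hb.smul_right c v x, hn⟩

theorem bl_zero_left (hb : IsBilinearForm f) (v : ι → F) : f 0 v = 0 := by
  simpa using hb.smul_left 0 0 v

theorem bl_zero_right (hb : IsBilinearForm f) (v : ι → F) : f v 0 = 0 := by
  simpa using hb.smul_right 0 v 0

theorem bl_neg_left (hb : IsBilinearForm f) (x v : ι → F) : f (-x) v = - f x v := by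
  rw [← neg_one_smul F x, hb.smul_left, neg_one_mul]

theorem bl_neg_right (hb : IsBilinearForm f) (x v : ι → F) : f x (-v) = - f x v := by
  rw [← neg_one_smul F v, hb.smul_right, neg_one_mul]

theorem bl_sub_left (hb : IsBilinearForm f) (x y v : ι → F) : f (x - y) v = f x v - f y v := by
  rw [sub_eq_add_neg, hb.add_left, bl_neg_left hb, sub_eq_add_neg]

theorem bl_sub_right (hb : IsBilinearForm f) (v x y : ι → F) : f v (x - y) = f v x - f v y := by
  rw [sub_eq_add_neg, hb.add_right, bl_neg_right hb, sub_eq_add_neg]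

theorem bl_pMat (hb : IsBilinearForm f) (u x : ι → F) : pMat f u *ᵥ x = f x u • u := by
  let L : (ι → F) →ₗ[F] F :=
    { toFun := fun y => f y u
      map_add' := fun y z => hb.add_left y z u
      map_smul' := fun c y => hb.smul_left c y u }
  have h := L.pi_apply_eq_sum_univ x
  rw [pMat, vecMulVec_mulVec']
  congr 1
  rw [show f x u = L x from rfl, h, dotProduct]
  refine Finset.sum_congr rfl fun i _ => ?_
  rw [smul_eq_mul, mul_comm, leftVec]
  congr 1
  simp only [L, LinearMap.coe_mk, AddHom.coe_mk]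
  congr 1
  ext j
  simp [Pi.single_apply, eq_comm]

theorem bl_dot (hb : IsBilinearForm f) (hn : IsNondegenerateForm f) (u x : ι → F) :
    leftVec f u ⬝ᵥ x = f x u :=
  (bl_sesq hb hn).dot_leftVec u x

/-- A vector pairing non-trivially with two non-zero vectors. -/
theorem exists_both (hb : IsBilinearForm f) (hn : IsNondegenerateForm f) {u v : ι → F} (hu : u ≠ 0)
    (hv : v ≠ 0) : ∃ z, f z u ≠ 0 ∧ f z v ≠ 0 := by
  obtain ⟨x, hx⟩ := (hn u hu).1
  obtain ⟨y, hy⟩ := (hn v hv).1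
  by_cases h1 : f x v = 0
  · by_cases h2 : f y u = 0
    · exact ⟨x + y, by rw [hb.add_left, h2, add_zero]; exact hx,
        by rw [hb.add_left, h1, zero_add]; exact hy⟩
    · exact ⟨y, h2, hy⟩
  · exact ⟨x, hx, h1⟩

/-- A linear map with every vector an eigenvector is a scalar. -/
theorem exists_scalar_of_eigen (L : (ι → F) →ₗ[F] (ι → F)) (h : ∀ x, ∃ c : F, L x = c • x) :
    ∃ c : F, ∀ x, L x = c • x := by
  classical
  rcases subsingleton_or_nontrivial (ι → F) with hs | hs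
  · exact ⟨0, fun x => Subsingleton.elim _ _⟩
  choose c hc using h
  obtain ⟨x₀, hx₀⟩ := exists_ne (0 : ι → F)
  refine ⟨c x₀, fun y => ?_⟩
  rcases eq_or_ne y 0 with rfl | hy
  · simp
  by_cases hdep : ∃ k : F, k • x₀ = y
  · obtain ⟨k, rfl⟩ := hdep
    rw [map_smul, hc x₀, smul_comm]
  push Not at hdep
  have hli : ∀ p q : F, p • x₀ + q • y = 0 → p = 0 ∧ q = 0 := by
    intro p q hpq
    have hq : q = 0 := by
      by_contra hq
      refine hdep (-(q⁻¹ * p)) ?_
      have hq' : q • y = -(p • x₀) := eq_neg_of_add_eq_zero_right hpq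
      rw [neg_smul, mul_smul, ← smul_neg, ← hq', smul_smul, inv_mul_cancel₀ hq, one_smul]
    refine ⟨?_, hq⟩
    rw [hq, zero_smul, add_zero, smul_eq_zero] at hpq
    exact hpq.resolve_right hx₀
  have h1 := hc (x₀ + y)
  rw [map_add, hc x₀, hc y, smul_add] at h1
  obtain ⟨hp, hq⟩ := hli (c x₀ - c (x₀ + y)) (c y - c (x₀ + y)) (by
    rw [sub_smul, sub_smul]
    linear_combination (norm := module) h1)
  rw [hc y, show c y = c x₀ by linear_combination hq - hp]

/-- The image of `g - 1`. -/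
def img (g : GL ι F) : Submodule F (ι → F) := LinearMap.range ((g : Matrix ι ι F) - 1).mulVecLin

theorem mem_img {g : GL ι F} {v : ι → F} : v ∈ img g ↔ ∃ x, (g : Matrix ι ι F) *ᵥ x - x = v := by
  simp only [img, LinearMap.mem_range, mulVecLin_apply, sub_mulVec, one_mulVec]

theorem sub_mem_img (g : GL ι F) (x : ι → F) : (g : Matrix ι ι F) *ᵥ x - x ∈ img g :=
  mem_img.mpr ⟨x, rfl⟩

theorem img_conj (h g : GL ι F) :
    img (h * g * h⁻¹) = (img g).map (h : Matrix ι ι F).mulVecLin := by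
  ext v
  simp only [Submodule.mem_map, mem_img, mulVecLin_apply]
  constructor
  · rintro ⟨x, rfl⟩
    refine ⟨_, ⟨((h⁻¹ : GL ι F) : Matrix ι ι F) *ᵥ x, rfl⟩, ?_⟩
    rw [mulVec_sub, mulVec_mulVec x (h : Matrix ι ι F), Units.mul_inv, one_mulVec, Units.val_mul,
      Units.val_mul]
    simp only [mulVec_mulVec, mul_assoc]
  · rintro ⟨_, ⟨x, rfl⟩, rfl⟩
    refine ⟨(h : Matrix ι ι F) *ᵥ x, ?_⟩
    rw [mulVec_mulVec, mulVec_sub, mulVec_mulVec, Units.val_mul, Units.val_mul, mul_assoc,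
      Units.inv_mul, mul_one]

theorem finrank_img_conj (h g : GL ι F) :
    Module.finrank F (img (h * g * h⁻¹)) = Module.finrank F (img g) := by
  rw [img_conj]
  exact (Submodule.equivMapOfInjective _
    (mulVec_injective_iff_isUnit.mpr h.isUnit) (img g)).finrank_eq.symm

theorem gl_inv_mulVec (g : GL ι F) (x : ι → F) :
    ((g⁻¹ : GL ι F) : Matrix ι ι F) *ᵥ ((g : Matrix ι ι F) *ᵥ x) = x := by
  rw [mulVec_mulVec, Units.inv_mul, one_mulVec]

theorem gl_mulVec_inv (g : GL ι F) (x : ι → F) :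
    (g : Matrix ι ι F) *ᵥ (((g⁻¹ : GL ι F) : Matrix ι ι F) *ᵥ x) = x := by
  rw [mulVec_mulVec, Units.mul_inv, one_mulVec]

theorem gl_mul_mulVec (g h : GL ι F) (x : ι → F) :
    ((g * h : GL ι F) : Matrix ι ι F) *ᵥ x = (g : Matrix ι ι F) *ᵥ ((h : Matrix ι ι F) *ᵥ x) := by
  rw [Units.val_mul, mulVec_mulVec]

theorem gl_mulVec_inj (g : GL ι F) {x y : ι → F}
    (h : (g : Matrix ι ι F) *ᵥ x = (g : Matrix ι ι F) *ᵥ y) : x = y :=
  mulVec_injective_iff_isUnit.mpr g.isUnit h

/-- The matrix of the reflection in `e`. -/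
def rflMat (f : (ι → F) → (ι → F) → F) (e : ι → F) : Matrix ι ι F := 1 - (2 / f e e) • pMat f e

open Classical in
/-- The reflection in `e`. -/
noncomputable def rfl' (f : (ι → F) → (ι → F) → F) (e : ι → F) : GL ι F :=
  if h : rflMat f e * rflMat f e = 1 then ⟨rflMat f e, rflMat f e, h, h⟩ else 1

/-- The transvection `x ↦ x + k f(x, v) v`. -/
noncomputable def ctv (f : (ι → F) → (ι → F) → F) (v : ι → F) (k : F) : GL ι F :=
  tv (k • v) (leftVec f v)

theorem rfl'_mulVec (hb : IsBilinearForm f) {e : ι → F} (he : f e e ≠ 0) (x : ι → F) :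
    (rfl' f e : Matrix ι ι F) *ᵥ x = x - (2 / f e e * f x e) • e := by
  have hval : ∀ y, rflMat f e *ᵥ y = y - (2 / f e e * f y e) • e := fun y => by
    rw [rflMat, sub_mulVec, one_mulVec, smul_mulVec, bl_pMat hb, smul_smul]
  have hsq : rflMat f e * rflMat f e = 1 := Matrix.ext_iff_mulVec.mpr fun y => by
    rw [← mulVec_mulVec, hval, hval, one_mulVec, bl_sub_left hb, hb.smul_left]
    have : 2 / f e e * f y e * f e e = 2 * f y e := by
      field_simp
    rw [this, show 2 / f e e * (f y e - 2 * f y e) = -(2 / f e e * f y e) by ring, neg_smul]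
    abel
  rw [rfl', dif_pos hsq]
  exact hval x

theorem ctv_mulVec (hb : IsBilinearForm f) (hn : IsNondegenerateForm f) {v : ι → F} (hv : f v v = 0)
    (k : F) (x : ι → F) : (ctv f v k : Matrix ι ι F) *ᵥ x = x + (k * f x v) • v := by
  rw [ctv, tv_mulVec (by rw [dotProduct_smul, bl_dot hb hn, hv, smul_zero]), bl_dot hb hn, smul_smul,
    mul_comm]

theorem ctv_mem (hb : IsBilinearForm f) (hn : IsNondegenerateForm f) (halt : ∀ v, f v v = 0)
    (v : ι → F) (k : F) : ctv f v k ∈ isom f := by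
  intro x y
  have hskew : f v y = - f y v := by
    have h := halt (v + y)
    rw [hb.add_left, hb.add_right, hb.add_right, halt, halt] at h
    linear_combination h
  rw [ctv_mulVec hb hn (halt v), ctv_mulVec hb hn (halt v), hb.add_left, hb.add_right, hb.add_right,
    hb.smul_left, hb.smul_left, hb.smul_right, hb.smul_right, halt, hskew]
  ring

theorem conj_ctv (hb : IsBilinearForm f) (hn : IsNondegenerateForm f) (halt : ∀ v, f v v = 0)
    {g : GL ι F} (hg : g ∈ isom f) (v : ι → F) (k : F) :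
    g * ctv f v k * g⁻¹ = ctv f ((g : Matrix ι ι F) *ᵥ v) k := by
  refine gl_ext fun x => ?_
  rw [gl_mul_mulVec, gl_mul_mulVec, ctv_mulVec hb hn (halt v), ctv_mulVec hb hn (halt _), mulVec_add,
    mulVec_smul, gl_mulVec_inv, ← hg (((g⁻¹ : GL ι F) : Matrix ι ι F) *ᵥ x) v, gl_mulVec_inv]

theorem ctv_add (hb : IsBilinearForm f) (hn : IsNondegenerateForm f) {v : ι → F} (hv : f v v = 0)
    (k l : F) : ctv f v k * ctv f v l = ctv f v (k + l) := by
  refine gl_ext fun x => ?_
  rw [gl_mul_mulVec, ctv_mulVec hb hn hv, ctv_mulVec hb hn hv, ctv_mulVec hb hn hv, hb.add_left,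
    hb.smul_left, hv]
  module

theorem ctv_smul (hb : IsBilinearForm f) (hn : IsNondegenerateForm f) {v : ι → F} (hv : f v v = 0)
    (c k : F) : ctv f (c • v) k = ctv f v (c * c * k) := by
  refine gl_ext fun x => ?_
  rw [ctv_mulVec hb hn (by rw [hb.smul_left, hb.smul_right, hv, mul_zero, mul_zero]),
    ctv_mulVec hb hn hv, hb.smul_right, smul_smul]
  congr 2
  ring

end General

/-! ### The setting -/

variable {F : Type*} [Field F] {a b : ℕ}

/-- A symplectic and a symmetric form in odd characteristic. -/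
structure Setting (f₁ : (Fin a → F) → (Fin a → F) → F) (f₂ : (Fin b → F) → (Fin b → F) → F) : Prop where
  symp : IsSymplecticForm f₁
  symm : IsSymmetricForm f₂
  two : (2 : F) ≠ 0

/-- The contraction with `u` in the first factor. -/
def evU (f₁ : (Fin a → F) → (Fin a → F) → F) (u : Fin a → F) (v : Idx a b → F) : Fin b → F :=
  fun k => f₁ (fun i => v (i, k)) u

theorem row_add (v w : Idx a b → F) (i : Fin a) : row (v + w) i = row v i + row w i := rfl

theorem row_smul (c : F) (v : Idx a b → F) (i : Fin a) : row (c • v) i = c • row v i := rfl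

theorem row_sub (v w : Idx a b → F) (i : Fin a) : row (v - w) i = row v i - row w i := rfl

theorem vec_ext {v w : Idx a b → F} (h : ∀ i, row v i = row w i) : v = w :=
  funext fun p => congrFun (h p.1) p.2

theorem ten_zero_left (y : Fin b → F) : ten (0 : Fin a → F) y = 0 := ten_eq_zero.mpr (Or.inl rfl)

theorem ten_zero_right (x : Fin a → F) : ten x (0 : Fin b → F) = 0 := ten_eq_zero.mpr (Or.inr rfl)

theorem ten_neg_left (x : Fin a → F) (y : Fin b → F) : ten (-x) y = - ten x y := by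
  rw [← neg_one_smul F x, ten_smul_left, neg_one_smul]

theorem ten_sub_left (x x' : Fin a → F) (y : Fin b → F) : ten (x - x') y = ten x y - ten x' y := by
  rw [sub_eq_add_neg, ten_add_left, ten_neg_left, sub_eq_add_neg]

theorem ten_sub_right (x : Fin a → F) (y y' : Fin b → F) : ten x (y - y') = ten x y - ten x y' := by
  rw [sub_eq_add_neg, ten_add_right, ← neg_one_smul F y', ten_smul_right, neg_one_smul, ← sub_eq_add_neg]

theorem one_kron_mulVec (B : Matrix (Fin b) (Fin b) F) (v : Idx a b → F) (i : Fin a) :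
    row (((1 : Matrix (Fin a) (Fin a) F) ⊗ₖ B) *ᵥ v) i = B *ᵥ row v i := by
  induction v using ten_induction with
  | hadd v w hv hw => rw [mulVec_add, row_add, hv, hw, row_add, mulVec_add]
  | h0 => simp only [mulVec_zero]; exact (mulVec_zero B).symm
  | h x y => rw [kron_mulVec_ten, one_mulVec, TensorUnitary.row_ten, TensorUnitary.row_ten, mulVec_smul]

/-- The stabiliser of the decomposition in the isometry group. -/
def tensSO (f₁ : (Fin a → F) → (Fin a → F) → F) (f₂ : (Fin b → F) → (Fin b → F) → F) :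
    Subgroup (GL (Idx a b) F) :=
  kroneckerSubgroup a b F ⊓ isom (form f₁ f₂)

/-- An element fixing a slice pointwise is `1 ⊗ T`. -/
theorem scalar_of_fix {S : Matrix (Fin a) (Fin a) F} {T : Matrix (Fin b) (Fin b) F} {h : Fin b → F}
    (hh : h ≠ 0) (hfix : ∀ x, (S ⊗ₖ T) *ᵥ ten x h = ten x h) : ∃ s : F, S = s • 1 := by
  rcases Nat.eq_zero_or_pos a with rfl | ha
  · exact ⟨0, Matrix.ext fun i => i.elim0⟩
  obtain ⟨φ, hφ⟩ := exists_dot_eq_one hh
  have hT : φ ⬝ᵥ (T *ᵥ h) ≠ 0 := by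
    intro h0
    have h1 := hfix (Pi.single ⟨0, ha⟩ 1)
    rw [kron_mulVec_ten] at h1
    have h2 := congrArg (fun v : Idx a b → F => φ ⬝ᵥ TensorUnitary.row v ⟨0, ha⟩) h1
    simp [TensorUnitary.row_ten, dotProduct_smul, h0, hφ] at h2
  refine ⟨(φ ⬝ᵥ (T *ᵥ h))⁻¹, Matrix.ext_iff_mulVec.mpr fun x => funext fun i => ?_⟩
  have h1 := congrArg (fun v : Idx a b → F => φ ⬝ᵥ TensorUnitary.row v i) (hfix x)
  simp only [kron_mulVec_ten, TensorUnitary.row_ten, dotProduct_smul, hφ, smul_eq_mul, mul_one] at h1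
  rw [smul_mulVec, one_mulVec, Pi.smul_apply, smul_eq_mul, ← h1]
  field_simp

namespace Setting

variable {f₁ : (Fin a → F) → (Fin a → F) → F} {f₂ : (Fin b → F) → (Fin b → F) → F}
  (hs : Setting f₁ f₂)
include hs

theorem b1 : IsBilinearForm f₁ := hs.symp.bilinear

theorem b2 : IsBilinearForm f₂ := hs.symm.bilinear

theorem n1 : IsNondegenerateForm f₁ := hs.symp.nondegenerate

theorem n2 : IsNondegenerateForm f₂ := hs.symm.nondegenerate

theorem s1 : SesqForm (RingEquiv.refl F) f₁ := bl_sesq hs.b1 hs.n1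

theorem s2 : SesqForm (RingEquiv.refl F) f₂ := bl_sesq hs.b2 hs.n2

theorem alt1 (x : Fin a → F) : f₁ x x = 0 := hs.symp.alternating x

theorem skew1 (x y : Fin a → F) : f₁ x y = - f₁ y x := hs.symp.skew x y

theorem symm2 (x y : Fin b → F) : f₂ x y = f₂ y x := hs.symm.symm x y

theorem eq_of_forall1 {x y : Fin a → F} (h : ∀ z, f₁ x z = f₁ y z) : x = y := by
  by_contra hne
  obtain ⟨z, hz⟩ := (hs.n1 (x - y) (sub_ne_zero.mpr hne)).2
  exact hz (by rw [bl_sub_left hs.b1, h, sub_self])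

theorem eq_of_forall2 {x y : Fin b → F} (h : ∀ z, f₂ x z = f₂ y z) : x = y := by
  by_contra hne
  obtain ⟨z, hz⟩ := (hs.n2 (x - y) (sub_ne_zero.mpr hne)).2
  exact hz (by rw [bl_sub_left hs.b2, h, sub_self])

theorem expand2 (u x : Fin b → F) :
    f₂ u x = ∑ i, ∑ j, f₂ (Pi.single i 1) (Pi.single j 1) * (u i * x j) := by
  rw [← hs.s2.dot_leftVec x u, dotProduct]
  refine Finset.sum_congr rfl fun i _ => ?_
  rw [leftVec, hs.symm2 (Pi.single i 1) x, ← hs.s2.dot_leftVec (Pi.single i 1) x, dotProduct,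
    Finset.sum_mul]
  refine Finset.sum_congr rfl fun j _ => ?_
  rw [leftVec, hs.symm2 (Pi.single j 1)]
  ring

theorem expand1 (u x : Fin a → F) :
    f₁ u x = ∑ i, ∑ j, f₁ (Pi.single i 1) (Pi.single j 1) * (u i * x j) := by
  rw [← hs.s1.dot_leftVec x u, dotProduct]
  refine Finset.sum_congr rfl fun i _ => ?_
  rw [leftVec, hs.skew1 (Pi.single i 1) x, ← hs.s1.dot_leftVec (Pi.single i 1) x, dotProduct,
    neg_mul, Finset.sum_mul, ← Finset.sum_neg_distrib]
  refine Finset.sum_congr rfl fun j _ => ?_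
  rw [leftVec, hs.skew1 (Pi.single j 1)]
  ring

theorem ev_add (w : Fin b → F) (v v' : Idx a b → F) :
    ev f₂ w (v + v') = ev f₂ w v + ev f₂ w v' := funext fun _ => hs.b2.add_left _ _ _

theorem ev_smul (w : Fin b → F) (k : F) (v : Idx a b → F) : ev f₂ w (k • v) = k • ev f₂ w v :=
  funext fun _ => hs.b2.smul_left _ _ _

theorem ev_zero (w : Fin b → F) : ev f₂ w (0 : Idx a b → F) = 0 := by
  simpa using hs.ev_smul w 0 (0 : Idx a b → F)

theorem ev_sub (w : Fin b → F) (v v' : Idx a b → F) :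
    ev f₂ w (v - v') = ev f₂ w v - ev f₂ w v' := funext fun _ => bl_sub_left hs.b2 _ _ _

theorem ev_add_right (w w' : Fin b → F) (v : Idx a b → F) :
    ev f₂ (w + w') v = ev f₂ w v + ev f₂ w' v := funext fun _ => hs.b2.add_right _ _ _

theorem ev_smul_right (k : F) (w : Fin b → F) (v : Idx a b → F) :
    ev f₂ (k • w) v = k • ev f₂ w v := funext fun _ => hs.b2.smul_right _ _ _

theorem ev_ten (w : Fin b → F) (x : Fin a → F) (y : Fin b → F) :
    ev f₂ w (ten x y) = f₂ y w • x := by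
  funext i
  rw [ev, TensorUnitary.row_ten, hs.b2.smul_left, Pi.smul_apply, smul_eq_mul, mul_comm]

theorem evU_add (u : Fin a → F) (v v' : Idx a b → F) :
    evU f₁ u (v + v') = evU f₁ u v + evU f₁ u v' :=
  funext fun _ => hs.b1.add_left _ _ _

theorem evU_smul (u : Fin a → F) (k : F) (v : Idx a b → F) :
    evU f₁ u (k • v) = k • evU f₁ u v := funext fun _ => hs.b1.smul_left _ _ _

theorem evU_zero (u : Fin a → F) : evU f₁ u (0 : Idx a b → F) = 0 := by
  simpa using hs.evU_smul u 0 (0 : Idx a b → F)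

theorem evU_sub (u : Fin a → F) (v v' : Idx a b → F) :
    evU f₁ u (v - v') = evU f₁ u v - evU f₁ u v' := funext fun _ => bl_sub_left hs.b1 _ _ _

theorem evU_ten (u x : Fin a → F) (y : Fin b → F) : evU f₁ u (ten x y) = f₁ x u • y := by
  funext k
  rw [evU, Pi.smul_apply, smul_eq_mul, mul_comm, ← hs.b1.smul_left]
  congr 1
  funext i
  simp [ten, mul_comm]

/-- The contraction as a linear map. -/
def evL (w : Fin b → F) : (Idx a b → F) →ₗ[F] (Fin a → F) where
  toFun := ev f₂ w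
  map_add' := hs.ev_add w
  map_smul' k v := hs.ev_smul w k v

theorem form_ten_right (v : Idx a b → F) (x : Fin a → F) (y : Fin b → F) :
    form f₁ f₂ v (ten x y) = f₁ (ev f₂ y v) x := by
  rw [hs.expand1 (ev f₂ y v) x, form]
  refine Finset.sum_congr rfl fun i _ => Finset.sum_congr rfl fun j _ => ?_
  rw [TensorUnitary.row_ten, hs.b2.smul_right, ev]
  ring

theorem form_ten_ten (x x' : Fin a → F) (y y' : Fin b → F) :
    form f₁ f₂ (ten x y) (ten x' y') = f₁ x x' * f₂ y y' := by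
  rw [hs.form_ten_right, hs.ev_ten, hs.b1.smul_left, mul_comm]

theorem form_ten_right' (v : Idx a b → F) (x : Fin a → F) (y : Fin b → F) :
    form f₁ f₂ v (ten x y) = f₂ (evU f₁ x v) y := by
  induction v using ten_induction with
  | hadd v w hv hw =>
    rw [hs.evU_add, hs.b2.add_left, ← hv, ← hw]
    simp only [form, ← Finset.sum_add_distrib]
    refine Finset.sum_congr rfl fun i _ => Finset.sum_congr rfl fun j _ => ?_
    rw [row_add, hs.b2.add_left, mul_add]
  | h0 =>
    rw [hs.evU_zero, bl_zero_left hs.b2, hs.form_ten_right, hs.ev_zero, bl_zero_left hs.b1]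
  | h x' y' => rw [hs.form_ten_ten, hs.evU_ten, hs.b2.smul_left]

theorem bf : IsBilinearForm (form f₁ f₂) := by
  refine ⟨fun u v w => ?_, fun c u v => ?_, fun u v w => ?_, fun c u v => ?_⟩
  · simp only [form, ← Finset.sum_add_distrib]
    refine Finset.sum_congr rfl fun i _ => Finset.sum_congr rfl fun j _ => ?_
    rw [row_add, hs.b2.add_left, mul_add]
  · simp only [form, Finset.mul_sum]
    refine Finset.sum_congr rfl fun i _ => Finset.sum_congr rfl fun j _ => ?_
    rw [row_smul, hs.b2.smul_left]; ring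
  · simp only [form, ← Finset.sum_add_distrib]
    refine Finset.sum_congr rfl fun i _ => Finset.sum_congr rfl fun j _ => ?_
    rw [row_add, hs.b2.add_right, mul_add]
  · simp only [form, Finset.mul_sum]
    refine Finset.sum_congr rfl fun i _ => Finset.sum_congr rfl fun j _ => ?_
    rw [row_smul, hs.b2.smul_right]; ring

theorem form_skew (u v : Idx a b → F) : form f₁ f₂ u v = - form f₁ f₂ v u := by
  simp only [form, ← Finset.sum_neg_distrib]
  rw [Finset.sum_comm]
  refine Finset.sum_congr rfl fun i _ => Finset.sum_congr rfl fun j _ => ?_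
  rw [hs.skew1 (Pi.single j 1), hs.symm2, neg_mul]

theorem form_alt (u : Idx a b → F) : form f₁ f₂ u u = 0 := by
  have h := hs.form_skew u u
  refine (mul_eq_zero.mp ?_).resolve_left hs.two
  linear_combination h

theorem form_eq_zero {v : Idx a b → F} (h : ∀ x y, form f₁ f₂ v (ten x y) = 0) : v = 0 := by
  refine vec_ext fun i => hs.eq_of_forall2 fun y => ?_
  have h1 : ev f₂ y v = 0 := hs.eq_of_forall1 fun x => by
    rw [← hs.form_ten_right, h, bl_zero_left hs.b1]
  rw [show row (0 : Idx a b → F) i = 0 from rfl, bl_zero_left hs.b2]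
  exact congrFun h1 i

theorem nf : IsNondegenerateForm (form f₁ f₂) := by
  intro v hv
  have h : ∃ y, form f₁ f₂ v y ≠ 0 := by
    by_contra hcon
    push Not at hcon
    exact hv (hs.form_eq_zero fun x y => hcon _)
  obtain ⟨y, hy⟩ := h
  exact ⟨⟨y, fun h => hy (by rw [hs.form_skew, h, neg_zero])⟩, y, hy⟩

theorem eq_of_forall {u v : Idx a b → F}
    (h : ∀ x y, form f₁ f₂ u (ten x y) = form f₁ f₂ v (ten x y)) : u = v :=
  sub_eq_zero.mp (hs.form_eq_zero fun x y => by rw [bl_sub_left hs.bf, h, sub_self])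

/-- An element preserving the form on pure tensors is an isometry. -/
theorem isom_of_ten {g : GL (Idx a b) F}
    (h : ∀ x y x' y', form f₁ f₂ ((g : Matrix (Idx a b) (Idx a b) F) *ᵥ ten x y)
      ((g : Matrix (Idx a b) (Idx a b) F) *ᵥ ten x' y') = f₁ x x' * f₂ y y') :
    g ∈ isom (form f₁ f₂) := by
  intro u v
  induction u using ten_induction with
  | hadd u w hu hw => rw [mulVec_add, hs.bf.add_left, hu, hw, hs.bf.add_left]
  | h0 => rw [mulVec_zero, bl_zero_left hs.bf, bl_zero_left hs.bf]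
  | h x y =>
    induction v using ten_induction with
    | hadd u w hu hw => rw [mulVec_add, hs.bf.add_right, hu, hw, hs.bf.add_right]
    | h0 => rw [mulVec_zero, bl_zero_right hs.bf, bl_zero_right hs.bf]
    | h x' y' => rw [h, hs.form_ten_ten]

theorem krG_mem {S : GL (Fin a) F} (hS : S ∈ isom f₁) {T : GL (Fin b) F} (hT : T ∈ isom f₂) :
    krG (S, T) ∈ tensSO f₁ f₂ := by
  refine ⟨⟨S, T, rfl⟩, hs.isom_of_ten fun x y x' y' => ?_⟩
  rw [krG_val, kron_mulVec_ten, kron_mulVec_ten, hs.form_ten_ten, hS, hT]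

theorem ctv1_mem (u : Fin a → F) (k : F) : ctv f₁ u k ∈ isom f₁ := ctv_mem hs.b1 hs.n1 hs.alt1 u k

theorem ctv1_mulVec (u : Fin a → F) (k : F) (x : Fin a → F) :
    (ctv f₁ u k : Matrix (Fin a) (Fin a) F) *ᵥ x = x + (k * f₁ x u) • u :=
  ctv_mulVec hs.b1 hs.n1 (hs.alt1 u) k x

theorem rfl2_mulVec {e : Fin b → F} (he : f₂ e e ≠ 0) (x : Fin b → F) :
    (rfl' f₂ e : Matrix (Fin b) (Fin b) F) *ᵥ x = x - (2 / f₂ e e * f₂ x e) • e :=
  rfl'_mulVec hs.b2 he x

theorem rfl2_self {e : Fin b → F} (he : f₂ e e ≠ 0) :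
    (rfl' f₂ e : Matrix (Fin b) (Fin b) F) *ᵥ e = -e := by
  rw [hs.rfl2_mulVec he, show 2 / f₂ e e * f₂ e e = 2 by field_simp, two_smul]
  abel

theorem rfl2_fix {e : Fin b → F} (he : f₂ e e ≠ 0) {x : Fin b → F} (hx : f₂ x e = 0) :
    (rfl' f₂ e : Matrix (Fin b) (Fin b) F) *ᵥ x = x := by
  rw [hs.rfl2_mulVec he, hx, mul_zero, zero_smul, sub_zero]

theorem rfl2_mem {e : Fin b → F} (he : f₂ e e ≠ 0) : rfl' f₂ e ∈ isom f₂ := by
  intro x y
  rw [hs.rfl2_mulVec he, hs.rfl2_mulVec he, bl_sub_left hs.b2, bl_sub_right hs.b2, bl_sub_right hs.b2,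
    hs.b2.smul_left, hs.b2.smul_left, hs.b2.smul_right, hs.b2.smul_right, hs.symm2 e y]
  field_simp
  ring

theorem rfl2_sq {e : Fin b → F} (he : f₂ e e ≠ 0) : rfl' f₂ e * rfl' f₂ e = 1 := by
  refine gl_ext fun x => ?_
  rw [gl_mul_mulVec, hs.rfl2_mulVec he x, mulVec_sub, mulVec_smul, hs.rfl2_self he,
    hs.rfl2_mulVec he x, Units.val_one, one_mulVec]
  module

/-- The elements of the stabiliser are tensor products of similitudes. -/
theorem tens_cases (ha : 0 < a) {x : GL (Idx a b) F} (hx : x ∈ tensSO f₁ f₂) (hb : 0 < b) :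
    ∃ (S : GL (Fin a) F) (T : GL (Fin b) F) (μ : F), μ ≠ 0 ∧ x = krG (S, T) ∧
      (∀ u u', f₁ ((S : Matrix (Fin a) (Fin a) F) *ᵥ u) ((S : Matrix (Fin a) (Fin a) F) *ᵥ u') = μ * f₁ u u') ∧
      ∀ w w', f₂ ((T : Matrix (Fin b) (Fin b) F) *ᵥ w) ((T : Matrix (Fin b) (Fin b) F) *ᵥ w') = μ⁻¹ * f₂ w w' := by
  obtain ⟨S, T, rfl⟩ := mem_kroneckerSubgroup_iff.mp hx.1
  have hiso : ∀ u u' w w', f₁ ((S : Matrix (Fin a) (Fin a) F) *ᵥ u) ((S : Matrix (Fin a) (Fin a) F) *ᵥ u')
      * f₂ ((T : Matrix (Fin b) (Fin b) F) *ᵥ w) ((T : Matrix (Fin b) (Fin b) F) *ᵥ w')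
      = f₁ u u' * f₂ w w' := fun u u' w w' => by
    have := hx.2 (ten u w) (ten u' w')
    rwa [krG_val, kron_mulVec_ten, kron_mulVec_ten, hs.form_ten_ten, hs.form_ten_ten] at this
  obtain ⟨z, hz⟩ := (hs.n1 (Pi.single (⟨0, ha⟩ : Fin a) (1 : F)) (by simp)).2
  obtain ⟨w₀, hw₀⟩ := (hs.n2 (Pi.single (⟨0, hb⟩ : Fin b) (1 : F)) (by simp)).2
  set e := (Pi.single (⟨0, ha⟩ : Fin a) (1 : F) : Fin a → F)
  set k := (Pi.single (⟨0, hb⟩ : Fin b) (1 : F) : Fin b → F)
  set α := f₁ ((S : Matrix (Fin a) (Fin a) F) *ᵥ e) ((S : Matrix (Fin a) (Fin a) F) *ᵥ z) with hα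
  set β := f₂ ((T : Matrix (Fin b) (Fin b) F) *ᵥ k) ((T : Matrix (Fin b) (Fin b) F) *ᵥ w₀) with hβ
  have hαβ : α * β = f₁ e z * f₂ k w₀ := hiso e z k w₀
  have hne : α * β ≠ 0 := by rw [hαβ]; exact mul_ne_zero hz hw₀
  have hα0 : α ≠ 0 := left_ne_zero_of_mul hne
  have hβ0 : β ≠ 0 := right_ne_zero_of_mul hne
  refine ⟨S, T, f₂ k w₀ / β, div_ne_zero hw₀ hβ0, rfl, fun u u' => ?_, fun w w' => ?_⟩
  · rw [div_mul_eq_mul_div, eq_div_iff hβ0, hiso, mul_comm]
  · rw [inv_div, div_mul_eq_mul_div, eq_div_iff hw₀]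
    refine mul_left_cancel₀ hα0 ?_
    rw [← mul_assoc, hiso e z w w', ← mul_assoc, hαβ]
    ring

/-- An element of the stabiliser fixing a slice pointwise is `1 ⊗ T`. -/
theorem eq_one_kron (ha : 0 < a) {x : GL (Idx a b) F} (hx : x ∈ tensSO f₁ f₂) {h : Fin b → F} (hh : h ≠ 0)
    (hfix : ∀ u, (x : Matrix (Idx a b) (Idx a b) F) *ᵥ ten u h = ten u h) :
    ∃ T ∈ isom f₂, x = krG (1, T) ∧ (T : Matrix (Fin b) (Fin b) F) *ᵥ h = h := by
  obtain ⟨S, T, rfl⟩ := mem_kroneckerSubgroup_iff.mp hx.1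
  obtain ⟨s, hsS⟩ := scalar_of_fix (T := (T : Matrix (Fin b) (Fin b) F)) hh fun u => by
    rw [← krG_val]; exact hfix u
  have hs0 : s ≠ 0 := by
    rintro rfl
    rw [zero_smul] at hsS
    have h1 := Units.mul_inv S
    rw [hsS, zero_mul] at h1
    have h2 := congrFun (congrFun h1 ⟨0, ha⟩) ⟨0, ha⟩
    simp at h2
  let T' : GL (Fin b) F := Units.map (Matrix.scalar (Fin b) : F →+* Matrix (Fin b) (Fin b) F).toMonoidHom
    (Units.mk0 s hs0) * T
  have hT' : (T' : Matrix (Fin b) (Fin b) F) = s • (T : Matrix (Fin b) (Fin b) F) := by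
    simp [T', Matrix.smul_eq_diagonal_mul]
  have heq : krG (S, T) = krG ((1 : GL (Fin a) F), T') := by
    apply Units.ext
    rw [krG_val, krG_val, hsS, hT', Units.val_one, smul_kronecker, kronecker_smul]
  obtain ⟨z, hz⟩ := (hs.n1 (Pi.single (⟨0, ha⟩ : Fin a) (1 : F)) (by simp)).2
  refine ⟨T', fun w w' => ?_, heq, ?_⟩
  · have := hx.2 (ten (Pi.single ⟨0, ha⟩ 1) w) (ten z w')
    rw [heq, krG_val, Units.val_one, kron_mulVec_ten, kron_mulVec_ten, one_mulVec, one_mulVec,
      hs.form_ten_ten, hs.form_ten_ten] at this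
    exact mul_left_cancel₀ hz this
  · have h1 := hfix (Pi.single ⟨0, ha⟩ 1)
    rw [heq, krG_val, Units.val_one, kron_mulVec_ten, one_mulVec] at h1
    exact ten_inj_right (by simp) h1

end Setting

end CfsgLib.TensorSympOrth
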