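import Cfsg.Agent.TensorSympOrth.Slice

/-!
# Recognising elements of the stabiliser
-/

set_option autoImplicit false
set_option linter.unusedSectionVars false

namespace CfsgLib.TensorSympOrth

open Matrix Cfsg.Geo CfsgLib.MaxSub CfsgLib.TensorMax
open CfsgLib.TensorUnitary (form ev isom pMat rowsIn)
open scoped Kronecker

variable {F : Type*} [Field F] {a b : ℕ}

/-- A pair of involutions with one class gives a commuting pair. -/
theorem dihedral_contra {G : Type*} [Group G] [Finite G] {L Y : Subgroup G} {r s g : G}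
    (hr2 : r * r = 1) (hs2 : s * s = 1) (hrY : r ∈ Y) (hsY : s ∈ Y) (hgY : g ∈ Y)
    (hconj : ∀ h ∈ Y, h * r * h⁻¹ ≠ s) (htL : g * s * g⁻¹ ∉ L)
    (hCr : ∀ x ∈ Y, x * r = r * x → x ∈ L) (hCs : ∀ x ∈ Y, x * s = s * x → x ∈ L)
    (hgr : g⁻¹ * r * g ∉ L)
    (hcr : ∀ c ∈ Y, c ∈ L → c ≠ 1 → c * c = 1 → c * r = r * c →
      (∃ h ∈ Y, c * r = h * r * h⁻¹) → ∀ x ∈ Y, x * c = c * x → x ∈ L)
    (hcs : ∀ c ∈ Y, c ∈ L → c ≠ 1 → c * c = 1 → c * s = s * c →
      (∃ h ∈ Y, c * s = h * r * h⁻¹) → ∀ x ∈ Y, x * c = c * x → x ∈ L) : False := by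
  obtain ⟨t, ht⟩ : ∃ t, t = g * s * g⁻¹ := ⟨_, rfl⟩
  rw [← ht] at htL
  have htY : t ∈ Y := ht ▸ Y.mul_mem (Y.mul_mem hgY hsY) (Y.inv_mem hgY)
  have ht2 : t * t = 1 := by
    rw [ht, show g * s * g⁻¹ * (g * s * g⁻¹) = g * (s * s) * g⁻¹ by group, hs2]
    group
  obtain ⟨x, hx⟩ : ∃ x, x = r * t := ⟨_, rfl⟩
  have hxY : x ∈ Y := hx ▸ Y.mul_mem hrY htY
  have htinv : t⁻¹ = t := inv_eq_of_mul_eq_one_right ht2
  have hrinv : r⁻¹ = r := inv_eq_of_mul_eq_one_right hr2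
  have hxt : x * t = r := by rw [hx, mul_assoc, ht2, mul_one]
  have htx : ∀ j : ℕ, t * x ^ j * t = (x ^ j)⁻¹ := by
    intro j
    have h1 : t * x * t⁻¹ = x⁻¹ := by
      rw [hx, _root_.mul_inv_rev, hrinv, htinv, mul_assoc t (r * t) t, mul_assoc r t t, ht2, mul_one]
    have h2 := conj_pow (a := t) (b := x) (i := j)
    rw [h1, inv_pow, htinv] at h2
    exact h2.symm
  have hxr : ∀ j : ℕ, x ^ j * r = r * (x ^ j)⁻¹ := by
    intro j
    have h1 : r * x * r⁻¹ = x⁻¹ := by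
      rw [hx, _root_.mul_inv_rev, hrinv, htinv, ← mul_assoc r r t, hr2, one_mul]
    have h2 := conj_pow (a := r) (b := x) (i := j)
    rw [h1, inv_pow] at h2
    rw [h2, hrinv, ← mul_assoc, ← mul_assoc, hr2, one_mul]
  have hconjt : ∀ j : ℕ, x ^ j * t * (x ^ j)⁻¹ = x ^ (2 * j) * t := by
    intro j
    rw [← htx, two_mul, pow_add, ← mul_assoc, ← mul_assoc, mul_assoc (x ^ j) t t, ht2, mul_one]
  have hconjr : ∀ j : ℕ, x ^ j * r * (x ^ j)⁻¹ = x ^ (2 * j) * r := by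
    intro j
    conv_rhs => rw [two_mul, pow_add, mul_assoc (x ^ j) (x ^ j) r, hxr, ← mul_assoc]
  obtain ⟨n, hn⟩ : ∃ n, n = orderOf x := ⟨_, rfl⟩
  have hn0 : 0 < n := hn ▸ orderOf_pos x
  rcases Nat.even_or_odd' n with ⟨k, hk | hk⟩
  · obtain ⟨c, hc⟩ : ∃ c, c = x ^ k := ⟨_, rfl⟩
    have hc1 : c ≠ 1 := hc ▸ pow_ne_one_of_lt_orderOf (by omega) (by omega)
    have hc2 : c * c = 1 := by rw [hc, ← pow_add, ← two_mul, ← hk, hn, pow_orderOf_eq_one]
    have hcinv : c⁻¹ = c := inv_eq_of_mul_eq_one_right hc2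
    have hcY : c ∈ Y := hc ▸ Y.pow_mem hxY k
    have hcrc : c * r = r * c := by
      have h := hxr k
      rwa [← hc, hcinv] at h
    have hctc : c * t = t * c := by
      have h := htx k
      rw [← hc, hcinv] at h
      conv_lhs => rw [← h, mul_assoc, ht2, mul_one]
    have hcL : c ∈ L := hCr c hcY hcrc
    rcases Nat.even_or_odd' k with ⟨j, hj | hj⟩
    · refine htL (hcr c hcY hcL hc1 hc2 hcrc ⟨x ^ j, Y.pow_mem hxY j, ?_⟩ t htY hctc.symm)
      rw [hconjr, ← hj, hc]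
    · have hct : c * t = x ^ j * r * (x ^ j)⁻¹ := by
        rw [hconjr, hc, hj, pow_succ, mul_assoc, hxt]
      obtain ⟨c', hc'⟩ : ∃ c', c' = g⁻¹ * c * g := ⟨_, rfl⟩
      have hc'Y : c' ∈ Y := hc' ▸ Y.mul_mem (Y.mul_mem (Y.inv_mem hgY) hcY) hgY
      have hs' : s = g⁻¹ * t * g := by rw [ht]; group
      have hc's : c' * s = s * c' := by
        rw [hs', hc', show g⁻¹ * c * g * (g⁻¹ * t * g) = g⁻¹ * (c * t) * g by group, hctc]
        group
      have hmul : c' * c' = 1 := by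
        rw [hc', show g⁻¹ * c * g * (g⁻¹ * c * g) = g⁻¹ * (c * c) * g by group, hc2]
        group
      have hne : c' ≠ 1 := fun h => hc1 (by
        rw [show c = g * c' * g⁻¹ by rw [hc']; group, h]; group)
      refine hgr (hcs c' hc'Y (hCs c' hc'Y hc's) hne hmul hc's
        ⟨g⁻¹ * x ^ j, Y.mul_mem (Y.inv_mem hgY) (Y.pow_mem hxY j), ?_⟩ (g⁻¹ * r * g)
        (Y.mul_mem (Y.mul_mem (Y.inv_mem hgY) hrY) hgY) ?_)
      · rw [hs', hc', show g⁻¹ * c * g * (g⁻¹ * t * g) = g⁻¹ * (c * t) * g by group, hct]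
        group
      · rw [hc', show g⁻¹ * r * g * (g⁻¹ * c * g) = g⁻¹ * (r * c) * g by group, ← hcrc]
        group
  · have h1 : x ^ (2 * (k + 1)) = x := by
      rw [show 2 * (k + 1) = n + 1 by omega, pow_succ, hn, pow_orderOf_eq_one, one_mul]
    obtain ⟨y, hy⟩ : ∃ y, y = x ^ (k + 1) := ⟨_, rfl⟩
    have h2 : y * t * y⁻¹ = r := by rw [hy, hconjt, h1, hxt]
    refine hconj _ (Y.inv_mem (Y.mul_mem (hy ▸ Y.pow_mem hxY (k + 1) : y ∈ Y) hgY)) ?_
    rw [← h2, ht]
    group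

/-- The elements fixing the slices of a family pointwise. -/
def fixF {n : ℕ} (p : Fin n → Fin b → F) : Subgroup (GL (Idx a b) F) where
  carrier := {g | ∀ i x, (g : Matrix (Idx a b) (Idx a b) F) *ᵥ ten x (p i) = ten x (p i)}
  one_mem' i x := by rw [Units.val_one, one_mulVec]
  mul_mem' {g h} hg hh i x := by rw [gl_mul_mulVec, hh, hg]
  inv_mem' {g} hg i x := by conv_lhs => rw [← hg i x, gl_inv_mulVec]

theorem fixF_snoc {n : ℕ} {p : Fin n → Fin b → F} {h : Fin b → F} {g : GL (Idx a b) F} (hg : g ∈ fixF p)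
    (hh : ∀ x, (g : Matrix (Idx a b) (Idx a b) F) *ᵥ ten x h = ten x h) :
    g ∈ fixF (a := a) (Fin.snoc p h : Fin (n + 1) → Fin b → F) := by
  intro i x
  induction i using Fin.lastCases with
  | last => rw [Fin.snoc_last]; exact hh x
  | cast i => rw [Fin.snoc_castSucc]; exact hg i x

theorem fix_of_span {g : GL (Idx a b) F} {S : Set (Fin b → F)}
    (hg : ∀ w ∈ S, ∀ x, (g : Matrix (Idx a b) (Idx a b) F) *ᵥ ten x w = ten x w) {w : Fin b → F}
    (hw : w ∈ Submodule.span F S) (x : Fin a → F) :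
    (g : Matrix (Idx a b) (Idx a b) F) *ᵥ ten x w = ten x w := by
  induction hw using Submodule.span_induction with
  | mem w hw => exact hg w hw x
  | zero => rw [ten_zero_right, mulVec_zero]
  | add v w _ _ h1 h2 => rw [ten_add_right, mulVec_add, h1, h2]
  | smul c v _ h1 => rw [ten_smul_right, mulVec_smul, h1]

theorem eq_ten_of_rows {v : Idx a b → F} {k : Fin b → F} (h : v ∈ rowsIn a (Submodule.span F {k})) :
    ∃ x, v = ten x k := by
  choose x hx using fun i => Submodule.mem_span_singleton.mp (h i)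
  exact ⟨x, vec_ext fun i => by rw [TensorUnitary.row_ten, hx]⟩

theorem eq_ten_slices {v : Idx a b → F} {H : Submodule F (Fin b → F)} (hv : v ∈ rowsIn a H)
    {g : Matrix (Idx a b) (Idx a b) F} (hg : ∀ x, ∀ w ∈ H, g *ᵥ ten x w = ten x w) : g *ᵥ v = v := by
  let S : Submodule F (Idx a b → F) :=
    { carrier := {v | g *ᵥ v = v}
      add_mem' := fun {p q} hp hq => by
        show g *ᵥ (p + q) = p + q
        rw [mulVec_add, hp, hq]
      zero_mem' := mulVec_zero g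
      smul_mem' := fun k p hp => by
        show g *ᵥ (k • p) = k • p
        rw [mulVec_smul, hp] }
  show v ∈ S
  rw [← TensorUnitary.sum_ten_row v]
  exact S.sum_mem fun i _ => hg _ _ (hv i)

theorem img_one_kron (T : GL (Fin b) F) :
    img (krG ((1 : GL (Fin a) F), T)) = rowsIn a (img T) := by
  refine le_antisymm ?_ ?_
  · intro v hv i
    obtain ⟨x, rfl⟩ := mem_img.mp hv
    rw [row_sub, krG_val, Units.val_one, one_kron_mulVec]
    exact sub_mem_img T _
  · intro v hv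
    rw [← TensorUnitary.sum_ten_row v]
    refine Submodule.sum_mem _ fun i _ => ?_
    obtain ⟨z, hz⟩ := mem_img.mp (hv i)
    refine mem_img.mpr ⟨ten (Pi.single i 1) z, ?_⟩
    rw [krG_val, Units.val_one, kron_mulVec_ten, one_mulVec, ← ten_sub_right, hz]

theorem krG_one_inj (ha : 0 < a) {T T' : GL (Fin b) F} (h : krG ((1 : GL (Fin a) F), T) = krG (1, T')) :
    T = T' := by
  refine gl_ext fun w => ?_
  have h1 := congrArg (fun g : GL (Idx a b) F =>
    (g : Matrix (Idx a b) (Idx a b) F) *ᵥ ten (Pi.single ⟨0, ha⟩ 1) w) h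
  simp only [krG_val, Units.val_one, kron_mulVec_ten, one_mulVec] at h1
  exact ten_inj_right (by simp) h1

namespace Setting

variable {f₁ : (Fin a → F) → (Fin a → F) → F} {f₂ : (Fin b → F) → (Fin b → F) → F}
  (hs : Setting f₁ f₂) {M : Subgroup (GL (Idx a b) F)}
include hs

local notation "Φ" => form f₁ f₂
local notation "𝕃" => tensSO f₁ f₂

theorem img_rfl {e : Fin b → F} (he : f₂ e e ≠ 0) : img (rfl' f₂ e) = Submodule.span F {e} := by
  refine le_antisymm ?_ ?_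
  · intro v hv
    obtain ⟨x, rfl⟩ := mem_img.mp hv
    rw [hs.rfl2_mulVec he, sub_sub_cancel_left, ← neg_smul]
    exact Submodule.smul_mem _ _ (Submodule.mem_span_singleton_self e)
  · rw [Submodule.span_singleton_le_iff_mem]
    refine mem_img.mpr ⟨(-2⁻¹ : F) • e, ?_⟩
    rw [mulVec_smul, hs.rfl2_self he, smul_neg, neg_smul, neg_neg, sub_neg_eq_add, ← add_smul,
      show (2⁻¹ : F) + 2⁻¹ = 1 by rw [← two_mul, mul_inv_cancel₀ hs.two], one_smul]

/-- Conjugates of reflections by similitudes. -/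
theorem conj_rfl {T : GL (Fin b) F} {μ : F} (hμ : μ ≠ 0)
    (hT : ∀ w w', f₂ ((T : Matrix (Fin b) (Fin b) F) *ᵥ w) ((T : Matrix (Fin b) (Fin b) F) *ᵥ w') = μ * f₂ w w')
    {e : Fin b → F} (he : f₂ e e ≠ 0) :
    T * rfl' f₂ e * T⁻¹ = rfl' f₂ ((T : Matrix (Fin b) (Fin b) F) *ᵥ e) := by
  have he' : f₂ ((T : Matrix (Fin b) (Fin b) F) *ᵥ e) ((T : Matrix (Fin b) (Fin b) F) *ᵥ e) ≠ 0 := by
    rw [hT]; exact mul_ne_zero hμ he
  refine gl_ext fun x => ?_
  rw [gl_mul_mulVec, gl_mul_mulVec, hs.rfl2_mulVec he, hs.rfl2_mulVec he', mulVec_sub, mulVec_smul,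
    gl_mulVec_inv, hT]
  congr 2
  conv_rhs => arg 2; rw [← gl_mulVec_inv T x, hT]
  field_simp

theorem krG_conj (S : GL (Fin a) F) (T U : GL (Fin b) F) :
    krG (S, T) * krG ((1 : GL (Fin a) F), U) * (krG (S, T))⁻¹ = krG (1, T * U * T⁻¹) := by
  rw [← map_inv, ← map_mul, ← map_mul, Prod.inv_mk, Prod.mk_mul_mk, Prod.mk_mul_mk, mul_one, mul_inv_cancel]

theorem mem_of_slices (ha : 0 < a) {y : GL (Idx a b) F} (hy : y ∈ isom Φ) {k : Fin b → Fin b → F}
    (hk : IsOrth f₂ k) (A : (Fin a → F) →ₗ[F] (Fin a → F)) (hA : Function.Injective A)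
    (h : ∀ j, ∃ ψ, ∀ x, (y : Matrix (Idx a b) (Idx a b) F) *ᵥ ten x (k j) = ten (A x) ψ) : y ∈ 𝕃 := by
  refine ⟨?_, hy⟩
  obtain ⟨i, hi⟩ : ∃ i, A (Pi.single ⟨0, ha⟩ 1) i ≠ 0 := Function.ne_iff.mp fun h0 => by
    have := hA (h0.trans (map_zero A).symm)
    simp at this
  set e₀ : Fin a → F := Pi.single ⟨0, ha⟩ 1
  let B : (Fin b → F) →ₗ[F] (Fin b → F) :=
    { toFun := fun w => (A e₀ i)⁻¹ • TensorUnitary.row ((y : Matrix (Idx a b) (Idx a b) F) *ᵥ ten e₀ w) i
      map_add' := fun w w' => by rw [ten_add_right, mulVec_add, row_add, smul_add]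
      map_smul' := fun c w => by rw [ten_smul_right, mulVec_smul, row_smul, smul_comm, RingHom.id_apply] }
  have hval : ∀ w x, (y : Matrix (Idx a b) (Idx a b) F) *ᵥ ten x w = ten (A x) (B w) := by
    intro w x
    have hw : w ∈ Submodule.span F (Set.range k) := by rw [hs.span_full hk rfl]; exact Submodule.mem_top
    induction hw using Submodule.span_induction with
    | mem w hw =>
      obtain ⟨j, rfl⟩ := hw
      obtain ⟨ψ, hψ⟩ := h j
      rw [hψ]
      congr 1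
      show ψ = (A e₀ i)⁻¹ • _
      rw [hψ, TensorUnitary.row_ten, smul_smul, inv_mul_cancel₀ hi, one_smul]
    | zero => rw [map_zero, ten_zero_right, ten_zero_right, mulVec_zero]
    | add v w _ _ h1 h2 => rw [map_add, ten_add_right, mulVec_add, h1, h2, ← ten_add_right]
    | smul c v _ h1 => rw [map_smul, ten_smul_right, mulVec_smul, h1, ← ten_smul_right]
  have hBinj : Function.Injective B := by
    intro w w' hww
    refine ten_inj_right (x := e₀) (by simp [e₀]) (gl_mulVec_inj y ?_)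
    rw [hval, hval, hww]
  obtain ⟨SA, hSA⟩ : IsUnit (LinearMap.toMatrix' A) :=
    mulVec_injective_iff_isUnit.mp fun x x' h => hA (by simpa using h)
  obtain ⟨TB, hTB⟩ : IsUnit (LinearMap.toMatrix' B) :=
    mulVec_injective_iff_isUnit.mp fun x x' h => hBinj (by simpa using h)
  refine ⟨SA, TB, TensorUnitary.mat_ext_ten fun x w => ?_⟩
  rw [hval, kron_mulVec_ten, hSA, hTB, LinearMap.toMatrix'_mulVec, LinearMap.toMatrix'_mulVec]

/-- A conjugate of a reflection in the stabiliser fixing a slice maps a slice to a slice. -/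
theorem slice_of_conj (ha : 0 < a) (hM : M ≤ isom Φ) {y : GL (Idx a b) F} (hy : y ∈ M) {k : Fin b → F}
    (hk : f₂ k k ≠ 0) (hm : y * krG (1, rfl' f₂ k) * y⁻¹ ∈ 𝕃) {h : Fin b → F} (hh : h ≠ 0)
    (hfix : ∀ x, ((y * krG (1, rfl' f₂ k) * y⁻¹ : GL (Idx a b) F) : Matrix (Idx a b) (Idx a b) F) *ᵥ ten x h
      = ten x h) :
    ∃ φ, f₂ φ φ ≠ 0 ∧ ∃ A : (Fin a → F) →ₗ[F] (Fin a → F), Function.Injective A ∧
      ∀ x, (y : Matrix (Idx a b) (Idx a b) F) *ᵥ ten x k = ten (A x) φ := by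
  obtain ⟨T, hT, hmT, -⟩ := hs.eq_one_kron ha hm hh hfix
  have himg := congrArg img hmT
  rw [img_conj, img_one_kron, img_one_kron, hs.img_rfl hk] at himg
  have hrank := congrArg (fun S : Submodule F (Idx a b → F) => Module.finrank F S) himg
  rw [← (Submodule.equivMapOfInjective _ (mulVec_injective_iff_isUnit.mpr y.isUnit) _).finrank_eq,
    TensorUnitary.finrank_rowsIn, TensorUnitary.finrank_rowsIn,
    finrank_span_singleton (fun h0 => hk (by rw [h0, bl_zero_left hs.b2]))] at hrank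
  have h1 : Module.finrank F (img T) = 1 := (Nat.eq_of_mul_eq_mul_left ha hrank).symm
  obtain ⟨⟨φ, hφT⟩, hφ0, hspan⟩ := finrank_eq_one_iff'.mp h1
  have hR : img T ≤ Submodule.span F {φ} := fun v hv => by
    obtain ⟨c, hc⟩ := hspan ⟨v, hv⟩
    exact Submodule.mem_span_singleton.mpr ⟨c, congrArg Subtype.val hc⟩
  have hpure : ∀ x, ∃ x', (y : Matrix (Idx a b) (Idx a b) F) *ᵥ ten x k = ten x' φ := by
    intro x
    refine eq_ten_of_rows fun i => hR ?_
    have hmem : (y : Matrix (Idx a b) (Idx a b) F) *ᵥ ten x k ∈ rowsIn a (img T) := by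
      rw [← himg]
      exact ⟨ten x k, TensorUnitary.ten_mem_rowsIn x (Submodule.mem_span_singleton_self k), rfl⟩
    exact hmem i
  choose A hA using hpure
  have hφ0' : φ ≠ 0 := fun h0 => hφ0 (Subtype.ext h0)
  let AL : (Fin a → F) →ₗ[F] (Fin a → F) :=
    { toFun := A
      map_add' := fun x x' => ten_inj_left hφ0' (by
        rw [← hA, ten_add_left, mulVec_add, hA, hA, ← ten_add_left])
      map_smul' := fun c x => ten_inj_left hφ0' (by
        rw [← hA, ten_smul_left, mulVec_smul, hA, ← ten_smul_left, RingHom.id_apply]) }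
  refine ⟨φ, ?_, AL, fun x x' hxx => ?_, hA⟩
  · obtain ⟨z, hz⟩ := (hs.n1 (Pi.single (⟨0, ha⟩ : Fin a) (1 : F)) (by simp)).2
    have h2 := hM hy (ten (Pi.single ⟨0, ha⟩ 1) k) (ten z k)
    rw [hA, hA, hs.form_ten_ten, hs.form_ten_ten] at h2
    exact right_ne_zero_of_mul (h2 ▸ mul_ne_zero hz hk)
  · refine ten_inj_left (y := k) (fun h0 => hk (by rw [h0, bl_zero_left hs.b2])) (gl_mulVec_inj y ?_)
    rw [hA, hA]
    exact congrArg (ten · φ) hxx

end Setting

end CfsgLib.TensorSympOrth
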