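import Cfsg.Agent.TensorSympOrth.Orth

/-!
# One transvection with pure isotropic centre gives all transvections
-/

set_option autoImplicit false
set_option linter.unusedSectionVars false

namespace CfsgLib.TensorSympOrth

open Matrix Cfsg.Geo CfsgLib.MaxSub CfsgLib.TensorMax
open CfsgLib.TensorUnitary (form ev isom pMat)
open scoped Kronecker

variable {F : Type*} [Field F] {a b : ℕ}

/-- All transvections with centre `v` lie in `M`. -/
def IsCen {ι : Type} [Fintype ι] [DecidableEq ι] (f : (ι → F) → (ι → F) → F) (M : Subgroup (GL ι F))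
    (v : ι → F) : Prop := ∀ k : F, ctv f v k ∈ M

namespace Setting

variable {f₁ : (Fin a → F) → (Fin a → F) → F} {f₂ : (Fin b → F) → (Fin b → F) → F}
  (hs : Setting f₁ f₂) {M : Subgroup (GL (Idx a b) F)}
include hs

local notation "Φ" => form f₁ f₂

theorem cen_map {v : Idx a b → F} (h : IsCen Φ M v) {g : GL (Idx a b) F} (hg : g ∈ isom Φ) (hgM : g ∈ M) :
    IsCen Φ M ((g : Matrix (Idx a b) (Idx a b) F) *ᵥ v) := fun k => by
  rw [← conj_ctv hs.bf hs.nf hs.form_alt hg]; exact M.mul_mem (M.mul_mem hgM (h k)) (M.inv_mem hgM)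

theorem cen_smul {v : Idx a b → F} (h : IsCen Φ M v) (z : F) : IsCen Φ M (z • v) := fun k => by
  rw [ctv_smul hs.bf hs.nf (hs.form_alt v)]; exact h _

theorem cen_add {x y : Idx a b → F} (hx : IsCen Φ M x) (hy : IsCen Φ M y) (h : Φ x y ≠ 0) :
    IsCen Φ M (x + y) := by
  have := hs.cen_map hx (ctv_mem hs.bf hs.nf hs.form_alt y (Φ x y)⁻¹) (hy (Φ x y)⁻¹)
  rwa [ctv_mulVec hs.bf hs.nf (hs.form_alt y), inv_mul_cancel₀ h, one_smul] at this

theorem cen_orth {x v : Idx a b → F} (hx : IsCen Φ M x) (hp : IsCen Φ M (x + v))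
    (hm : IsCen Φ M (x - v)) (h : Φ x v = 0) : IsCen Φ M v := by
  intro k
  have e : ctv Φ v k = ctv Φ (x + v) (k / 2) * ctv Φ (x - v) (k / 2) * ctv Φ x (-k) := by
    refine gl_ext fun z => ?_
    have h' : Φ v x = 0 := by rw [hs.form_skew, h, neg_zero]
    simp only [gl_mul_mulVec, ctv_mulVec hs.bf hs.nf (hs.form_alt _), hs.bf.add_left, hs.bf.add_right,
      bl_sub_left hs.bf, bl_sub_right hs.bf, hs.bf.smul_left, hs.form_alt, h, h']
    simp only [mul_zero, add_zero, sub_zero, zero_add]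
    have h2 : k / 2 + k / 2 = k := by rw [← two_mul, mul_div_cancel₀ _ hs.two]
    calc z + (k * Φ z v) • v
        = z + ((k / 2 + k / 2) * Φ z v) • v := by rw [h2]
      _ = z + (-k * Φ z x) • x + ((k / 2 + k / 2) * Φ z x) • x + ((k / 2 + k / 2) * Φ z v) • v := by
        rw [h2]; module
      _ = _ := by module
  rw [e]; exact M.mul_mem (M.mul_mem (hp _) (hm _)) (hx _)

/-- Extending a subspace of centres. -/
theorem cen_sup {Sg : Submodule F (Idx a b → F)} (hS : ∀ v ∈ Sg, IsCen Φ M v) {s σ₁ : Idx a b → F}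
    (hs' : IsCen Φ M s) (hσ₁ : σ₁ ∈ Sg) (h1 : Φ σ₁ s ≠ 0) :
    ∀ v ∈ Sg ⊔ Submodule.span F {s}, IsCen Φ M v := by
  intro v hv
  obtain ⟨σ, hσ, z, hz, rfl⟩ := Submodule.mem_sup.mp hv
  obtain ⟨k, rfl⟩ := Submodule.mem_span_singleton.mp hz
  rcases eq_or_ne k 0 with rfl | hk
  · rw [zero_smul, add_zero]; exact hS σ hσ
  by_cases h0 : Φ σ s = 0
  swap
  · exact hs.cen_add (hS σ hσ) (hs.cen_smul hs' k) (by rw [hs.bf.smul_right]; exact mul_ne_zero hk h0)
  have hshift : ∀ l : F, l ≠ 0 → IsCen Φ M (σ + l • σ₁ + k • s) := fun l hl =>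
    hs.cen_add (hS _ (Sg.add_mem hσ (Sg.smul_mem l hσ₁))) (hs.cen_smul hs' k) (by
      rw [hs.bf.smul_right, hs.bf.add_left, hs.bf.smul_left, h0, zero_add]
      exact mul_ne_zero hk (mul_ne_zero hl h1))
  by_cases hr : Φ (σ + k • s) σ₁ = 0
  · refine hs.cen_orth (hS σ₁ hσ₁) ?_ ?_ (by rw [hs.form_skew, hr, neg_zero])
    · convert hshift 1 one_ne_zero using 1; module
    · convert hs.cen_smul (hshift (-1) (neg_ne_zero.mpr one_ne_zero)) (-1) using 1; module
  · have := hs.cen_add (hshift 1 one_ne_zero) (hS _ (Sg.neg_mem hσ₁)) (by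
      rw [one_smul, add_right_comm, bl_neg_right hs.bf, hs.bf.add_left, hs.form_alt, add_zero]
      exact neg_ne_zero.mpr hr)
    convert this using 1
    module

variable [Fintype F]

/-- Pure tensors with isotropic second factor span. -/
theorem iso_tensors_span (hb : 3 ≤ b) :
    Submodule.span F {v : Idx a b → F | ∃ x y, f₂ y y = 0 ∧ v = ten x y} = ⊤ := by
  set S := Submodule.span F {v : Idx a b → F | ∃ x y, f₂ y y = 0 ∧ v = ten x y} with hS
  have hiso : ∀ x y, f₂ y y = 0 → ten x y ∈ S := fun x y hy => Submodule.subset_span ⟨x, y, hy, rfl⟩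
  obtain ⟨c, hc0, hc⟩ := hs.exists_iso hb
  obtain ⟨d, hd, hdc⟩ := hs.exists_partner hc0 hc
  have hz : ∀ x e, f₂ e c = 0 → f₂ e d = 0 → ten x e ∈ S := by
    intro x e hec hed
    have h1 : f₂ (e + (-(f₂ e e / 2)) • c + d) (e + (-(f₂ e e / 2)) • c + d) = 0 := by
      have h2 : f₂ e e / 2 * 2 = f₂ e e := div_mul_cancel₀ _ hs.two
      simp only [hs.b2.add_left, hs.b2.add_right, hs.b2.smul_left, hs.b2.smul_right, hc, hd, hdc, hec, hed,
        hs.symm2 c d, hs.symm2 c e, hs.symm2 d e]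
      linear_combination -h2
    have h3 := S.sub_mem (S.sub_mem (hiso x _ h1) (S.smul_mem (-(f₂ e e / 2)) (hiso x c hc))) (hiso x d hd)
    convert h3 using 1
    rw [ten_add_right, ten_add_right, ten_smul_right]
    abel
  refine Submodule.eq_top_iff'.mpr fun v => ?_
  induction v using TensorUnitary.ten_induction with
  | hadd v w hv hw => exact S.add_mem hv hw
  | h0 => exact S.zero_mem
  | h x y =>
    obtain ⟨h1, h2⟩ := hs.zpart_orth hc hd hdc y
    have h3 := S.add_mem (S.add_mem (hz x _ h1 h2) (S.smul_mem (f₂ y d) (hiso x c hc)))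
      (S.smul_mem (f₂ y c) (hiso x d hd))
    convert h3 using 1
    rw [ten_sub_right, ten_sub_right, ten_smul_right, ten_smul_right]
    abel

theorem cen_all (hb : 3 ≤ b) (hC : ∀ x y, f₂ y y = 0 → IsCen Φ M (ten x y)) (v : Idx a b → F) :
    IsCen Φ M v := by
  classical
  by_cases hzero : ∀ x y, f₂ y y = 0 → ten (F := F) (a := a) (b := b) x y = 0
  · have h : Submodule.span F {v : Idx a b → F | ∃ x y, f₂ y y = 0 ∧ v = ten x y} = ⊥ :=
      Submodule.span_eq_bot.mpr fun w ⟨x, y, hy, hw⟩ => hw ▸ hzero x y hy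
    rw [hs.iso_tensors_span hb] at h
    have hv : v ∈ (⊥ : Submodule F (Idx a b → F)) := h ▸ Submodule.mem_top
    rw [(Submodule.mem_bot F).mp hv]
    have := hC 0 0 (bl_zero_left hs.b2 0)
    rwa [ten_zero_left] at this
  push Not at hzero
  obtain ⟨x₀, y₀, hy₀, hne₀⟩ := hzero
  let P : ℕ → Prop := fun n => ∃ Sg : Submodule F (Idx a b → F), Module.finrank F Sg = n ∧
    ten x₀ y₀ ∈ Sg ∧ ∀ v ∈ Sg, IsCen Φ M v
  have hP1 : ∃ n, n ≤ Module.finrank F (Idx a b → F) ∧ P n :=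
    ⟨_, Submodule.finrank_le _, Submodule.span F {ten x₀ y₀}, rfl,
      Submodule.mem_span_singleton_self _, fun v hv => by
        obtain ⟨k, rfl⟩ := Submodule.mem_span_singleton.mp hv
        exact hs.cen_smul (hC x₀ y₀ hy₀) k⟩
  obtain ⟨n, hn, hPn⟩ := hP1
  obtain ⟨Sg, hdim, hmem, hSg⟩ := Nat.findGreatest_spec (P := P) hn hPn
  have hmax : ∀ x y, f₂ y y = 0 → ten x y ∉ Sg → ∀ σ₁ ∈ Sg, Φ σ₁ (ten x y) = 0 := by
    intro x y hy hnot σ₁ hσ₁
    by_contra h1
    have hlt : Sg < Sg ⊔ Submodule.span F {ten x y} := lt_of_le_of_ne le_sup_left fun h =>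
      hnot (h ▸ Submodule.mem_sup_right (Submodule.mem_span_singleton_self _))
    have := Nat.le_findGreatest (P := P) (Submodule.finrank_le (Sg ⊔ Submodule.span F {ten x y}))
      ⟨_, rfl, Submodule.mem_sup_left hmem, hs.cen_sup hSg (hC x y hy) hσ₁ h1⟩
    have := Submodule.finrank_lt_finrank_of_lt hlt
    omega
  suffices h : Sg = ⊤ from hSg v (h ▸ Submodule.mem_top)
  rw [eq_top_iff, ← hs.iso_tensors_span hb, Submodule.span_le]
  rintro _ ⟨x, y, hy, rfl⟩
  by_contra hnot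
  have hx : x ≠ 0 := fun h => hnot (by rw [h, ten_zero_left]; exact Sg.zero_mem)
  have hy0 : y ≠ 0 := fun h => hnot (by rw [h, ten_zero_right]; exact Sg.zero_mem)
  rw [ne_eq, ten_eq_zero, not_or] at hne₀
  obtain ⟨x', h1, h2⟩ := exists_both hs.b1 hs.n1 hne₀.1 hx
  obtain ⟨y', hy', h3, h4⟩ := hs.exists_iso_both hb hne₀.2 hy₀ hy0 hy
  by_cases ht : ten x' y' ∈ Sg
  · have := hmax x y hy hnot _ ht
    rw [hs.form_ten_ten] at this
    exact mul_ne_zero h2 h4 this
  · have := hmax x' y' hy' ht _ hmem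
    rw [hs.form_ten_ten, hs.skew1, hs.symm2 y₀] at this
    exact mul_ne_zero (neg_ne_zero.mpr h1) h3 this

/-- Scalars of transvections at a point form an additive group stable under squares. -/
theorem cen_of_one (hLM : tensSO f₁ f₂ ≤ M) {u : Fin a → F} {c : Fin b → F} (hc0 : c ≠ 0)
    (hc : f₂ c c = 0) {k₀ : F} (hk₀ : k₀ ≠ 0) (h : ctv Φ (ten u c) k₀ ∈ M) : IsCen Φ M (ten u c) := by
  intro k
  obtain ⟨d, hd, hdc⟩ := hs.exists_partner hc0 hc
  have hsq : ∀ z : F, ctv Φ (ten u c) (z * z * k₀) ∈ M := by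
    intro z
    rcases eq_or_ne z 0 with rfl | hz
    · rw [zero_mul, zero_mul]
      have : ctv Φ (ten u c) 0 = 1 := by rw [ctv, zero_smul, tv_zero_left]
      rw [this]; exact M.one_mem
    obtain ⟨T, hT, hTc⟩ := hs.exists_scale hc hd hdc hz
    have hK := hs.krG_mem (Subgroup.one_mem (isom f₁)) hT
    have h1 := M.mul_mem (M.mul_mem (hLM hK) h) (M.inv_mem (hLM hK))
    rwa [conj_ctv hs.bf hs.nf hs.form_alt hK.2, krG_val, kron_mulVec_ten, Units.val_one, one_mulVec, hTc,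
      ten_smul_right, ctv_smul hs.bf hs.nf (hs.form_alt _)] at h1
  set r := k / k₀ with hr
  have h2 : ((r + 1) / 2) * ((r + 1) / 2) * k₀ = k + ((r - 1) / 2) * ((r - 1) / 2) * k₀ := by
    have e : k = r * k₀ := (div_mul_cancel₀ k hk₀).symm
    rw [e]
    field_simp [hs.two]
    ring
  have h3 := M.mul_mem (hsq ((r + 1) / 2)) (M.inv_mem (hsq ((r - 1) / 2)))
  rwa [h2, ← ctv_add hs.bf hs.nf (hs.form_alt _), mul_inv_cancel_right] at h3

theorem cen_all_of_one (hb : 3 ≤ b) (hLM : tensSO f₁ f₂ ≤ M) {u : Fin a → F} {c : Fin b → F} (hu : u ≠ 0)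
    (hc0 : c ≠ 0) (hc : f₂ c c = 0) {k₀ : F} (hk₀ : k₀ ≠ 0) (h : ctv Φ (ten u c) k₀ ∈ M)
    (v : Idx a b → F) : IsCen Φ M v := by
  refine hs.cen_all hb (fun x y hy => ?_) v
  have h0 := hs.cen_of_one hLM hc0 hc hk₀ h
  rcases eq_or_ne x 0 with rfl | hx
  · rw [ten_zero_left]
    have := hs.cen_smul h0 0
    rwa [zero_smul] at this
  rcases eq_or_ne y 0 with rfl | hy0
  · rw [ten_zero_right]
    have := hs.cen_smul h0 0
    rwa [zero_smul] at this
  obtain ⟨S, hS, hSu⟩ := hs.exists_move1 hu hx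
  obtain ⟨T, hT, hTc⟩ := hs.exists_iso_move hb hc0 hc hy0 hy
  have hK := hs.krG_mem hS hT
  have := hs.cen_map h0 hK.2 (hLM hK)
  rwa [krG_val, kron_mulVec_ten, hSu, hTc] at this

end Setting

end CfsgLib.TensorSympOrth
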