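import Cfsg.Agent.TensorSympOrth.Basic

/-!
# Geometry of the two factors
-/

set_option autoImplicit false
set_option linter.unusedSectionVars false

namespace CfsgLib.TensorSympOrth

open Matrix Cfsg.Geo CfsgLib.MaxSub CfsgLib.TensorMax
open CfsgLib.TensorUnitary (form ev isom pMat)
open scoped Kronecker

variable {F : Type*} [Field F] {a b : ℕ}

/-- An orthogonal family of anisotropic vectors. -/
def IsOrth (f₂ : (Fin b → F) → (Fin b → F) → F) {n : ℕ} (p : Fin n → Fin b → F) : Prop :=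
  (∀ i, f₂ (p i) (p i) ≠ 0) ∧ ∀ i j, i ≠ j → f₂ (p i) (p j) = 0

/-- The orthogonal complement of a family. -/
def perpF {f₂ : (Fin b → F) → (Fin b → F) → F} (hb : IsBilinearForm f₂) {n : ℕ}
    (p : Fin n → Fin b → F) : Submodule F (Fin b → F) where
  carrier := {x | ∀ i, f₂ x (p i) = 0}
  add_mem' {x y} hx hy i := by rw [hb.add_left, hx, hy, add_zero]
  zero_mem' i := bl_zero_left hb _
  smul_mem' c x hx i := by rw [hb.smul_left, hx, mul_zero]

namespace Setting

variable {f₁ : (Fin a → F) → (Fin a → F) → F} {f₂ : (Fin b → F) → (Fin b → F) → F}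
  (hs : Setting f₁ f₂)
include hs

theorem mem_perpF {n : ℕ} {p : Fin n → Fin b → F} {x : Fin b → F} :
    x ∈ perpF hs.b2 p ↔ ∀ i, f₂ x (p i) = 0 := Iff.rfl

theorem orth_linearIndependent {n : ℕ} {p : Fin n → Fin b → F} (hp : IsOrth f₂ p) :
    LinearIndependent F p := by
  classical
  rw [Fintype.linearIndependent_iff]
  intro g hg i
  let L : (Fin b → F) →ₗ[F] F :=
    { toFun := fun y => f₂ y (p i)
      map_add' := fun y z => hs.b2.add_left y z _
      map_smul' := fun c y => hs.b2.smul_left c y _ }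
  have h := congrArg L hg
  rw [map_zero, map_sum, Finset.sum_eq_single i] at h
  · rw [map_smul] at h
    exact (mul_eq_zero.mp h).resolve_right (hp.1 i)
  · intro j _ hj
    rw [map_smul, smul_eq_mul]
    show g j * f₂ (p j) (p i) = 0
    rw [hp.2 j i hj, mul_zero]
  · simp

theorem orth_le {n : ℕ} {p : Fin n → Fin b → F} (hp : IsOrth f₂ p) : n ≤ b := by
  have := (hs.orth_linearIndependent hp).fintype_card_le_finrank
  simpa using this

theorem exists_perp_part {n : ℕ} {p : Fin n → Fin b → F} (hp : IsOrth f₂ p) (y : Fin b → F) :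
    ∃ y' ∈ perpF hs.b2 p, y - y' ∈ Submodule.span F (Set.range p) := by
  classical
  refine ⟨y - ∑ j, (f₂ y (p j) / f₂ (p j) (p j)) • p j, fun i => ?_, ?_⟩
  · let L : (Fin b → F) →ₗ[F] F :=
      { toFun := fun y => f₂ y (p i)
        map_add' := fun y z => hs.b2.add_left y z _
        map_smul' := fun c y => hs.b2.smul_left c y _ }
    show L (y - _) = 0
    rw [map_sub, map_sum, Finset.sum_eq_single i]
    · rw [map_smul, smul_eq_mul]
      show f₂ y (p i) - _ * f₂ (p i) (p i) = 0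
      rw [div_mul_cancel₀ _ (hp.1 i), sub_self]
    · intro j _ hj
      rw [map_smul, smul_eq_mul]
      show _ * f₂ (p j) (p i) = 0
      rw [hp.2 j i hj, mul_zero]
    · simp
  · rw [sub_sub_cancel]
    exact Submodule.sum_mem _ fun j _ => Submodule.smul_mem _ _ (Submodule.subset_span ⟨j, rfl⟩)

theorem span_perp_eq_zero {n : ℕ} {p : Fin n → Fin b → F} {x : Fin b → F} (hx : ∀ i, f₂ x (p i) = 0)
    {y : Fin b → F} (hy : y ∈ Submodule.span F (Set.range p)) : f₂ x y = 0 := by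
  induction hy using Submodule.span_induction with
  | mem y hy => obtain ⟨i, rfl⟩ := hy; exact hx i
  | zero => exact bl_zero_right hs.b2 x
  | add y z _ _ h1 h2 => rw [hs.b2.add_right, h1, h2, add_zero]
  | smul c y _ h1 => rw [hs.b2.smul_right, h1, mul_zero]

theorem span_full {n : ℕ} {p : Fin n → Fin b → F} (hp : IsOrth f₂ p) (hn : n = b) :
    Submodule.span F (Set.range p) = ⊤ :=
  (hs.orth_linearIndependent hp).span_eq_top_of_card_eq_finrank' (by simp [hn])

theorem eq_zero_of_perp {n : ℕ} {p : Fin n → Fin b → F} (hp : IsOrth f₂ p) (hn : n = b)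
    {x : Fin b → F} (hx : ∀ i, f₂ x (p i) = 0) : x = 0 :=
  hs.eq_of_forall2 fun z => by
    rw [hs.span_perp_eq_zero hx (by rw [hs.span_full hp hn]; exact Submodule.mem_top), bl_zero_left hs.b2]

theorem finrank_perpF {n : ℕ} {p : Fin n → Fin b → F} (hp : IsOrth f₂ p) :
    Module.finrank F (perpF hs.b2 p) + n = b := by
  classical
  have hsup : perpF hs.b2 p ⊔ Submodule.span F (Set.range p) = ⊤ := by
    refine Submodule.eq_top_iff'.mpr fun y => ?_
    obtain ⟨y', hy', h⟩ := hs.exists_perp_part hp y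
    exact Submodule.mem_sup.mpr ⟨y', hy', y - y', h, by abel⟩
  have hinf : perpF hs.b2 p ⊓ Submodule.span F (Set.range p) = ⊥ := by
    refine (Submodule.eq_bot_iff _).mpr fun x hx => hs.eq_of_forall2 fun z => ?_
    obtain ⟨z', hz', h⟩ := hs.exists_perp_part hp z
    rw [bl_zero_left hs.b2, show z = z' + (z - z') by abel, hs.b2.add_right,
      hs.span_perp_eq_zero hx.1 h, hs.symm2 x z', hs.span_perp_eq_zero hz' hx.2, add_zero]
  have h1 := Submodule.finrank_sup_add_finrank_inf_eq (perpF hs.b2 p) (Submodule.span F (Set.range p))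
  rw [hsup, hinf, finrank_top, finrank_bot, finrank_span_eq_card (hs.orth_linearIndependent hp),
    Module.finrank_fin_fun, Fintype.card_fin] at h1
  omega

/-- A non-zero vector of a non-degenerate subspace gives an anisotropic one. -/
theorem exists_aniso_mem {S : Submodule F (Fin b → F)} {x y : Fin b → F} (hx : x ∈ S) (hy : y ∈ S)
    (hxy : f₂ x y ≠ 0) : ∃ h ∈ S, f₂ h h ≠ 0 := by
  by_cases h1 : f₂ x x = 0
  swap
  · exact ⟨x, hx, h1⟩
  by_cases h2 : f₂ y y = 0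
  swap
  · exact ⟨y, hy, h2⟩
  refine ⟨x + y, S.add_mem hx hy, ?_⟩
  rw [hs.b2.add_left, hs.b2.add_right, hs.b2.add_right, h1, h2, hs.symm2 y x, zero_add, add_zero,
    ← two_mul]
  exact mul_ne_zero hs.two hxy

theorem exists_nonorth_perp {n : ℕ} {p : Fin n → Fin b → F} (hp : IsOrth f₂ p) {x : Fin b → F}
    (hx : x ∈ perpF hs.b2 p) (hx0 : x ≠ 0) : ∃ y ∈ perpF hs.b2 p, f₂ x y ≠ 0 := by
  obtain ⟨z, hz⟩ := (hs.n2 x hx0).2
  obtain ⟨z', hz', h⟩ := hs.exists_perp_part hp z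
  refine ⟨z', hz', fun h0 => hz ?_⟩
  rw [show z = z' + (z - z') by abel, hs.b2.add_right, hs.span_perp_eq_zero hx h, h0, add_zero]

theorem exists_aniso_perp {n : ℕ} {p : Fin n → Fin b → F} (hp : IsOrth f₂ p) (hn : n < b) :
    ∃ h, f₂ h h ≠ 0 ∧ ∀ i, f₂ h (p i) = 0 := by
  have hrank := hs.finrank_perpF hp
  obtain ⟨x, hx, hx0⟩ := Submodule.exists_mem_ne_zero_of_ne_bot (p := perpF hs.b2 p) fun h => by
    rw [h, finrank_bot] at hrank; omega
  obtain ⟨y, hy, hxy⟩ := hs.exists_nonorth_perp hp hx hx0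
  obtain ⟨h, hh, hh0⟩ := hs.exists_aniso_mem hx hy hxy
  exact ⟨h, hh0, hh⟩

theorem orth_snoc {n : ℕ} {p : Fin n → Fin b → F} (hp : IsOrth f₂ p) {h : Fin b → F}
    (hh : f₂ h h ≠ 0) (hperp : ∀ i, f₂ h (p i) = 0) : IsOrth f₂ (Fin.snoc p h : Fin (n + 1) → Fin b → F) := by
  refine ⟨fun i => ?_, fun i j hij => ?_⟩
  · induction i using Fin.lastCases with
    | last => rw [Fin.snoc_last]; exact hh
    | cast i => rw [Fin.snoc_castSucc]; exact hp.1 i
  · induction i using Fin.lastCases with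
    | last =>
      induction j using Fin.lastCases with
      | last => exact absurd rfl hij
      | cast j => rw [Fin.snoc_last, Fin.snoc_castSucc]; exact hperp j
    | cast i =>
      induction j using Fin.lastCases with
      | last => rw [Fin.snoc_last, Fin.snoc_castSucc, hs.symm2]; exact hperp i
      | cast j =>
        rw [Fin.snoc_castSucc, Fin.snoc_castSucc]
        exact hp.2 i j fun h => hij (by rw [h])

/-- An involutory isometry fixing a family has a full orthogonal family of eigenvectors extending it. -/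
theorem exists_eigen_family {T : GL (Fin b) F} (hT : T ∈ isom f₂) (hT2 : T * T = 1) :
    ∀ {m n : ℕ} {p : Fin n → Fin b → F}, n + m = b → IsOrth f₂ p →
      (∀ i, (T : Matrix (Fin b) (Fin b) F) *ᵥ p i = p i ∨ (T : Matrix (Fin b) (Fin b) F) *ᵥ p i = -p i) →
      ∃ k : Fin b → Fin b → F, IsOrth f₂ k ∧
        (∀ j, (T : Matrix (Fin b) (Fin b) F) *ᵥ k j = k j ∨ (T : Matrix (Fin b) (Fin b) F) *ᵥ k j = -k j) ∧
        ∀ i, ∃ j, k j = p i := by
  intro m
  induction m with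
  | zero =>
    intro n p hn hp hfix
    obtain rfl : n = b := by omega
    exact ⟨p, hp, hfix, fun i => ⟨i, rfl⟩⟩
  | succ m ih =>
    intro n p hn hp hfix
    obtain ⟨h, hh, hperp⟩ := hs.exists_aniso_perp hp (by omega)
    set Th := (T : Matrix (Fin b) (Fin b) F) *ᵥ h with hTh
    have hTTh : (T : Matrix (Fin b) (Fin b) F) *ᵥ Th = h := by
      rw [hTh, ← gl_mul_mulVec, hT2, Units.val_one, one_mulVec]
    have hThperp : ∀ i, f₂ Th (p i) = 0 := by
      intro i
      rcases hfix i with h1 | h1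
      · rw [← h1, hTh, hT, hperp]
      · have := hT h (p i)
        rw [h1, bl_neg_right hs.b2, ← hTh, hperp] at this
        exact neg_eq_zero.mp this
    have hThh : f₂ Th Th = f₂ h h := hT h h
    obtain ⟨k, hk, hkT⟩ : ∃ k, (f₂ k k ≠ 0 ∧ ∀ i, f₂ k (p i) = 0) ∧
        ((T : Matrix (Fin b) (Fin b) F) *ᵥ k = k ∨ (T : Matrix (Fin b) (Fin b) F) *ᵥ k = -k) := by
      by_cases h1 : f₂ (h + Th) (h + Th) = 0
      · refine ⟨h - Th, ⟨fun h2 => hh ?_, fun i => ?_⟩, Or.inr ?_⟩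
        · rw [hs.b2.add_left, hs.b2.add_right, hs.b2.add_right, hThh] at h1
          rw [bl_sub_left hs.b2, bl_sub_right hs.b2, bl_sub_right hs.b2, hThh] at h2
          refine (mul_eq_zero.mp ?_).resolve_left (mul_ne_zero hs.two hs.two)
          linear_combination h1 + h2
        · rw [bl_sub_left hs.b2, hperp, hThperp, sub_zero]
        · rw [mulVec_sub, hTTh, ← hTh, neg_sub]
      · refine ⟨h + Th, ⟨h1, fun i => ?_⟩, Or.inl ?_⟩
        · rw [hs.b2.add_left, hperp, hThperp, add_zero]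
        · rw [mulVec_add, hTTh, ← hTh, add_comm]
    obtain ⟨K, hK, hKT, hKp⟩ := ih (n := n + 1) (p := Fin.snoc p k) (by omega)
      (hs.orth_snoc hp hk.1 hk.2) (fun i => by
        induction i using Fin.lastCases with
        | last => rw [Fin.snoc_last]; exact hkT
        | cast i => rw [Fin.snoc_castSucc]; exact hfix i)
    exact ⟨K, hK, hKT, fun i => by simpa using hKp i.castSucc⟩

/-- An element of order `p` fixing a complement of a plane is trivial. -/
theorem eq_one_of_fix {p : ℕ} [Fact p.Prime] [CharP F p] {n : ℕ} {v : Fin n → Fin b → F}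
    (hv : IsOrth f₂ v) (hn : b ≤ n + 2) {T : GL (Fin b) F} (hT : T ∈ isom f₂)
    (hfix : ∀ i, (T : Matrix (Fin b) (Fin b) F) *ᵥ v i = v i) {k : ℕ} (hTp : T ^ p ^ k = 1) : T = 1 := by
  classical
  set N : Matrix (Fin b) (Fin b) F := (T : Matrix (Fin b) (Fin b) F) - 1 with hN
  rcases Nat.eq_zero_or_pos b with hb0 | hb0
  · subst hb0
    exact Units.ext (Matrix.ext fun i => i.elim0)
  have : NeZero b := ⟨hb0.ne'⟩
  have hNk : N ^ (p ^ k) = 0 := by
    rw [hN, sub_pow_char_pow_of_commute (p := p) k (Commute.one_right (T : Matrix (Fin b) (Fin b) F)),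
      ← Units.val_pow_eq_pow_val, hTp, Units.val_one, one_pow, sub_self]
  by_contra hne
  obtain ⟨x, hx⟩ : ∃ x, N *ᵥ x ≠ 0 := by
    by_contra hcon
    push Not at hcon
    refine hne (gl_ext fun x => ?_)
    have := hcon x
    rw [hN, sub_mulVec, one_mulVec, sub_eq_zero] at this
    rw [this, Units.val_one, one_mulVec]
  obtain ⟨y, hy, hy'⟩ : ∃ y, N *ᵥ y ≠ 0 ∧ N *ᵥ (N *ᵥ y) = 0 := by
    by_contra hcon
    push Not at hcon
    have : ∀ j, N *ᵥ ((N ^ j) *ᵥ x) ≠ 0 := by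
      intro j
      induction j with
      | zero => rwa [pow_zero, one_mulVec]
      | succ j ih =>
        rw [pow_succ', ← mulVec_mulVec]
        exact hcon _ ih
    exact this (p ^ k) (by rw [hNk, zero_mulVec, mulVec_zero])
  set c := N *ᵥ y with hc
  have hNv : ∀ z, (T : Matrix (Fin b) (Fin b) F) *ᵥ z = z + N *ᵥ z := fun z => by
    rw [hN, sub_mulVec, one_mulVec]; abel
  have hperp : ∀ z, N *ᵥ z ∈ perpF hs.b2 v := fun z i => by
    have h1 := hT z (v i)
    rw [hfix, hNv, hs.b2.add_left] at h1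
    linear_combination h1
  have hNc : ∀ z, f₂ (N *ᵥ z) c = 0 := fun z => by
    have h1 := hT z c
    rw [hNv c, hy', add_zero, hNv, hs.b2.add_left] at h1
    linear_combination h1
  let Cp : Submodule F (Fin b → F) :=
    { carrier := {z | f₂ z c = 0}
      add_mem' := fun {p q} hp hq => by
        show f₂ (p + q) c = 0
        rw [hs.b2.add_left, hp, hq, add_zero]
      zero_mem' := bl_zero_left hs.b2 c
      smul_mem' := fun k p hp => by
        show f₂ (k • p) c = 0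
        rw [hs.b2.smul_left, hp, mul_zero] }
  have hlt : perpF hs.b2 v ⊓ Cp < perpF hs.b2 v := by
    refine lt_of_le_of_ne inf_le_left fun heq => ?_
    obtain ⟨w, hw, hcw⟩ := hs.exists_nonorth_perp hv (hperp y) hy
    have : w ∈ Cp := ((heq.symm ▸ hw : w ∈ perpF hs.b2 v ⊓ Cp)).2
    exact hcw (by rw [hs.symm2]; exact this)
  have hd1 := Submodule.finrank_lt_finrank_of_lt hlt
  have hd2 := hs.finrank_perpF hv
  have hline : ∀ z, ∃ α : F, α • c = N *ᵥ z := by
    intro z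
    have hle : Submodule.span F {c} ≤ perpF hs.b2 v ⊓ Cp :=
      (Submodule.span_singleton_le_iff_mem _ _).mpr ⟨hperp y, hNc y⟩
    have heq := Submodule.eq_of_le_of_finrank_le hle (by rw [finrank_span_singleton hy]; omega)
    exact Submodule.mem_span_singleton.mp (by rw [heq]; exact ⟨hperp z, hNc z⟩)
  have hzero : ∀ z, N *ᵥ z = 0 ∨ f₂ z c = 0 := by
    intro z
    obtain ⟨α, hα⟩ := hline z
    have h1 := hT z z
    rw [hNv, ← hα, hs.b2.add_left, hs.b2.add_right, hs.b2.add_right, hs.b2.smul_left, hs.b2.smul_left,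
      hs.b2.smul_right, hs.b2.smul_right, hs.symm2 c z, hNc y] at h1
    rcases mul_eq_zero.mp (show α * (2 * f₂ z c) = 0 by linear_combination h1) with h | h
    · left; rw [← hα, h, zero_smul]
    · exact Or.inr ((mul_eq_zero.mp h).resolve_left hs.two)
  obtain ⟨z, hz⟩ := (hs.n2 c hy).1
  have hNz := (hzero z).resolve_right hz
  rcases hzero (y + z) with h | h
  · exact hy (by rwa [mulVec_add, hNz, add_zero] at h)
  · rcases hzero y with h' | h'
    · exact hy h'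
    · exact hz (by rwa [hs.b2.add_left, h', zero_add] at h)

/-! ### Isotropic vectors -/

/-- An isometry from a linear map preserving the form. -/
theorem exists_isom_of_linear (L : (Fin b → F) →ₗ[F] (Fin b → F)) (hL : ∀ x y, f₂ (L x) (L y) = f₂ x y) :
    ∃ T ∈ isom f₂, ∀ x, (T : Matrix (Fin b) (Fin b) F) *ᵥ x = L x := by
  have hinj : Function.Injective L := by
    rw [injective_iff_map_eq_zero]
    intro x hx
    refine hs.eq_of_forall2 fun z => ?_
    rw [← hL, hx, bl_zero_left hs.b2, bl_zero_left hs.b2]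
  have hu : IsUnit (LinearMap.toMatrix' L) := mulVec_injective_iff_isUnit.mp fun x y h => hinj (by
    simpa using h)
  obtain ⟨T, hT⟩ := hu
  have hval : ∀ x, (T : Matrix (Fin b) (Fin b) F) *ᵥ x = L x := fun x => by
    rw [hT, LinearMap.toMatrix'_mulVec]
  exact ⟨T, fun x y => by rw [hval, hval, hL], hval⟩

theorem exists_partner {c : Fin b → F} (hc0 : c ≠ 0) (hc : f₂ c c = 0) :
    ∃ d, f₂ d d = 0 ∧ f₂ d c = 1 := by
  obtain ⟨z, hz⟩ := (hs.n2 c hc0).1
  set z' := (f₂ z c)⁻¹ • z with hz'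
  have h1 : f₂ z' c = 1 := by rw [hz', hs.b2.smul_left, inv_mul_cancel₀ hz]
  clear_value z'
  refine ⟨z' - (f₂ z' z' / 2) • c, ?_, ?_⟩
  · rw [bl_sub_left hs.b2, bl_sub_right hs.b2, bl_sub_right hs.b2, hs.b2.smul_left, hs.b2.smul_left,
      hs.b2.smul_right, hs.b2.smul_right, hc, hs.symm2 c z', h1]
    have h2 : f₂ z' z' / 2 * 2 = f₂ z' z' := div_mul_cancel₀ _ hs.two
    linear_combination -h2
  · rw [bl_sub_left hs.b2, hs.b2.smul_left, hc, h1, mul_zero, sub_zero]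

/-- The component orthogonal to a hyperbolic pair. -/
theorem zpart_orth {c d : Fin b → F} (hc : f₂ c c = 0) (hd : f₂ d d = 0) (hdc : f₂ d c = 1)
    (v : Fin b → F) :
    f₂ (v - f₂ v d • c - f₂ v c • d) c = 0 ∧ f₂ (v - f₂ v d • c - f₂ v c • d) d = 0 := by
  constructor <;>
  · simp only [bl_sub_left hs.b2, hs.b2.smul_left, hc, hd, hdc, hs.symm2 c d]
    ring

theorem exists_aniso_pair (hb : 3 ≤ b) {c d : Fin b → F} (hc : f₂ c c = 0) (hd : f₂ d d = 0)
    (hdc : f₂ d c = 1) : ∃ e, f₂ e e ≠ 0 ∧ f₂ e c = 0 ∧ f₂ e d = 0 := by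
  have h4 := finrank_dotsKer ![leftVec f₂ c, leftVec f₂ d]
  obtain ⟨x, hx, hx0⟩ := Submodule.exists_mem_ne_zero_of_ne_bot
    (p := dotsKer ![leftVec f₂ c, leftVec f₂ d]) fun h => by
      rw [h, finrank_bot] at h4
      simp at h4
      omega
  rw [mem_dotsKer] at hx
  have hxc : f₂ x c = 0 := by have := hx 0; simpa [hs.s2.dot_leftVec] using this
  have hxd : f₂ x d = 0 := by have := hx 1; simpa [hs.s2.dot_leftVec] using this
  obtain ⟨z, hz⟩ := (hs.n2 x hx0).2
  obtain ⟨hz1, hz2⟩ := hs.zpart_orth hc hd hdc z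
  let S : Submodule F (Fin b → F) :=
    { carrier := {y | f₂ y c = 0 ∧ f₂ y d = 0}
      add_mem' := fun {p q} hp hq => ⟨by rw [hs.b2.add_left, hp.1, hq.1, add_zero],
        by rw [hs.b2.add_left, hp.2, hq.2, add_zero]⟩
      zero_mem' := ⟨bl_zero_left hs.b2 _, bl_zero_left hs.b2 _⟩
      smul_mem' := fun k p hp => ⟨by rw [hs.b2.smul_left, hp.1, mul_zero],
        by rw [hs.b2.smul_left, hp.2, mul_zero]⟩ }
  obtain ⟨h, hh, hh0⟩ := hs.exists_aniso_mem (S := S) (x := x) (y := z - f₂ z d • c - f₂ z c • d)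
    ⟨hxc, hxd⟩ ⟨hz1, hz2⟩ (by
      rw [bl_sub_right hs.b2, bl_sub_right hs.b2, hs.b2.smul_right, hs.b2.smul_right, hxc, hxd]
      simpa using hz)
  exact ⟨h, hh0, hh⟩

/-- An orthogonal family of three anisotropic vectors spans an isotropic vector. -/
theorem exists_iso_three [Fintype F] {e₁ e₂ e₃ : Fin b → F} (h1 : f₂ e₁ e₁ ≠ 0) (h2 : f₂ e₂ e₂ ≠ 0)
    (h3 : f₂ e₃ e₃ ≠ 0) (h12 : f₂ e₁ e₂ = 0) (h13 : f₂ e₁ e₃ = 0) (h23 : f₂ e₂ e₃ = 0) :
    ∃ x y : F, x • e₁ + y • e₂ + e₃ ≠ 0 ∧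
      f₂ (x • e₁ + y • e₂ + e₃) (x • e₁ + y • e₂ + e₃) = 0 := by
  have hodd : Odd (Fintype.card F) :=
    Nat.odd_iff.mpr (FiniteField.odd_card_of_char_ne_two fun h => hs.two (by
      have : CharP F 2 := ringChar.of_eq h
      exact CharTwo.two_eq_zero))
  obtain ⟨x, y, hxy⟩ := exists_sq_add_sq hodd h1 h2 (- f₂ e₃ e₃)
  refine ⟨x, y, fun h => h3 ?_, ?_⟩
  · have := congrArg (fun v => f₂ v e₃) h
    simp only [hs.b2.add_left, hs.b2.smul_left, h13, h23, mul_zero, zero_add, bl_zero_left hs.b2] at this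
    exact this
  · simp only [hs.b2.add_left, hs.b2.add_right, hs.b2.smul_left, hs.b2.smul_right, h12, h13, h23,
      hs.symm2 e₂ e₁, hs.symm2 e₃ e₁, hs.symm2 e₃ e₂]
    linear_combination hxy

theorem exists_iso [Fintype F] (hb : 3 ≤ b) : ∃ c, c ≠ 0 ∧ f₂ c c = 0 := by
  obtain ⟨h₁, hh₁, -⟩ := hs.exists_aniso_perp (p := (Fin.elim0 : Fin 0 → Fin b → F))
    ⟨fun i => i.elim0, fun i => i.elim0⟩ (by omega)
  have o1 := hs.orth_snoc (p := (Fin.elim0 : Fin 0 → Fin b → F)) ⟨fun i => i.elim0, fun i => i.elim0⟩ hh₁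
    fun i => i.elim0
  obtain ⟨h₂, hh₂, hp₂⟩ := hs.exists_aniso_perp o1 (by omega)
  have o2 := hs.orth_snoc o1 hh₂ hp₂
  obtain ⟨h₃, hh₃, hp₃⟩ := hs.exists_aniso_perp o2 (by omega)
  have o3 := hs.orth_snoc o2 hh₃ hp₃
  obtain ⟨x, y, hne, h0⟩ := hs.exists_iso_three (o3.1 0) (o3.1 1) (o3.1 2) (o3.2 0 1 (by decide))
    (o3.2 0 2 (by decide)) (o3.2 1 2 (by decide))
  exact ⟨_, hne, h0⟩

/-- An isotropic vector pairing non-trivially with two given ones. -/
theorem exists_iso_both (hb : 3 ≤ b) {c c' : Fin b → F} (hc0 : c ≠ 0) (hc : f₂ c c = 0) (hc'0 : c' ≠ 0)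
    (hc' : f₂ c' c' = 0) : ∃ z, f₂ z z = 0 ∧ f₂ z c ≠ 0 ∧ f₂ z c' ≠ 0 := by
  by_cases h : f₂ c c' = 0
  · obtain ⟨z, h1, h2⟩ := exists_both hs.b2 hs.n2 hc0 hc'0
    refine ⟨z - (f₂ z z / (2 * f₂ z c)) • c, ?_, ?_, ?_⟩
    · have h3 : f₂ z z / (2 * f₂ z c) * (2 * f₂ z c) = f₂ z z :=
        div_mul_cancel₀ _ (mul_ne_zero hs.two h1)
      simp only [bl_sub_left hs.b2, bl_sub_right hs.b2, hs.b2.smul_left, hs.b2.smul_right, hc,
        hs.symm2 c z]
      linear_combination -h3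
    · rwa [bl_sub_left hs.b2, hs.b2.smul_left, hc, mul_zero, sub_zero]
    · rwa [bl_sub_left hs.b2, hs.b2.smul_left, h, mul_zero, sub_zero]
  · obtain ⟨e, he, hec, hed⟩ := hs.exists_aniso_pair hb (d := (f₂ c' c)⁻¹ • c') hc
      (by rw [hs.b2.smul_left, hs.b2.smul_right, hc', mul_zero, mul_zero])
      (by rw [hs.b2.smul_left, inv_mul_cancel₀ (by rwa [hs.symm2])])
    rw [hs.b2.smul_right, mul_eq_zero, inv_eq_zero] at hed
    have hec' : f₂ e c' = 0 := hed.resolve_left (by rwa [hs.symm2])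
    set s := - f₂ e e / (2 * f₂ c c') with hsdef
    have hsv : s * (2 * f₂ c c') = - f₂ e e := div_mul_cancel₀ _ (mul_ne_zero hs.two h)
    have hs0 : s ≠ 0 := fun h0 => he (by rw [h0, zero_mul] at hsv; exact neg_eq_zero.mp hsv.symm)
    clear_value s
    refine ⟨c + s • c' + e, ?_, ?_, ?_⟩
    · simp only [hs.b2.add_left, hs.b2.add_right, hs.b2.smul_left, hs.b2.smul_right, hc, hc', hec, hec',
        hs.symm2 c e, hs.symm2 c' e, hs.symm2 c' c]
      linear_combination hsv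
    · simp only [hs.b2.add_left, hs.b2.smul_left, hc, hec, zero_add, add_zero, hs.symm2 c' c]
      exact mul_ne_zero hs0 h
    · simp only [hs.b2.add_left, hs.b2.smul_left, hc', hec', mul_zero, add_zero]
      exact h

theorem exists_scale {c d : Fin b → F} (hc : f₂ c c = 0) (hd : f₂ d d = 0) (hdc : f₂ d c = 1) {z : F}
    (hz : z ≠ 0) : ∃ T ∈ isom f₂, (T : Matrix (Fin b) (Fin b) F) *ᵥ c = z • c := by
  let L : (Fin b → F) →ₗ[F] (Fin b → F) :=
    { toFun := fun v => v + ((z - 1) * f₂ v d) • c + ((z⁻¹ - 1) * f₂ v c) • d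
      map_add' := fun v w => by rw [hs.b2.add_left, hs.b2.add_left]; module
      map_smul' := fun k v => by rw [hs.b2.smul_left, hs.b2.smul_left, RingHom.id_apply]; module }
  obtain ⟨T, hT, hTv⟩ := hs.exists_isom_of_linear L fun x y => by
    show f₂ (x + _ + _) (y + _ + _) = _
    simp only [hs.b2.add_left, hs.b2.add_right, hs.b2.smul_left, hs.b2.smul_right, hc, hd, hdc,
      hs.symm2 c d, hs.symm2 c y, hs.symm2 d y]
    field_simp
    ring
  refine ⟨T, hT, ?_⟩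
  rw [hTv]
  show c + _ + _ = _
  rw [hc, hs.symm2 c d, hdc]
  module

/-- Eichler elements. -/
theorem exists_eich {c w : Fin b → F} (hc : f₂ c c = 0) (hwc : f₂ w c = 0) :
    ∃ E ∈ isom f₂, ∀ v, (E : Matrix (Fin b) (Fin b) F) *ᵥ v
      = v + f₂ v c • w - (f₂ v w + f₂ w w / 2 * f₂ v c) • c := by
  let L : (Fin b → F) →ₗ[F] (Fin b → F) :=
    { toFun := fun v => v + f₂ v c • w - (f₂ v w + f₂ w w / 2 * f₂ v c) • c
      map_add' := fun v w => by rw [hs.b2.add_left, hs.b2.add_left]; module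
      map_smul' := fun k v => by rw [hs.b2.smul_left, hs.b2.smul_left, RingHom.id_apply]; module }
  exact hs.exists_isom_of_linear L fun x y => by
    show f₂ (x + _ - _) (y + _ - _) = _
    have h3 : f₂ w w / 2 * 2 = f₂ w w := div_mul_cancel₀ _ hs.two
    simp only [hs.b2.add_left, hs.b2.add_right, bl_sub_left hs.b2, bl_sub_right hs.b2, hs.b2.smul_left,
      hs.b2.smul_right, hc, hwc, hs.symm2 c w, hs.symm2 c y, hs.symm2 w y]
    linear_combination -(f₂ x c * f₂ y c) * h3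

/-- Two non-orthogonal isotropic vectors are exchanged by a reflection. -/
theorem exists_refl_move {c c' : Fin b → F} (hc : f₂ c c = 0) (hc' : f₂ c' c' = 0) (h : f₂ c c' ≠ 0) :
    ∃ T ∈ isom f₂, (T : Matrix (Fin b) (Fin b) F) *ᵥ c = c' := by
  have h1 : f₂ (c - c') (c - c') = -(2 * f₂ c c') := by
    rw [bl_sub_left hs.b2, bl_sub_right hs.b2, bl_sub_right hs.b2, hc, hc', hs.symm2 c' c]; ring
  have h2 : f₂ (c - c') (c - c') ≠ 0 := by rw [h1]; exact neg_ne_zero.mpr (mul_ne_zero hs.two h)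
  refine ⟨rfl' f₂ (c - c'), hs.rfl2_mem h2, ?_⟩
  have h3 : 2 / f₂ (c - c') (c - c') * f₂ c (c - c') = 1 := by
    rw [div_mul_eq_mul_div, div_eq_one_iff_eq h2, h1, bl_sub_right hs.b2, hc]; ring
  rw [hs.rfl2_mulVec h2, h3, one_smul, sub_sub_cancel]

theorem exists_iso_move (hb : 3 ≤ b) {c c' : Fin b → F} (hc0 : c ≠ 0) (hc : f₂ c c = 0) (hc'0 : c' ≠ 0)
    (hc' : f₂ c' c' = 0) : ∃ T ∈ isom f₂, (T : Matrix (Fin b) (Fin b) F) *ᵥ c = c' := by
  obtain ⟨z, hz, h1, h2⟩ := hs.exists_iso_both hb hc0 hc hc'0 hc'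
  obtain ⟨T₁, hT₁, e1⟩ := hs.exists_refl_move hc hz (by rwa [hs.symm2])
  obtain ⟨T₂, hT₂, e2⟩ := hs.exists_refl_move hz hc' h2
  exact ⟨T₂ * T₁, (isom f₂).mul_mem hT₂ hT₁, by rw [gl_mul_mulVec, e1, e2]⟩

/-! ### The symplectic factor -/

theorem ctv1_move {u u' : Fin a → F} (h : f₁ u u' ≠ 0) :
    (ctv f₁ (u' - u) (f₁ u u')⁻¹ : Matrix (Fin a) (Fin a) F) *ᵥ u = u' := by
  rw [hs.ctv1_mulVec, bl_sub_right hs.b1, hs.alt1, sub_zero, inv_mul_cancel₀ h, one_smul]
  abel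

theorem exists_move1 {u u' : Fin a → F} (hu : u ≠ 0) (hu' : u' ≠ 0) :
    ∃ S ∈ isom f₁, (S : Matrix (Fin a) (Fin a) F) *ᵥ u = u' := by
  obtain ⟨z, h1, h2⟩ := exists_both hs.b1 hs.n1 hu hu'
  refine ⟨ctv f₁ (u' - z) (f₁ z u')⁻¹ * ctv f₁ (z - u) (f₁ u z)⁻¹,
    (isom f₁).mul_mem (hs.ctv1_mem _ _) (hs.ctv1_mem _ _), ?_⟩
  rw [gl_mul_mulVec, hs.ctv1_move (by rw [hs.skew1]; exact neg_ne_zero.mpr h1), hs.ctv1_move h2]

/-- Moving inside `u⊥` while fixing `u`. -/
theorem exists_move1_fix {u w w' : Fin a → F} (hw : f₁ w u = 0) (hw' : f₁ w' u = 0)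
    (hne : ∀ k : F, k • u ≠ w) (hne' : ∀ k : F, k • u ≠ w') :
    ∃ S ∈ isom f₁, (S : Matrix (Fin a) (Fin a) F) *ᵥ u = u ∧
      (S : Matrix (Fin a) (Fin a) F) *ᵥ w = w' := by
  obtain ⟨z, hzu, hzw, hzw'⟩ : ∃ z, f₁ z u = 0 ∧ f₁ z w ≠ 0 ∧ f₁ z w' ≠ 0 := by
    obtain ⟨x, hxu, hxw⟩ := hs.s1.exists_orth_not_orth hne
    obtain ⟨y, hyu, hyw⟩ := hs.s1.exists_orth_not_orth hne'
    by_cases h1 : f₁ x w' = 0
    · by_cases h2 : f₁ y w = 0
      · exact ⟨x + y, by rw [hs.b1.add_left, hxu, hyu, add_zero],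
          by rw [hs.b1.add_left, h2, add_zero, hxw]; exact one_ne_zero,
          by rw [hs.b1.add_left, h1, zero_add, hyw]; exact one_ne_zero⟩
      · exact ⟨y, hyu, h2, by rw [hyw]; exact one_ne_zero⟩
    · exact ⟨x, hxu, by rw [hxw]; exact one_ne_zero, h1⟩
  have huz : f₁ u z = 0 := by rw [hs.skew1, hzu, neg_zero]
  have huw : f₁ u w = 0 := by rw [hs.skew1, hw, neg_zero]
  have huw' : f₁ u w' = 0 := by rw [hs.skew1, hw', neg_zero]
  refine ⟨ctv f₁ (w' - z) (f₁ z w')⁻¹ * ctv f₁ (z - w) (f₁ w z)⁻¹,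
    (isom f₁).mul_mem (hs.ctv1_mem _ _) (hs.ctv1_mem _ _), ?_, ?_⟩
  · rw [gl_mul_mulVec, hs.ctv1_mulVec (z - w), bl_sub_right hs.b1, huz, huw, sub_zero, mul_zero,
      zero_smul, add_zero, hs.ctv1_mulVec, bl_sub_right hs.b1, huz, huw', sub_zero, mul_zero, zero_smul,
      add_zero]
  · rw [gl_mul_mulVec, hs.ctv1_move (by rw [hs.skew1]; exact neg_ne_zero.mpr hzw), hs.ctv1_move hzw']

end Setting

end CfsgLib.TensorSympOrth
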