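import Cfsg.Agent.TensorSympOrth.Generate

/-!
# An outside element fixing an isotropic slice pointwise gives a transvection
-/

set_option autoImplicit false
set_option linter.unusedSectionVars false

namespace CfsgLib.TensorSympOrth

open Matrix Cfsg.Geo CfsgLib.MaxSub CfsgLib.TensorMax
open CfsgLib.TensorUnitary (form ev isom pMat)
open scoped Kronecker

variable {F : Type*} [Field F] {a b : ℕ}

/-- `g = 1 + A ⊗ P_c`. -/
def IsCent (f₂ : (Fin b → F) → (Fin b → F) → F) (c : Fin b → F) (g : GL (Idx a b) F)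
    (A : Matrix (Fin a) (Fin a) F) : Prop :=
  ∀ v, (g : Matrix (Idx a b) (Idx a b) F) *ᵥ v = v + ten (A *ᵥ ev f₂ c v) c

/-- Elements fixing the slice at `c` and moving its orthogonal space into it. -/
def InG (f₂ : (Fin b → F) → (Fin b → F) → F) (M : Subgroup (GL (Idx a b) F)) (c : Fin b → F)
    (g : GL (Idx a b) F) : Prop :=
  g ∈ M ∧ (∀ x, (g : Matrix (Idx a b) (Idx a b) F) *ᵥ ten x c = ten x c) ∧
    ∀ v, ev f₂ c v = 0 → ∃ t, (g : Matrix (Idx a b) (Idx a b) F) *ᵥ v - v = ten t c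

namespace Setting

variable {f₁ : (Fin a → F) → (Fin a → F) → F} {f₂ : (Fin b → F) → (Fin b → F) → F}
  (hs : Setting f₁ f₂) {M : Subgroup (GL (Idx a b) F)}
include hs

local notation "Φ" => form f₁ f₂

theorem ev_kron (S : Matrix (Fin a) (Fin a) F) {T : GL (Fin b) F} (hT : T ∈ isom f₂) (w : Fin b → F)
    (v : Idx a b → F) :
    ev f₂ ((T : Matrix (Fin b) (Fin b) F) *ᵥ w) ((S ⊗ₖ (T : Matrix (Fin b) (Fin b) F)) *ᵥ v)
      = S *ᵥ ev f₂ w v := by
  induction v using TensorUnitary.ten_induction with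
  | hadd v w' hv hw => rw [mulVec_add, hs.ev_add, hv, hw, hs.ev_add, mulVec_add]
  | h0 => rw [mulVec_zero, hs.ev_zero, hs.ev_zero, mulVec_zero]
  | h x y => rw [kron_mulVec_ten, hs.ev_ten, hs.ev_ten, hT, mulVec_smul]

theorem ev_kron_one (S : Matrix (Fin a) (Fin a) F) (w : Fin b → F) (v : Idx a b → F) :
    ev f₂ w ((S ⊗ₖ (1 : Matrix (Fin b) (Fin b) F)) *ᵥ v) = S *ᵥ ev f₂ w v := by
  have h := hs.ev_kron S (T := 1) (Subgroup.one_mem _) w v
  rwa [Units.val_one, one_mulVec] at h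

theorem isCent_mul {c : Fin b → F} (hc : f₂ c c = 0) {g h : GL (Idx a b) F}
    {A B : Matrix (Fin a) (Fin a) F} (hg : IsCent f₂ c g A) (hh : IsCent f₂ c h B) :
    IsCent f₂ c (g * h) (A + B) := by
  intro v
  rw [gl_mul_mulVec, hh, hg, hs.ev_add, hs.ev_ten, hc, zero_smul, add_zero, add_mulVec, ten_add_left]
  abel

theorem isCent_inv {c : Fin b → F} (hc : f₂ c c = 0) {g : GL (Idx a b) F}
    {A : Matrix (Fin a) (Fin a) F} (hg : IsCent f₂ c g A) : IsCent f₂ c g⁻¹ (-A) := by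
  intro v
  refine gl_mulVec_inj g ?_
  rw [gl_mulVec_inv, hg, hs.ev_add, hs.ev_ten, hc, zero_smul, add_zero, neg_mulVec, ten_neg_left]
  abel

/-- A non-trivial central element gives a transvection. -/
theorem ctv_of_cent (hLM : tensSO f₁ f₂ ≤ M) (hM : M ≤ isom Φ) {c : Fin b → F} (hc0 : c ≠ 0)
    (hc : f₂ c c = 0) {g : GL (Idx a b) F} (hgM : g ∈ M) {A : Matrix (Fin a) (Fin a) F}
    (hg : IsCent f₂ c g A) (hA : A ≠ 0) :
    ∃ u : Fin a → F, u ≠ 0 ∧ ∃ k₀ : F, k₀ ≠ 0 ∧ ctv Φ (ten u c) k₀ ∈ M := by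
  obtain ⟨d, hd, hdc⟩ := hs.exists_partner hc0 hc
  have hskew : ∀ x z, f₁ (A *ᵥ x) z = f₁ (A *ᵥ z) x := by
    intro x z
    have h1 := hM hgM (ten x d) (ten z d)
    rw [hg, hg, hs.ev_ten, hs.ev_ten, hdc, one_smul, one_smul, hs.bf.add_left, hs.bf.add_right,
      hs.bf.add_right, hs.form_ten_ten, hs.form_ten_ten, hs.form_ten_ten, hs.form_ten_ten, hd, hdc,
      hs.symm2 c d, hdc, hc, hs.skew1 x (A *ᵥ z)] at h1
    linear_combination h1
  obtain ⟨u, hu⟩ : ∃ u, f₁ (A *ᵥ u) u ≠ 0 := by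
    by_contra hcon
    push Not at hcon
    refine hA (Matrix.ext_iff_mulVec.mpr fun x => ?_)
    rw [zero_mulVec]
    refine hs.eq_of_forall1 fun z => ?_
    rw [bl_zero_left hs.b1]
    have h1 := hcon (x + z)
    rw [mulVec_add, hs.b1.add_left, hs.b1.add_right, hs.b1.add_right, hcon, hcon, ← hskew x z] at h1
    exact (mul_eq_zero.mp (show (2 : F) * f₁ (A *ᵥ x) z = 0 by linear_combination h1)).resolve_left hs.two
  have hu0 : u ≠ 0 := fun h => hu (by rw [h, bl_zero_right hs.b1])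
  have hconj : ∀ l : F, ∃ B : Matrix (Fin a) (Fin a) F, (∀ x, B *ᵥ x = A *ᵥ x +
      (l * f₁ (A *ᵥ x) u) • u - (l * f₁ x u) • (A *ᵥ u) - (l * l * f₁ x u * f₁ (A *ᵥ u) u) • u) ∧
      ∃ h ∈ M, IsCent f₂ c h B := by
    intro l
    have hS := hs.ctv1_mem u l
    have hK := hs.krG_mem hS (Subgroup.one_mem (isom f₂))
    have hinv : ∀ x, (((ctv f₁ u l)⁻¹ : GL (Fin a) F) : Matrix (Fin a) (Fin a) F) *ᵥ x
        = x - (l * f₁ x u) • u := by
      intro x
      refine gl_mulVec_inj (ctv f₁ u l) ?_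
      rw [gl_mulVec_inv, hs.ctv1_mulVec, bl_sub_left hs.b1, hs.b1.smul_left, hs.alt1, mul_zero, sub_zero,
        sub_add_cancel]
    refine ⟨(ctv f₁ u l : Matrix (Fin a) (Fin a) F) * A *
        (((ctv f₁ u l)⁻¹ : GL (Fin a) F) : Matrix (Fin a) (Fin a) F), fun x => ?_,
      _, M.mul_mem (M.mul_mem (hLM hK) hgM) (M.inv_mem (hLM hK)), fun v => ?_⟩
    · rw [← mulVec_mulVec, ← mulVec_mulVec, hinv, mulVec_sub, mulVec_smul, hs.ctv1_mulVec, bl_sub_left hs.b1,
        hs.b1.smul_left]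
      module
    · rw [gl_mul_mulVec, gl_mul_mulVec, ← map_inv, Prod.inv_mk, inv_one, hg, mulVec_add, ← gl_mul_mulVec,
        ← map_mul, Prod.mk_mul_mk, mul_inv_cancel, one_mul, Prod.mk_one_one, map_one, Units.val_one,
        one_mulVec, krG_val, krG_val, Units.val_one, hs.ev_kron_one, kron_mulVec_ten, one_mulVec,
        ← mulVec_mulVec, ← mulVec_mulVec]
  obtain ⟨B₁, hB₁, g₁, hg₁, hg₁B⟩ := hconj 1
  obtain ⟨B₂, hB₂, g₂, hg₂, hg₂B⟩ := hconj (-1)
  refine ⟨u, hu0, -2 * f₁ (A *ᵥ u) u, mul_ne_zero (neg_ne_zero.mpr hs.two) hu, ?_⟩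
  have hcomb := hs.isCent_mul hc (hs.isCent_mul hc (hs.isCent_mul hc hg₁B hg₂B) (hs.isCent_inv hc hg))
    (hs.isCent_inv hc hg)
  have heq : g₁ * g₂ * g⁻¹ * g⁻¹ = ctv Φ (ten u c) (-2 * f₁ (A *ᵥ u) u) := gl_ext fun v => by
    rw [hcomb, ctv_mulVec hs.bf hs.nf (hs.form_alt _), hs.form_ten_right, add_mulVec, add_mulVec, add_mulVec,
      neg_mulVec, hB₁, hB₂, ← ten_smul_left]
    congr 2
    module
  rw [← heq]
  exact M.mul_mem (M.mul_mem (M.mul_mem hg₁ hg₂) (M.inv_mem hgM)) (M.inv_mem hgM)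

/-- The main step at an isotropic slice. -/
theorem cent_of_slice (ha : 0 < a) (hb : 3 ≤ b) (hLM : tensSO f₁ f₂ ≤ M) (hM : M ≤ isom Φ)
    {c : Fin b → F} (hc0 : c ≠ 0) (hc : f₂ c c = 0) {y : GL (Idx a b) F} (hyM : y ∈ M)
    (hyL : y ∉ tensSO f₁ f₂) (hy : ∀ x, (y : Matrix (Idx a b) (Idx a b) F) *ᵥ ten x c = ten x c) :
    ∃ g ∈ M, ∃ A : Matrix (Fin a) (Fin a) F, A ≠ 0 ∧ IsCent f₂ c g A := by
  classical
  by_contra hcon
  push Not at hcon
  obtain ⟨d, hd, hdc⟩ := hs.exists_partner hc0 hc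
  have hcd : f₂ c d = 1 := by rw [hs.symm2, hdc]
  -- general facts about elements fixing the slice
  have hev : ∀ g ∈ M, (∀ x, (g : Matrix (Idx a b) (Idx a b) F) *ᵥ ten x c = ten x c) →
      ∀ v, ev f₂ c ((g : Matrix (Idx a b) (Idx a b) F) *ᵥ v) = ev f₂ c v := by
    intro g hg hgc v
    refine hs.eq_of_forall1 fun x => ?_
    rw [← hs.form_ten_right, ← hs.form_ten_right]
    conv_lhs => arg 4; rw [← hgc x]
    exact hM hg v _
  have hinvc : ∀ g : GL (Idx a b) F, (∀ x, (g : Matrix (Idx a b) (Idx a b) F) *ᵥ ten x c = ten x c) →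
      ∀ x, ((g⁻¹ : GL (Idx a b) F) : Matrix (Idx a b) (Idx a b) F) *ᵥ ten x c = ten x c := fun g hg x => by
    conv_lhs => rw [← hg x, gl_inv_mulVec]
  have hGmul : ∀ g h, InG f₂ M c g → InG f₂ M c h → InG f₂ M c (g * h) := by
    rintro g h ⟨hg, hgc, hgK⟩ ⟨hh, hhc, hhK⟩
    refine ⟨M.mul_mem hg hh, fun x => by rw [gl_mul_mulVec, hhc, hgc], fun v hv => ?_⟩
    obtain ⟨t, ht⟩ := hhK v hv
    obtain ⟨t', ht'⟩ := hgK v hv
    refine ⟨t' + t, ?_⟩
    rw [gl_mul_mulVec, sub_eq_iff_eq_add.mp ht, mulVec_add, hgc, sub_eq_iff_eq_add.mp ht', ten_add_left]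
    abel
  have hGinv : ∀ g, InG f₂ M c g → InG f₂ M c g⁻¹ := by
    rintro g ⟨hg, hgc, hgK⟩
    refine ⟨M.inv_mem hg, hinvc g hgc, fun v hv => ?_⟩
    obtain ⟨t, ht⟩ := hgK v hv
    refine ⟨-t, ?_⟩
    rw [sub_eq_iff_eq_add]
    refine gl_mulVec_inj g ?_
    rw [gl_mulVec_inv, mulVec_add, hgc, sub_eq_iff_eq_add.mp ht, ten_neg_left]
    abel
  have hGconj : ∀ g h, InG f₂ M c g → h ∈ M →
      (∀ x, ∃ x', (h : Matrix (Idx a b) (Idx a b) F) *ᵥ ten x c = ten x' c ∧
        ((h⁻¹ : GL (Idx a b) F) : Matrix (Idx a b) (Idx a b) F) *ᵥ ten x' c = ten x c) →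
      (∀ x', ∃ x, (h : Matrix (Idx a b) (Idx a b) F) *ᵥ ten x c = ten x' c) →
      InG f₂ M c (h * g * h⁻¹) := by
    rintro g h ⟨hg, hgc, hgK⟩ hh hhc hsurj
    refine ⟨M.mul_mem (M.mul_mem hh hg) (M.inv_mem hh), fun x' => ?_, fun v hv => ?_⟩
    · obtain ⟨x, hx⟩ := hsurj x'
      rw [gl_mul_mulVec, gl_mul_mulVec, ← hx, gl_inv_mulVec, hgc]
    · obtain ⟨t, ht⟩ := hgK (((h⁻¹ : GL (Idx a b) F) : Matrix (Idx a b) (Idx a b) F) *ᵥ v) (by
        refine hs.eq_of_forall1 fun x => ?_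
        rw [← hs.form_ten_right, bl_zero_left hs.b1]
        obtain ⟨x', hx', -⟩ := hhc x
        rw [← hM hh, gl_mulVec_inv, hx', hs.form_ten_right, hv, bl_zero_left hs.b1])
      obtain ⟨t', ht', -⟩ := hhc t
      refine ⟨t', ?_⟩
      rw [gl_mul_mulVec, gl_mul_mulVec, sub_eq_iff_eq_add.mp ht, mulVec_add, ht', gl_mulVec_inv]
      abel
  -- the map `φ`
  let φ : GL (Idx a b) F → (Fin a → F) → (Idx a b → F) :=
    fun g x => (g : Matrix (Idx a b) (Idx a b) F) *ᵥ ten x d - ten x d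
  have hφK : ∀ g, InG f₂ M c g → ∀ x, ev f₂ c (φ g x) = 0 := fun g hg x => by
    show ev f₂ c (_ - _) = 0
    rw [hs.ev_sub, hev g hg.1 hg.2.1, sub_self]
  have hKc : ∀ v, ev f₂ c v = 0 → ∀ t, Φ v (ten t c) = 0 := fun v hv t => by
    rw [hs.form_ten_right, hv, bl_zero_left hs.b1]
  have hφmul : ∀ g h, InG f₂ M c g → InG f₂ M c h → ∀ x, ∃ t, φ (g * h) x = φ g x + φ h x + ten t c := by
    intro g h hg hh x
    obtain ⟨t, ht⟩ := hg.2.2 (φ h x) (hφK h hh x)
    refine ⟨t, ?_⟩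
    rw [← ht]
    simp only [φ, gl_mul_mulVec, mulVec_sub]
    abel
  -- commutators are central, hence trivial
  have hstar : ∀ g h, InG f₂ M c g → InG f₂ M c h → ∀ x z, Φ (φ g x) (φ h z) = Φ (φ h x) (φ g z) := by
    intro g h hg hh x z
    have hδ : ∀ g, InG f₂ M c g → ∀ v, ev f₂ c v = 0 →
        ∀ z, f₁ (ev f₂ d ((g : Matrix (Idx a b) (Idx a b) F) *ᵥ v - v)) z = - Φ v (φ g z) := by
      intro g hg v hv z
      obtain ⟨t, ht⟩ := hg.2.2 v hv
      rw [ht, hs.ev_ten, hcd, one_smul]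
      have h1 := hM hg.1 v (ten z d)
      rw [sub_eq_iff_eq_add.mp ht, show (g : Matrix (Idx a b) (Idx a b) F) *ᵥ ten z d = ten z d + φ g z by
        show _ = _ + (_ - _); abel, hs.bf.add_left, hs.bf.add_right, hs.bf.add_right, hs.form_ten_ten, hcd,
        hs.form_skew (ten t c) (φ g z), hKc _ (hφK g hg z)] at h1
      linear_combination h1
    let A : (Fin a → F) →ₗ[F] (Fin a → F) :=
      { toFun := fun x => ev f₂ d (((g : Matrix (Idx a b) (Idx a b) F) *ᵥ φ h x - φ h x) -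
          ((h : Matrix (Idx a b) (Idx a b) F) *ᵥ φ g x - φ g x))
        map_add' := fun x x' => by
          rw [← hs.ev_add]
          congr 1
          simp only [φ, ten_add_left, mulVec_add, mulVec_sub]
          abel
        map_smul' := fun k x => by
          rw [RingHom.id_apply, ← hs.ev_smul]
          congr 1
          simp only [φ, ten_smul_left, mulVec_smul, mulVec_sub, smul_sub] }
    set w := g * h * (h * g)⁻¹ with hw
    have hwM : w ∈ M := M.mul_mem (M.mul_mem hg.1 hh.1) (M.inv_mem (M.mul_mem hh.1 hg.1))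
    have hval : ∀ v, ((g * h : GL (Idx a b) F) : Matrix (Idx a b) (Idx a b) F) *ᵥ v
        = ((h * g : GL (Idx a b) F) : Matrix (Idx a b) (Idx a b) F) *ᵥ v + ten (A (ev f₂ c v)) c := by
      intro v
      have hdec : ev f₂ c (v - ten (ev f₂ c v) d) = 0 := by
        rw [hs.ev_sub, hs.ev_ten, hdc, one_smul, sub_self]
      obtain ⟨t₁, ht₁⟩ := hh.2.2 _ hdec
      obtain ⟨t₂, ht₂⟩ := hg.2.2 _ hdec
      set e := ev f₂ c v
      obtain ⟨t₃, ht₃⟩ := hg.2.2 (φ h e) (hφK h hh e)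
      obtain ⟨t₄, ht₄⟩ := hh.2.2 (φ g e) (hφK g hg e)
      have hA : A e = t₃ - t₄ := by
        show ev f₂ d (_ - _) = _
        rw [ht₃, ht₄, hs.ev_sub, hs.ev_ten, hs.ev_ten, hcd, one_smul, one_smul]
      have h1 : ∀ g : GL (Idx a b) F, (g : Matrix (Idx a b) (Idx a b) F) *ᵥ ten e d = ten e d + φ g e :=
        fun g => by show _ = _ + (_ - _); abel
      conv_lhs => rw [show v = (v - ten e d) + ten e d by abel]
      conv_rhs => arg 1; rw [show v = (v - ten e d) + ten e d by abel]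
      simp only [gl_mul_mulVec, mulVec_add, h1 g, h1 h, sub_eq_iff_eq_add.mp ht₁, sub_eq_iff_eq_add.mp ht₂,
        sub_eq_iff_eq_add.mp ht₃, sub_eq_iff_eq_add.mp ht₄, hh.2.1, hg.2.1, hA, ten_sub_left]
      abel
    have hcent : IsCent f₂ c w (LinearMap.toMatrix' A) := by
      intro v
      obtain ⟨v', rfl⟩ : ∃ v', ((h * g : GL (Idx a b) F) : Matrix (Idx a b) (Idx a b) F) *ᵥ v' = v :=
        ⟨_, gl_mulVec_inv (h * g) v⟩
      rw [hw, gl_mul_mulVec, gl_inv_mulVec, hval, LinearMap.toMatrix'_mulVec,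
        hev _ (M.mul_mem hh.1 hg.1) (fun x => by rw [gl_mul_mulVec, hg.2.1, hh.2.1])]
    have hA0 : LinearMap.toMatrix' A = 0 := by
      by_contra h0
      exact hcon w hwM _ h0 hcent
    have hAx : A x = 0 := by
      have := congrArg (fun B : Matrix (Fin a) (Fin a) F => B *ᵥ x) hA0
      simpa [LinearMap.toMatrix'_mulVec] using this
    have h2 := congrArg (fun e => f₁ e z) hAx
    simp only [A, LinearMap.coe_mk, AddHom.coe_mk, hs.ev_sub (w := d) (v := _ - φ h x), bl_sub_left hs.b1,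
      bl_zero_left hs.b1, hδ g hg _ (hφK h hh x), hδ h hh _ (hφK g hg x)] at h2
    linear_combination h2
  -- Eichler elements
  have hEich : ∀ w, f₂ w c = 0 → f₂ w d = 0 → ∃ E ∈ isom f₂, InG f₂ M c (krG (1, E)) ∧
      ∀ x, ∃ t, φ (krG (1, E)) x = ten x w + ten t c := by
    intro w hwc hwd
    obtain ⟨E, hE, hEv⟩ := hs.exists_eich hc hwc
    have hK := hs.krG_mem (Subgroup.one_mem (isom f₁)) hE
    refine ⟨E, hE, ⟨hLM hK, fun x => ?_, fun v hv => ⟨- ev f₂ w v, ?_⟩⟩, fun x => ?_⟩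
    · rw [krG_val, Units.val_one, kron_mulVec_ten, one_mulVec, hEv, hc, hs.symm2 c w, hwc]
      simp
    · refine vec_ext fun i => ?_
      rw [row_sub, TensorUnitary.row_ten, krG_val, Units.val_one, one_kron_mulVec, hEv]
      have h0 : f₂ (TensorUnitary.row v i) c = 0 := congrFun hv i
      rw [h0, mul_zero, add_zero, zero_smul, add_zero, sub_sub_cancel_left, ← neg_smul]
      rfl
    · refine ⟨(-(f₂ w w / 2)) • x, ?_⟩
      show _ - _ = _
      rw [krG_val, Units.val_one, kron_mulVec_ten, one_mulVec, hEv, hdc, hs.symm2 d w, hwd, one_smul,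
        zero_add, mul_one, ten_sub_right, ten_add_right, ten_smul_right, ten_smul_left]
      module
  -- every component of a member is a scalar
  have hcomp : ∀ g, InG f₂ M c g → ∀ e, f₂ e c = 0 → f₂ e d = 0 →
      ∃ k : F, ∀ x, ev f₂ e (φ g x) = k • x := by
    suffices haniso : ∀ g, InG f₂ M c g → ∀ e, f₂ e e ≠ 0 → f₂ e c = 0 → f₂ e d = 0 →
        ∃ k : F, ∀ x, ev f₂ e (φ g x) = k • x by
      intro g hg e hec hed
      by_cases he : f₂ e e = 0
      swap
      · exact haniso g hg e he hec hed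
      obtain ⟨e₀, he₀, he₀c, he₀d⟩ := hs.exists_aniso_pair hb hc hd hdc
      obtain ⟨s, hs0, hse⟩ : ∃ s : F, s ≠ 0 ∧ f₂ (e + s • e₀) (e + s • e₀) ≠ 0 := by
        by_contra hno
        push Not at hno
        have h1 := hno 1 one_ne_zero
        have h2 := hno (-1) (neg_ne_zero.mpr one_ne_zero)
        simp only [hs.b2.add_left, hs.b2.add_right, hs.b2.smul_left, hs.b2.smul_right, he,
          hs.symm2 e₀ e] at h1 h2
        exact he₀ ((mul_eq_zero.mp (show (2 : F) * f₂ e₀ e₀ = 0 by linear_combination h1 + h2)).resolve_left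
          hs.two)
      obtain ⟨k₁, hk₁⟩ := haniso g hg (e + s • e₀) hse
        (by rw [hs.b2.add_left, hs.b2.smul_left, hec, he₀c, mul_zero, add_zero])
        (by rw [hs.b2.add_left, hs.b2.smul_left, hed, he₀d, mul_zero, add_zero])
      obtain ⟨k₂, hk₂⟩ := haniso g hg e₀ he₀ he₀c he₀d
      refine ⟨k₁ - s * k₂, fun x => ?_⟩
      have h1 := hk₁ x
      rw [hs.ev_add_right, hs.ev_smul_right, hk₂] at h1
      rw [sub_smul, ← h1, mul_smul, add_sub_cancel_right]
    intro g hg e he hec hed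
    have hρ := hs.rfl2_mem he
    have hρc : (rfl' f₂ e : Matrix (Fin b) (Fin b) F) *ᵥ c = c := hs.rfl2_fix he (by rw [hs.symm2, hec])
    have hρd : (rfl' f₂ e : Matrix (Fin b) (Fin b) F) *ᵥ d = d := hs.rfl2_fix he (by rw [hs.symm2, hed])
    have hρinv : (rfl' f₂ e)⁻¹ = rfl' f₂ e := inv_eq_of_mul_eq_one_right (hs.rfl2_sq he)
    set R := krG ((1 : GL (Fin a) F), rfl' f₂ e) with hR
    have hRM : R ∈ M := hLM (hs.krG_mem (Subgroup.one_mem _) hρ)
    have hRinv : R⁻¹ = R := by rw [hR, ← map_inv, Prod.inv_mk, inv_one, hρinv]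
    have hRc : ∀ x, (R : Matrix (Idx a b) (Idx a b) F) *ᵥ ten x c = ten x c := fun x => by
      rw [hR, krG_val, Units.val_one, kron_mulVec_ten, one_mulVec, hρc]
    have hRd : ∀ x, (R : Matrix (Idx a b) (Idx a b) F) *ᵥ ten x d = ten x d := fun x => by
      rw [hR, krG_val, Units.val_one, kron_mulVec_ten, one_mulVec, hρd]
    have hRval : ∀ v, (R : Matrix (Idx a b) (Idx a b) F) *ᵥ v
        = v - ten ((2 / f₂ e e) • ev f₂ e v) e := fun v => by
      refine vec_ext fun i => ?_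
      rw [hR, krG_val, Units.val_one, one_kron_mulVec, hs.rfl2_mulVec he, row_sub, TensorUnitary.row_ten,
        Pi.smul_apply, smul_eq_mul]
      rfl
    have hg' : InG f₂ M c (R * g * R⁻¹) := hGconj g R hg hRM
      (fun x => ⟨x, hRc x, by rw [hRinv]; exact hRc x⟩) (fun x => ⟨x, hRc x⟩)
    have hm : InG f₂ M c (g * (R * g * R⁻¹)⁻¹) := hGmul _ _ hg (hGinv _ hg')
    set m := g * (R * g * R⁻¹)⁻¹ with hmdef
    let C : (Fin a → F) →ₗ[F] (Fin a → F) :=
      { toFun := fun x => (2 / f₂ e e) • ev f₂ e (φ g x)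
        map_add' := fun x x' => by
          simp only [φ, ten_add_left, mulVec_add, hs.ev_sub, hs.ev_add]
          module
        map_smul' := fun k x => by
          simp only [φ, ten_smul_left, mulVec_smul, hs.ev_sub, hs.ev_smul, RingHom.id_apply]
          module }
    have hφm : ∀ x, ∃ t, φ m x = ten (C x) e + ten t c := by
      intro x
      obtain ⟨t, ht⟩ := hφmul m _ hm hg' x
      refine ⟨-t, ?_⟩
      rw [hmdef, inv_mul_cancel_right, ← hmdef] at ht
      have h1 : φ (R * g * R⁻¹) x = φ g x - ten (C x) e := by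
        show _ - ten x d = _
        rw [hRinv, gl_mul_mulVec, gl_mul_mulVec, hRd, show (g : Matrix (Idx a b) (Idx a b) F) *ᵥ ten x d
          = ten x d + φ g x by show _ = _ + (_ - _); abel, mulVec_add, hRd, hRval (φ g x)]
        show _ = φ g x - ten ((2 / f₂ e e) • ev f₂ e (φ g x)) e
        abel
      rw [h1] at ht
      rw [ten_neg_left]
      linear_combination (norm := abel) -ht
    have hce : f₂ c e = 0 := by rw [hs.symm2, hec]
    have hC1 : ∀ x z, f₁ (C x) z = f₁ x (C z) := by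
      intro x z
      obtain ⟨E, -, hEG, hEφ⟩ := hEich e hec hed
      obtain ⟨t₁, h₁⟩ := hφm x
      obtain ⟨t₂, h₂⟩ := hφm z
      obtain ⟨s₁, e₁⟩ := hEφ x
      obtain ⟨s₂, e₂⟩ := hEφ z
      have h := hstar m _ hm hEG x z
      simp only [h₁, h₂, e₁, e₂, hs.bf.add_left, hs.bf.add_right, hs.form_ten_ten, hec, hce, hc,
        mul_zero, add_zero] at h
      exact mul_right_cancel₀ he h
    have hC2 : ∀ S ∈ isom f₁, ∀ x, C ((S : Matrix (Fin a) (Fin a) F) *ᵥ
        C (((S⁻¹ : GL (Fin a) F) : Matrix (Fin a) (Fin a) F) *ᵥ x))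
        = (S : Matrix (Fin a) (Fin a) F) *ᵥ C (((S⁻¹ : GL (Fin a) F) : Matrix (Fin a) (Fin a) F) *ᵥ C x) := by
      intro S hS x
      set K := krG (S, (1 : GL (Fin b) F)) with hK
      have hKM : K ∈ M := hLM (hs.krG_mem hS (Subgroup.one_mem _))
      have hKc : ∀ (w : Fin b → F) x, (K : Matrix (Idx a b) (Idx a b) F) *ᵥ ten x w
          = ten ((S : Matrix (Fin a) (Fin a) F) *ᵥ x) w := fun w x => by
        rw [hK, krG_val, Units.val_one, kron_mulVec_ten, one_mulVec]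
      have hKi : ∀ (w : Fin b → F) x, ((K⁻¹ : GL (Idx a b) F) : Matrix (Idx a b) (Idx a b) F) *ᵥ ten x w
          = ten (((S⁻¹ : GL (Fin a) F) : Matrix (Fin a) (Fin a) F) *ᵥ x) w := fun w x => by
        rw [hK, ← map_inv, Prod.inv_mk, inv_one, krG_val, Units.val_one, kron_mulVec_ten, one_mulVec]
      have hm' : InG f₂ M c (K * m * K⁻¹) := hGconj m K hm hKM
        (fun x => ⟨_, hKc c x, by rw [hKi, gl_inv_mulVec]⟩)
        (fun x' => ⟨((S⁻¹ : GL (Fin a) F) : Matrix (Fin a) (Fin a) F) *ᵥ x', by rw [hKc, gl_mulVec_inv]⟩)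
      set C' : (Fin a → F) → (Fin a → F) := fun x =>
        (S : Matrix (Fin a) (Fin a) F) *ᵥ C (((S⁻¹ : GL (Fin a) F) : Matrix (Fin a) (Fin a) F) *ᵥ x) with hC'
      have hφm' : ∀ x, ∃ t, φ (K * m * K⁻¹) x = ten (C' x) e + ten t c := by
        intro x
        obtain ⟨t, ht⟩ := hφm (((S⁻¹ : GL (Fin a) F) : Matrix (Fin a) (Fin a) F) *ᵥ x)
        refine ⟨(S : Matrix (Fin a) (Fin a) F) *ᵥ t, ?_⟩
        show _ - ten x d = _
        rw [gl_mul_mulVec, gl_mul_mulVec, hKi, show (m : Matrix (Idx a b) (Idx a b) F) *ᵥ _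
          = ten (((S⁻¹ : GL (Fin a) F) : Matrix (Fin a) (Fin a) F) *ᵥ x) d + φ m _ by
            show _ = _ + (_ - _); abel, ht, mulVec_add, mulVec_add, hKc, hKc, hKc, gl_mulVec_inv]
        abel
      have hC1' : ∀ p q, f₁ (C' p) q = f₁ p (C' q) := fun p q => by
        simp only [hC']
        conv_lhs => rw [← gl_mulVec_inv S q, hS, hC1]
        rw [← hS (((S⁻¹ : GL (Fin a) F) : Matrix (Fin a) (Fin a) F) *ᵥ p)
          (C (((S⁻¹ : GL (Fin a) F) : Matrix (Fin a) (Fin a) F) *ᵥ q)), gl_mulVec_inv]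
      refine hs.eq_of_forall1 fun z => ?_
      show f₁ (C (C' x)) z = f₁ (C' (C x)) z
      obtain ⟨t₁, h₁⟩ := hφm x
      obtain ⟨t₂, h₂⟩ := hφm' z
      obtain ⟨t₃, h₃⟩ := hφm' x
      obtain ⟨t₄, h₄⟩ := hφm z
      have h := hstar m _ hm hm' x z
      simp only [h₁, h₂, h₃, h₄, hs.bf.add_left, hs.bf.add_right, hs.form_ten_ten, hec, hce, hc,
        mul_zero, add_zero] at h
      rw [hC1, hC1' (C x) z]
      exact (mul_right_cancel₀ he h).symm
    have heig : ∀ u, ∃ s : F, C u = s • u := by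
      intro u
      rcases eq_or_ne u 0 with rfl | hu0
      · exact ⟨0, by rw [map_zero, smul_zero]⟩
      by_contra hno
      push Not at hno
      obtain ⟨x, hxu, hxC⟩ := hs.s1.exists_orth_not_orth fun s h => hno s h.symm
      have hCu : f₁ (C u) u = 0 := by
        have h1 := hC1 u u
        rw [hs.skew1 u (C u)] at h1
        exact (mul_eq_zero.mp (show (2 : F) * f₁ (C u) u = 0 by linear_combination h1)).resolve_left hs.two
      have hinv : ∀ y, (((ctv f₁ u 1)⁻¹ : GL (Fin a) F) : Matrix (Fin a) (Fin a) F) *ᵥ y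
          = y - f₁ y u • u := by
        intro y
        refine gl_mulVec_inj (ctv f₁ u 1) ?_
        rw [gl_mulVec_inv, hs.ctv1_mulVec, bl_sub_left hs.b1, hs.b1.smul_left, hs.alt1, mul_zero, sub_zero,
          one_mul, sub_add_cancel]
      have h := hC2 _ (hs.ctv1_mem u 1) x
      simp only [hinv, hxu, zero_smul, sub_zero, hs.ctv1_mulVec, map_add, map_sub, map_smul, one_mul,
        bl_sub_left hs.b1, hs.b1.smul_left, hCu, mul_zero, hC1 x u, hC1 (C x) u, hxC, one_smul] at h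
      rw [hC1 x (C u)] at h
      have h2 : (2 : F) • C u = f₁ x (C (C u)) • u := by linear_combination (norm := module) h
      refine hno (2⁻¹ * f₁ x (C (C u))) ?_
      rw [mul_smul, ← h2, smul_smul, inv_mul_cancel₀ hs.two, one_smul]
    obtain ⟨s, hsC⟩ := exists_scalar_of_eigen C heig
    refine ⟨f₂ e e / 2 * s, fun x => ?_⟩
    have h1 := hsC x
    have h2 : (f₂ e e / 2) • C x = ev f₂ e (φ g x) := by
      show (f₂ e e / 2) • ((2 / f₂ e e) • ev f₂ e (φ g x)) = _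
      rw [smul_smul, show f₂ e e / 2 * (2 / f₂ e e) = 1 by field_simp [hs.two], one_smul]
    rw [← h2, h1, mul_smul]
  -- shape of members
  have hshape : ∀ g, InG f₂ M c g → ∃ w, f₂ w c = 0 ∧ f₂ w d = 0 ∧ ∀ x, ∃ t, φ g x = ten x w + ten t c := by
    intro g hg
    let i₀ : Fin a := ⟨0, ha⟩
    set v₀ := φ g (Pi.single i₀ 1) with hv₀
    set w := TensorUnitary.row v₀ i₀ - f₂ (TensorUnitary.row v₀ i₀) d • c - f₂ (TensorUnitary.row v₀ i₀) c • d with hw
    obtain ⟨hwc, hwd⟩ := hs.zpart_orth hc hd hdc (TensorUnitary.row v₀ i₀)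
    rw [← hw] at hwc hwd
    refine ⟨w, hwc, hwd, fun x => ⟨ev f₂ d (φ g x), vec_ext fun i => ?_⟩⟩
    rw [row_add, TensorUnitary.row_ten, TensorUnitary.row_ten, ← sub_eq_zero]
    refine hs.eq_of_forall2 fun z => ?_
    obtain ⟨hz1, hz2⟩ := hs.zpart_orth hc hd hdc z
    set z' := z - f₂ z d • c - f₂ z c • d with hz'
    obtain ⟨k, hk⟩ := hcomp g hg z' hz1 hz2
    rw [bl_zero_left hs.b2, show z = z' + f₂ z d • c + f₂ z c • d by rw [hz']; abel]
    have e1 : f₂ (TensorUnitary.row (φ g x) i) c = 0 := congrFun (hφK g hg x) i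
    have e2 : f₂ (TensorUnitary.row (φ g x) i) z' = k * x i := congrFun (hk x) i
    have e0 : f₂ (TensorUnitary.row v₀ i₀) z' = k := by
      have := congrFun (hk (Pi.single i₀ 1)) i₀
      exact this.trans (by simp)
    have ez : f₂ c z' = 0 := by rw [hs.symm2]; exact hz1
    have ew : f₂ w z' = k := by
      rw [hw, bl_sub_left hs.b2, bl_sub_left hs.b2, hs.b2.smul_left, hs.b2.smul_left, e0, ez,
        hs.symm2 d z', hz2]
      ring
    have ed : f₂ (TensorUnitary.row (φ g x) i) d = ev f₂ d (φ g x) i := rfl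
    simp only [bl_sub_left hs.b2, hs.b2.add_left, hs.b2.add_right, hs.b2.smul_left, hs.b2.smul_right, hc, hd,
      hdc, hcd, ez, ew, e1, e2, hwc, hwd, ed]
    ring
  -- the action of `y` on the middle
  have hyev := hev y hyM hy
  have hmid : ∀ w, f₂ w c = 0 → f₂ w d = 0 → ∃ τ, f₂ τ c = 0 ∧ f₂ τ d = 0 ∧
      ∀ x, ∃ t, (y : Matrix (Idx a b) (Idx a b) F) *ᵥ ten x w = ten x τ + ten t c := by
    intro w hwc hwd
    obtain ⟨E, -, hEG, hEφ⟩ := hEich w hwc hwd
    have hm : InG f₂ M c (y * krG (1, E) * y⁻¹) := hGconj _ y hEG hyM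
      (fun x => ⟨x, hy x, hinvc y hy x⟩) (fun x => ⟨x, hy x⟩)
    obtain ⟨τ, hτc, hτd, hτ⟩ := hshape _ hm
    refine ⟨τ, hτc, hτd, fun x => ?_⟩
    set yi := ((y⁻¹ : GL (Idx a b) F) : Matrix (Idx a b) (Idx a b) F) with hyi
    set k' := yi *ᵥ ten x d - ten x d with hk'
    have hk'c : ev f₂ c k' = 0 := by
      rw [hk', hs.ev_sub, hev _ (M.inv_mem hyM) (hinvc y hy), sub_self]
    obtain ⟨t₁, ht₁⟩ := hEG.2.2 k' hk'c
    obtain ⟨t₂, ht₂⟩ := hEφ x
    obtain ⟨t₃, ht₃⟩ := hτ x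
    refine ⟨t₃ - t₁ - t₂, ?_⟩
    have h1 : φ (y * krG (1, E) * y⁻¹) x
        = (y : Matrix (Idx a b) (Idx a b) F) *ᵥ ten x w + ten (t₁ + t₂) c := by
      show _ - ten x d = _
      rw [gl_mul_mulVec, gl_mul_mulVec, ← hyi, show yi *ᵥ ten x d = ten x d + k' by rw [hk']; abel,
        mulVec_add, sub_eq_iff_eq_add.mp ht₁,
        show (krG ((1 : GL (Fin a) F), E) : Matrix (Idx a b) (Idx a b) F) *ᵥ ten x d
          = ten x d + φ (krG (1, E)) x by show _ = _ + (_ - _); abel, ht₂]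
      have h2 : (y : Matrix (Idx a b) (Idx a b) F) *ᵥ ten x d + (y : Matrix (Idx a b) (Idx a b) F) *ᵥ k'
          = ten x d := by rw [← mulVec_add, hk', add_sub_cancel, hyi, gl_mulVec_inv]
      simp only [mulVec_add, hy, ten_add_left]
      linear_combination (norm := abel) h2
    rw [h1] at ht₃
    rw [ten_sub_left, ten_sub_left]
    rw [ten_add_left] at ht₃
    linear_combination (norm := abel) ht₃
  choose! τ hτc hτd hτ using hmid
  let p : (Fin b → F) → (Fin b → F) := fun v => v - f₂ v d • c - f₂ v c • d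
  have hp : ∀ v, f₂ (p v) c = 0 ∧ f₂ (p v) d = 0 := hs.zpart_orth hc hd hdc
  let i₀ : Fin a := ⟨0, ha⟩
  -- `τ` is read off from the image of one slice
  let τL : (Fin b → F) → (Fin b → F) := fun v =>
    (TensorUnitary.row ((y : Matrix (Idx a b) (Idx a b) F) *ᵥ ten (Pi.single i₀ 1) (p v)) i₀) -
      f₂ (TensorUnitary.row ((y : Matrix (Idx a b) (Idx a b) F) *ᵥ ten (Pi.single i₀ 1) (p v)) i₀) d • c
  have hτL : ∀ v, τL v = τ (p v) := by
    intro v
    obtain ⟨t, ht⟩ := hτ _ (hp v).1 (hp v).2 (Pi.single i₀ 1)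
    show TensorUnitary.row _ i₀ - f₂ (TensorUnitary.row _ i₀) d • c = _
    rw [ht, row_add, TensorUnitary.row_ten, TensorUnitary.row_ten, Pi.single_eq_same, one_smul,
      hs.b2.add_left, hs.b2.smul_left, hτd _ (hp v).1 (hp v).2, hcd]
    module
  have hplin : ∀ v v', p (v + v') = p v + p v' := fun v v' => by
    simp only [p, hs.b2.add_left]; module
  have hpsmul : ∀ (k : F) v, p (k • v) = k • p v := fun k v => by
    simp only [p, hs.b2.smul_left]; module
  let L : (Fin b → F) →ₗ[F] (Fin b → F) :=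
    { toFun := fun v => f₂ v d • c + f₂ v c • d + τL v
      map_add' := fun v v' => by
        simp only [τL, hplin, ten_add_right, mulVec_add, row_add, hs.b2.add_left]; module
      map_smul' := fun k v => by
        simp only [τL, hpsmul, ten_smul_right, mulVec_smul, row_smul, hs.b2.smul_left, RingHom.id_apply]
        module }
  obtain ⟨T, hT, hTv⟩ := hs.exists_isom_of_linear L fun v v' => by
    show f₂ (_ + _ + τL v) (_ + _ + τL v') = _
    rw [hτL, hτL]
    obtain ⟨z, hz⟩ := (hs.n1 (Pi.single i₀ (1 : F)) (by simp)).2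
    obtain ⟨t₁, ht₁⟩ := hτ _ (hp v).1 (hp v).2 (Pi.single i₀ 1)
    obtain ⟨t₂, ht₂⟩ := hτ _ (hp v').1 (hp v').2 z
    have h := hM hyM (ten (Pi.single i₀ 1) (p v)) (ten z (p v'))
    have hcτ' : f₂ c (τ (p v')) = 0 := by rw [hs.symm2]; exact hτc _ (hp v').1 (hp v').2
    simp only [ht₁, ht₂, hs.bf.add_left, hs.bf.add_right, hs.form_ten_ten, hτc _ (hp v).1 (hp v).2, hcτ',
      hc, mul_zero, add_zero] at h
    have h' := mul_left_cancel₀ hz h
    have hcpv' : f₂ c (p v') = 0 := by rw [hs.symm2]; exact (hp v').1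
    have hdpv' : f₂ d (p v') = 0 := by rw [hs.symm2]; exact (hp v').2
    have hdτ' : f₂ d (τ (p v')) = 0 := by rw [hs.symm2]; exact hτd _ (hp v').1 (hp v').2
    simp only [hs.b2.add_left, hs.b2.add_right, hs.b2.smul_left, hs.b2.smul_right, hc, hd, hdc, hcd,
      hτc _ (hp v).1 (hp v).2, hτd _ (hp v).1 (hp v).2, hcτ', hdτ', h']
    conv_rhs => rw [show v = p v + f₂ v d • c + f₂ v c • d by simp only [p]; abel,
      show v' = p v' + f₂ v' d • c + f₂ v' c • d by simp only [p]; abel]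
    simp only [hs.b2.add_left, hs.b2.add_right, hs.b2.smul_left, hs.b2.smul_right, hc, hd, hdc, hcd,
      (hp v).1, (hp v).2, hcpv', hdpv']
    ring
  have hTc : (T : Matrix (Fin b) (Fin b) F) *ᵥ c = c := by
    rw [hTv]
    show _ + _ + τL c = c
    have h0 : p c = 0 := by simp only [p, hcd, hc]; simp
    simp only [τL, h0, ten_zero_right, mulVec_zero]
    simp [hcd, hc, show TensorUnitary.row (0 : Idx a b → F) i₀ = 0 from rfl, bl_zero_left hs.b2]
  have hTw : ∀ w, f₂ w c = 0 → f₂ w d = 0 → (T : Matrix (Fin b) (Fin b) F) *ᵥ w = τ w := by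
    intro w hwc hwd
    rw [hTv]
    show _ + _ + τL w = _
    have h0 : p w = w := by simp only [p, hwc, hwd]; simp
    rw [hτL, h0, hwd, hwc, zero_smul, zero_smul, zero_add, zero_add]
  set K := krG ((1 : GL (Fin a) F), T) with hK
  have hKM : K ∈ M := hLM (hs.krG_mem (Subgroup.one_mem _) hT)
  set y' := K⁻¹ * y with hy'
  have hKic : ∀ x, ((K⁻¹ : GL (Idx a b) F) : Matrix (Idx a b) (Idx a b) F) *ᵥ ten x c = ten x c := fun x => by
    refine gl_mulVec_inj K ?_
    rw [gl_mulVec_inv, hK, krG_val, Units.val_one, kron_mulVec_ten, one_mulVec, hTc]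
  have hy'G : InG f₂ M c y' := by
    refine ⟨M.mul_mem (M.inv_mem hKM) hyM, fun x => by rw [hy', gl_mul_mulVec, hy, hKic], ?_⟩
    let S : Submodule F (Idx a b → F) :=
      { carrier := {v | ∃ t, (y' : Matrix (Idx a b) (Idx a b) F) *ᵥ v - v = ten t c}
        add_mem' := fun {v w} ⟨t, ht⟩ ⟨t', ht'⟩ => ⟨t + t', by
          rw [mulVec_add, ten_add_left, ← ht, ← ht']; abel⟩
        zero_mem' := ⟨0, by rw [mulVec_zero, sub_zero, ten_zero_left]⟩
        smul_mem' := fun k v ⟨t, ht⟩ => ⟨k • t, by rw [mulVec_smul, ten_smul_left, ← ht, smul_sub]⟩ }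
    have hS : ∀ x w, f₂ w c = 0 → f₂ w d = 0 → ten x w ∈ S := by
      intro x w hwc hwd
      obtain ⟨t, ht⟩ := hτ w hwc hwd x
      refine ⟨t, ?_⟩
      have h1 : ((K⁻¹ : GL (Idx a b) F) : Matrix (Idx a b) (Idx a b) F) *ᵥ ten x (τ w) = ten x w := by
        refine gl_mulVec_inj K ?_
        rw [gl_mulVec_inv, hK, krG_val, Units.val_one, kron_mulVec_ten, one_mulVec, hTw w hwc hwd]
      rw [hy', gl_mul_mulVec, ht, mulVec_add, h1, hKic]
      abel
    intro v hv
    suffices h : v ∈ S from h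
    rw [← TensorUnitary.sum_ten_row v]
    refine S.sum_mem fun i _ => ?_
    have h1 : f₂ (TensorUnitary.row v i) c = 0 := congrFun hv i
    have h2 : TensorUnitary.row v i = p (TensorUnitary.row v i) + f₂ (TensorUnitary.row v i) d • c := by simp only [p, h1]; simp
    rw [h2, ten_add_right, ten_smul_right]
    exact S.add_mem (hS _ _ (hp _).1 (hp _).2) (S.smul_mem _ ⟨0, by
      rw [hy', gl_mul_mulVec, hy, hKic, sub_self, ten_zero_left]⟩)
  obtain ⟨w₀, hw₀c, hw₀d, hw₀⟩ := hshape y' hy'G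
  obtain ⟨E, hE, hEG, hEφ⟩ := hEich (-w₀) (by rw [bl_neg_left hs.b2, hw₀c, neg_zero])
    (by rw [bl_neg_left hs.b2, hw₀d, neg_zero])
  set y'' := y' * krG ((1 : GL (Fin a) F), E) with hy''
  have hy''G : InG f₂ M c y'' := hGmul _ _ hy'G hEG
  have hφ'' : ∀ x, ∃ t, φ y'' x = ten t c := by
    intro x
    obtain ⟨t, ht⟩ := hφmul y' _ hy'G hEG x
    obtain ⟨t₁, ht₁⟩ := hw₀ x
    obtain ⟨t₂, ht₂⟩ := hEφ x
    refine ⟨t₁ + t₂ + t, ?_⟩
    rw [ht, ht₁, ht₂, ten_add_left, ten_add_left, ← neg_one_smul F w₀, ten_smul_right]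
    module
  have hKfix : ∀ v, ev f₂ c v = 0 → (y'' : Matrix (Idx a b) (Idx a b) F) *ᵥ v = v := by
    intro v hv
    obtain ⟨t, ht⟩ := hy''G.2.2 v hv
    suffices h : t = 0 by rw [h, ten_zero_left, sub_eq_zero] at ht; exact ht
    refine hs.eq_of_forall1 fun z => ?_
    rw [bl_zero_left hs.b1]
    obtain ⟨t', ht'⟩ := hφ'' z
    have h1 := hM hy''G.1 v (ten z d)
    rw [sub_eq_iff_eq_add.mp ht, show (y'' : Matrix (Idx a b) (Idx a b) F) *ᵥ ten z d = ten z d + φ y'' z by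
      show _ = _ + (_ - _); abel, ht', hs.bf.add_left, hs.bf.add_right, hs.bf.add_right, hs.form_ten_ten,
      hs.form_ten_ten, hKc v hv, hcd, hc, mul_one, mul_zero] at h1
    linear_combination h1
  let A : (Fin a → F) →ₗ[F] (Fin a → F) :=
    { toFun := fun x => ev f₂ d (φ y'' x)
      map_add' := fun x x' => by simp only [φ, ten_add_left, mulVec_add, hs.ev_sub, hs.ev_add]; abel
      map_smul' := fun k x => by
        simp only [φ, ten_smul_left, mulVec_smul, hs.ev_sub, hs.ev_smul, RingHom.id_apply, smul_sub] }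
  have hcent : IsCent f₂ c y'' (LinearMap.toMatrix' A) := by
    intro v
    rw [LinearMap.toMatrix'_mulVec]
    set e := ev f₂ c v
    obtain ⟨t, ht⟩ := hφ'' e
    have hA : A e = t := by
      show ev f₂ d (φ y'' e) = t
      rw [ht, hs.ev_ten, hcd, one_smul]
    conv_lhs => rw [show v = (v - ten e d) + ten e d by abel]
    rw [mulVec_add, hKfix _ (by rw [hs.ev_sub, hs.ev_ten, hdc, one_smul, sub_self]), hA,
      show (y'' : Matrix (Idx a b) (Idx a b) F) *ᵥ ten e d = ten e d + φ y'' e by show _ = _ + (_ - _); abel,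
      ht]
    abel
  have hne : LinearMap.toMatrix' A ≠ 0 := by
    intro h0
    have h1 : y'' = 1 := gl_ext fun v => by
      rw [hcent, h0, zero_mulVec, ten_zero_left, add_zero, Units.val_one, one_mulVec]
    rw [hy'', hy'] at h1
    refine hyL ?_
    have h2 : y = K * (krG ((1 : GL (Fin a) F), E))⁻¹ := by
      rw [← eq_inv_of_mul_eq_one_left h1, mul_inv_cancel_left]
    rw [h2]
    exact (tensSO f₁ f₂).mul_mem (hs.krG_mem (Subgroup.one_mem _) hT)
      ((tensSO f₁ f₂).inv_mem (hs.krG_mem (Subgroup.one_mem _) hE))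
  exact hcon y'' hy''G.1 _ hne hcent

/-- All vectors are centres. -/
theorem cen_of_slice [Fintype F] (ha : 0 < a) (hb : 3 ≤ b) (hLM : tensSO f₁ f₂ ≤ M) (hM : M ≤ isom Φ)
    {c : Fin b → F} (hc0 : c ≠ 0) (hc : f₂ c c = 0) {y : GL (Idx a b) F} (hyM : y ∈ M)
    (hyL : y ∉ tensSO f₁ f₂) (hy : ∀ x, (y : Matrix (Idx a b) (Idx a b) F) *ᵥ ten x c = ten x c)
    (v : Idx a b → F) : IsCen Φ M v := by
  obtain ⟨g, hg, A, hA, hgA⟩ := hs.cent_of_slice ha hb hLM hM hc0 hc hyM hyL hy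
  obtain ⟨u, hu, k₀, hk₀, h⟩ := hs.ctv_of_cent hLM hM hc0 hc hg hgA hA
  exact hs.cen_all_of_one hb hLM hu hc0 hc hk₀ h v

end Setting

end CfsgLib.TensorSympOrth
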