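import Cfsg.Agent.TensorSympOrth.Recognise

/-!
# Elements intertwining two involutions
-/

set_option autoImplicit false
set_option linter.unusedSectionVars false

namespace CfsgLib.TensorSympOrth

open Matrix Cfsg.Geo CfsgLib.MaxSub CfsgLib.TensorMax
open CfsgLib.TensorUnitary (form ev isom pMat rowsIn)
open scoped Kronecker

variable {F : Type*} [Field F] {a b : ℕ}

/-- Either one more anisotropic slice is fixed by an outside element, or all vectors are centres. -/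
def Grow (f₁ : (Fin a → F) → (Fin a → F) → F) (f₂ : (Fin b → F) → (Fin b → F) → F)
    (M : Subgroup (GL (Idx a b) F)) {n : ℕ} (p : Fin n → Fin b → F) : Prop :=
  (∃ h, f₂ h h ≠ 0 ∧ (∀ i, f₂ h (p i) = 0) ∧
    ∃ y ∈ M, y ∉ tensSO f₁ f₂ ∧ y ∈ fixF (Fin.snoc p h : Fin (n + 1) → Fin b → F)) ∨
  ∀ v, IsCen (form f₁ f₂) M v

namespace Setting

variable {f₁ : (Fin a → F) → (Fin a → F) → F} {f₂ : (Fin b → F) → (Fin b → F) → F}
  (hs : Setting f₁ f₂) {M : Subgroup (GL (Idx a b) F)} [Fintype F]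
include hs

local notation "Φ" => form f₁ f₂
local notation "𝕃" => tensSO f₁ f₂

omit [Fintype F] in
theorem grow_of {n : ℕ} {p : Fin n → Fin b → F} {y : GL (Idx a b) F} (hyM : y ∈ M) (hyL : y ∉ 𝕃)
    (hy : y ∈ fixF p) {h : Fin b → F} (hh : f₂ h h ≠ 0) (hperp : ∀ i, f₂ h (p i) = 0)
    (hfix : ∀ x, (y : Matrix (Idx a b) (Idx a b) F) *ᵥ ten x h = ten x h) : Grow f₁ f₂ M p :=
  Or.inl ⟨h, hh, hperp, y, hyM, hyL, fixF_snoc hy hfix⟩

omit [Fintype F] in
theorem tens_perp_fix {n : ℕ} {p : Fin n → Fin b → F} (hM : M ≤ isom Φ) {y : GL (Idx a b) F} (hyM : y ∈ M)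
    (hy : y ∈ fixF p) {w : Fin b → F} (hw : ∀ i, f₂ w (p i) = 0) (x : Fin a → F) (r : Fin a) (i : Fin n) :
    f₂ (TensorUnitary.row ((y : Matrix (Idx a b) (Idx a b) F) *ᵥ ten x w) r) (p i) = 0 := by
  have h1 : ev f₂ (p i) ((y : Matrix (Idx a b) (Idx a b) F) *ᵥ ten x w) = 0 := hs.eq_of_forall1 fun z => by
    rw [← hs.form_ten_right, ← hy i z, hM hyM, hs.form_ten_ten, hw, mul_zero, bl_zero_left hs.b1]
  exact congrFun h1 r

omit [Fintype F] in
theorem slice_perp {n : ℕ} {p : Fin n → Fin b → F} (hM : M ≤ isom Φ) (ha : 0 < a) {y : GL (Idx a b) F}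
    (hyM : y ∈ M) (hy : y ∈ fixF p) {k φ : Fin b → F} (hk : ∀ i, f₂ k (p i) = 0)
    {A : (Fin a → F) →ₗ[F] (Fin a → F)} (hA : Function.Injective A)
    (h : ∀ x, (y : Matrix (Idx a b) (Idx a b) F) *ᵥ ten x k = ten (A x) φ) (i : Fin n) : f₂ φ (p i) = 0 := by
  obtain ⟨r, hr⟩ : ∃ r, A (Pi.single ⟨0, ha⟩ 1) r ≠ 0 := Function.ne_iff.mp fun h0 => by
    have := hA (h0.trans (map_zero A).symm)
    simp at this
  have h1 := hs.tens_perp_fix hM hyM hy hk (Pi.single ⟨0, ha⟩ 1) r i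
  rw [h, TensorUnitary.row_ten, hs.b2.smul_left] at h1
  exact (mul_eq_zero.mp h1).resolve_left hr

/-- Orthogonality of images of slices. -/
theorem slice_orth (hM : M ≤ isom Φ) (ha : 0 < a) {y : GL (Idx a b) F} (hyM : y ∈ M)
    {k φ k' φ' : Fin b → F} {A A' : (Fin a → F) →ₗ[F] (Fin a → F)} (hA : Function.Injective A)
    (hA' : Function.Injective A')
    (h : ∀ x, (y : Matrix (Idx a b) (Idx a b) F) *ᵥ ten x k = ten (A x) φ)
    (h' : ∀ x, (y : Matrix (Idx a b) (Idx a b) F) *ᵥ ten x k' = ten (A' x) φ') (hkk : f₂ k k' = 0) :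
    f₂ φ φ' = 0 := by
  have hne : A (Pi.single ⟨0, ha⟩ 1) ≠ 0 := fun h0 => by
    have := hA (h0.trans (map_zero A).symm)
    simp at this
  obtain ⟨z, hz⟩ := (hs.n1 _ hne).2
  obtain ⟨x', rfl⟩ := LinearMap.surjective_of_injective hA' z
  have h2 := hM hyM (ten (Pi.single ⟨0, ha⟩ 1) k) (ten x' k')
  rw [h, h', hs.form_ten_ten, hs.form_ten_ten, hkk, mul_zero] at h2
  exact (mul_eq_zero.mp h2).resolve_left hz

/-- Two orthogonal slices have proportional maps. -/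
theorem pair_test {n : ℕ} {p : Fin n → Fin b → F} (hLM : 𝕃 ≤ M) (hM : M ≤ isom Φ) (ha : 0 < a)
    (hG : ¬ Grow f₁ f₂ M p) {y : GL (Idx a b) F} (hyM : y ∈ M) (hy : y ∈ fixF p)
    {k₁ k₂ k₃ φ₁ φ₂ φ₃ : Fin b → F} {A₁ A₂ A₃ : (Fin a → F) →ₗ[F] (Fin a → F)}
    (hA₁ : Function.Injective A₁) (hA₂ : Function.Injective A₂) (hA₃ : Function.Injective A₃)
    (hs₁ : ∀ x, (y : Matrix (Idx a b) (Idx a b) F) *ᵥ ten x k₁ = ten (A₁ x) φ₁)
    (hs₂ : ∀ x, (y : Matrix (Idx a b) (Idx a b) F) *ᵥ ten x k₂ = ten (A₂ x) φ₂)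
    (hs₃ : ∀ x, (y : Matrix (Idx a b) (Idx a b) F) *ᵥ ten x k₃ = ten (A₃ x) φ₃)
    (hφ₁ : f₂ φ₁ φ₁ ≠ 0) (hφ₂ : f₂ φ₂ φ₂ ≠ 0) (hφ₃ : f₂ φ₃ φ₃ ≠ 0)
    (hp₁ : ∀ i, f₂ k₁ (p i) = 0) (hp₂ : ∀ i, f₂ k₂ (p i) = 0) (hp₃ : ∀ i, f₂ k₃ (p i) = 0)
    (h12 : f₂ k₁ k₂ = 0) (h13 : f₂ k₁ k₃ = 0) (h23 : f₂ k₂ k₃ = 0)
    (hsum : f₂ k₁ k₁ + f₂ k₂ k₂ ≠ 0) : ∃ r : F, r ≠ 0 ∧ ∀ x, A₂ x = r • A₁ x := by
  have hk : f₂ (k₁ + k₂) (k₁ + k₂) ≠ 0 := by
    rwa [hs.b2.add_left, hs.b2.add_right, hs.b2.add_right, hs.symm2 k₂ k₁, h12, zero_add, add_zero]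
  set m := y * krG ((1 : GL (Fin a) F), rfl' f₂ (k₁ + k₂)) * y⁻¹ with hm
  have hRfix : ∀ w, f₂ w k₁ = 0 → f₂ w k₂ = 0 → ∀ x,
      (krG ((1 : GL (Fin a) F), rfl' f₂ (k₁ + k₂)) : Matrix (Idx a b) (Idx a b) F) *ᵥ ten x w = ten x w :=
    fun w e1 e2 x => by
      rw [krG_val, Units.val_one, kron_mulVec_ten, one_mulVec,
        hs.rfl2_fix hk (by rw [hs.b2.add_right, e1, e2, add_zero])]
  have hyi : ∀ i x, ((y⁻¹ : GL (Idx a b) F) : Matrix (Idx a b) (Idx a b) F) *ᵥ ten x (p i) = ten x (p i) :=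
    fun i x => (fixF p).inv_mem hy i x
  have hmfix : m ∈ fixF p := by
    intro i x
    rw [hm, gl_mul_mulVec, gl_mul_mulVec, hyi,
      hRfix _ (by rw [hs.symm2, hp₁]) (by rw [hs.symm2, hp₂]), hy i x]
  have hm3 : ∀ x, (m : Matrix (Idx a b) (Idx a b) F) *ᵥ ten x φ₃ = ten x φ₃ := by
    intro x
    obtain ⟨x', rfl⟩ := LinearMap.surjective_of_injective hA₃ x
    rw [hm, gl_mul_mulVec, gl_mul_mulVec, ← hs₃, gl_inv_mulVec, hRfix k₃ (by rw [hs.symm2, h13])
      (by rw [hs.symm2, h23])]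
  have hmM : m ∈ M :=
    M.mul_mem (M.mul_mem hyM (hLM (hs.krG_mem (Subgroup.one_mem _) (hs.rfl2_mem hk)))) (M.inv_mem hyM)
  have hmL : m ∈ 𝕃 := by
    by_contra hmL
    exact hG (hs.grow_of hmM hmL hmfix hφ₃ (hs.slice_perp hM ha hyM hy hp₃ hA₃ hs₃) hm3)
  obtain ⟨φ', -, A', -, hA'⟩ :=
    hs.slice_of_conj ha hM hyM hk hmL (fun h0 => hφ₃ (by rw [h0, bl_zero_left hs.b2])) hm3
  have h12' := hs.slice_orth hM ha hyM hA₁ hA₂ hs₁ hs₂ h12
  have hsum' : ∀ x, ten (A₁ x) φ₁ + ten (A₂ x) φ₂ = ten (A' x) φ' := fun x => by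
    rw [← hs₁, ← hs₂, ← hA', ten_add_right, mulVec_add]
  have e1 : ∀ x, f₂ φ₁ φ₁ • A₁ x = f₂ φ' φ₁ • A' x := fun x => by
    have := congrArg (ev f₂ φ₁) (hsum' x)
    rwa [hs.ev_add, hs.ev_ten, hs.ev_ten, hs.ev_ten, hs.symm2 φ₂ φ₁, h12', zero_smul, add_zero] at this
  have e2 : ∀ x, f₂ φ₂ φ₂ • A₂ x = f₂ φ' φ₂ • A' x := fun x => by
    have := congrArg (ev f₂ φ₂) (hsum' x)
    rwa [hs.ev_add, hs.ev_ten, hs.ev_ten, hs.ev_ten, h12', zero_smul, zero_add] at this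
  have hc1 : f₂ φ' φ₁ ≠ 0 := fun h0 => by
    have h := e1 (Pi.single ⟨0, ha⟩ 1)
    rw [h0, zero_smul, smul_eq_zero] at h
    have := hA₁ ((h.resolve_left hφ₁).trans (map_zero A₁).symm)
    simp at this
  have hc2 : f₂ φ' φ₂ ≠ 0 := fun h0 => by
    have h := e2 (Pi.single ⟨0, ha⟩ 1)
    rw [h0, zero_smul, smul_eq_zero] at h
    have := hA₂ ((h.resolve_left hφ₂).trans (map_zero A₂).symm)
    simp at this
  refine ⟨(f₂ φ₂ φ₂)⁻¹ * (f₂ φ' φ₂ * ((f₂ φ' φ₁)⁻¹ * f₂ φ₁ φ₁)), by simp [hc1, hc2, hφ₁, hφ₂], fun x => ?_⟩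
  have h : A' x = (f₂ φ' φ₁)⁻¹ • (f₂ φ₁ φ₁ • A₁ x) := by rw [e1, smul_smul, inv_mul_cancel₀ hc1, one_smul]
  rw [mul_smul, mul_smul, mul_smul, ← h, ← e2, smul_smul, inv_mul_cancel₀ hφ₂, one_smul]

/-- An element intertwining two involutions gives growth. -/
theorem split (ha : 0 < a) (hLM : 𝕃 ≤ M) (hM : M ≤ isom Φ) {n : ℕ} {p : Fin n → Fin b → F}
    (hp : IsOrth f₂ p) (hn : n + 3 ≤ b) {y : GL (Idx a b) F} (hyM : y ∈ M) (hyL : y ∉ 𝕃) (hy : y ∈ fixF p)
    {T T' : GL (Fin b) F} (hT : T ∈ isom f₂) (hT2 : T * T = 1) (hT' : T' ∈ isom f₂) (hT'2 : T' * T' = 1)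
    (hTp : ∀ i, (T : Matrix (Fin b) (Fin b) F) *ᵥ p i = p i)
    (hT'p : ∀ i, (T' : Matrix (Fin b) (Fin b) F) *ᵥ p i = p i)
    (hT1 : T ≠ 1) {k₀ : Fin b → F} (hk₀ : k₀ ≠ 0) (hk₀p : ∀ i, f₂ k₀ (p i) = 0)
    (hk₀T : (T : Matrix (Fin b) (Fin b) F) *ᵥ k₀ = k₀)
    (hcomm : y * krG ((1 : GL (Fin a) F), T) = krG ((1 : GL (Fin a) F), T') * y) : Grow f₁ f₂ M p := by
  classical
  by_contra hG
  obtain ⟨k, hk, hkT, hkp⟩ := hs.exists_eigen_family hT hT2 (m := b - n) (by omega) hp (fun i => Or.inl (hTp i))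
  choose ι hι using hkp
  let E : Fin b → Prop := fun j => ∀ i, ι i ≠ j
  have hEp : ∀ j, E j → ∀ i, f₂ (k j) (p i) = 0 := fun j hj i => by
    rw [← hι i]; exact hk.2 _ _ (Ne.symm (hj i))
  -- both signs occur outside `p`
  have hsign : (∃ j, E j ∧ (T : Matrix (Fin b) (Fin b) F) *ᵥ k j = k j) ∧
      ∃ j, E j ∧ (T : Matrix (Fin b) (Fin b) F) *ᵥ k j = -k j := by
    constructor
    · by_contra hcon
      push Not at hcon
      refine hk₀ (hs.eq_zero_of_perp hk rfl fun j => ?_)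
      by_cases hj : E j
      · have h1 := hT k₀ (k j)
        rw [hk₀T, (hkT j).resolve_left (hcon j hj), bl_neg_right hs.b2] at h1
        exact (mul_eq_zero.mp (show (2 : F) * f₂ k₀ (k j) = 0 by linear_combination -h1)).resolve_left hs.two
      · simp only [E, not_forall, not_not] at hj
        obtain ⟨i, rfl⟩ := hj
        rw [hι]; exact hk₀p i
    · by_contra hcon
      push Not at hcon
      refine hT1 (gl_ext fun w => ?_)
      have hw : w ∈ Submodule.span F (Set.range k) := by rw [hs.span_full hk rfl]; exact Submodule.mem_top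
      rw [Units.val_one, one_mulVec]
      induction hw using Submodule.span_induction with
      | mem w hw =>
        obtain ⟨j, rfl⟩ := hw
        by_cases hj : E j
        · exact (hkT j).resolve_right (hcon j hj)
        · simp only [E, not_forall, not_not] at hj
          obtain ⟨i, rfl⟩ := hj
          rw [hι, hTp]
      | zero => rw [mulVec_zero]
      | add v w _ _ h1 h2 => rw [mulVec_add, h1, h2]
      | smul c v _ h1 => rw [mulVec_smul, h1]
  -- every member of the family has a pure image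
  have hslice : ∀ j, E j → ∃ φ, f₂ φ φ ≠ 0 ∧ ∃ A : (Fin a → F) →ₗ[F] (Fin a → F), Function.Injective A ∧
      ∀ x, (y : Matrix (Idx a b) (Idx a b) F) *ᵥ ten x (k j) = ten (A x) φ := by
    intro j hj
    -- an eigenvector of the opposite sign
    obtain ⟨ε, hεne, hεj⟩ : ∃ ε : F, ε * ε = 1 ∧ (T : Matrix (Fin b) (Fin b) F) *ᵥ k j = (-ε) • k j := by
      rcases hkT j with h | h
      · exact ⟨-1, by ring, by rw [h, neg_neg, one_smul]⟩
      · exact ⟨1, one_mul 1, by rw [h, neg_one_smul]⟩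
    obtain ⟨l, hl, hlε⟩ : ∃ l, E l ∧ (T : Matrix (Fin b) (Fin b) F) *ᵥ k l = ε • k l := by
      rcases mul_self_eq_one_iff.mp hεne with h | h
      · obtain ⟨l, hl, hl'⟩ := hsign.1; exact ⟨l, hl, by rw [hl', h, one_smul]⟩
      · obtain ⟨l, hl, hl'⟩ := hsign.2; exact ⟨l, hl, by rw [hl', h, neg_one_smul]⟩
    let S : Submodule F (Fin b → F) :=
      { carrier := {w | (T' : Matrix (Fin b) (Fin b) F) *ᵥ w = ε • w ∧ ∀ i, f₂ w (p i) = 0}
        add_mem' := fun {u v} hu hv => ⟨by rw [mulVec_add, hu.1, hv.1, smul_add],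
          fun i => by rw [hs.b2.add_left, hu.2, hv.2, add_zero]⟩
        zero_mem' := ⟨by rw [mulVec_zero, smul_zero], fun i => bl_zero_left hs.b2 _⟩
        smul_mem' := fun c v hv => ⟨by rw [mulVec_smul, hv.1, smul_comm],
          fun i => by rw [hs.b2.smul_left, hv.2, mul_zero]⟩ }
    obtain ⟨h, hhS, hh⟩ : ∃ h ∈ S, f₂ h h ≠ 0 := by
      set v := (y : Matrix (Idx a b) (Idx a b) F) *ᵥ ten (Pi.single ⟨0, ha⟩ 1) (k l) with hv
      obtain ⟨r, hr⟩ : ∃ r, TensorUnitary.row v r ≠ 0 := by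
        by_contra hcon
        push Not at hcon
        have hv0 : v = 0 := vec_ext fun r => hcon r
        rw [hv, ← mulVec_zero (y : Matrix (Idx a b) (Idx a b) F)] at hv0
        have h0 := gl_mulVec_inj y hv0
        rw [ten_eq_zero] at h0
        rcases h0 with h0 | h0
        · simp at h0
        · exact hk.1 l (by rw [h0, bl_zero_left hs.b2])
      set w := TensorUnitary.row v r with hw
      have hwS : w ∈ S := by
        refine ⟨?_, fun i => hs.tens_perp_fix hM hyM hy (hEp l hl) _ r i⟩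
        rw [hw, ← one_kron_mulVec, ← row_smul]
        congr 1
        have := congrArg (fun g : GL (Idx a b) F =>
          (g : Matrix (Idx a b) (Idx a b) F) *ᵥ ten (Pi.single ⟨0, ha⟩ 1) (k l)) hcomm
        simp only [gl_mul_mulVec, krG_val, Units.val_one, kron_mulVec_ten, one_mulVec, hlε, ten_smul_right,
          mulVec_smul] at this
        exact this.symm
      obtain ⟨z, hz⟩ := (hs.n2 w hr).2
      obtain ⟨z', hz', hzd⟩ := hs.exists_perp_part hp z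
      have hT'T' : ∀ u, (T' : Matrix (Fin b) (Fin b) F) *ᵥ ((T' : Matrix (Fin b) (Fin b) F) *ᵥ u) = u :=
        fun u => by rw [← gl_mul_mulVec, hT'2, Units.val_one, one_mulVec]
      refine hs.exists_aniso_mem hwS (y := z' + ε • ((T' : Matrix (Fin b) (Fin b) F) *ᵥ z')) ⟨?_, fun i => ?_⟩ ?_
      · rw [mulVec_add, mulVec_smul, hT'T', smul_add, smul_smul, hεne, one_smul, add_comm]
      · rw [hs.b2.add_left, hs.b2.smul_left, hz']
        conv_lhs => arg 2; arg 2; rw [← hT'p i, hT', hz']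
        rw [mul_zero, add_zero]
      · have h1 : f₂ w z' = f₂ w z := by
          rw [show z = z' + (z - z') by abel, hs.b2.add_right, hs.span_perp_eq_zero hwS.2 hzd, add_zero]
        have h2 : f₂ w ((T' : Matrix (Fin b) (Fin b) F) *ᵥ z') = ε * f₂ w z' := by
          have h3 := hT' w z'
          rw [hwS.1, hs.b2.smul_left] at h3
          calc f₂ w ((T' : Matrix (Fin b) (Fin b) F) *ᵥ z')
              = ε * (ε * f₂ w ((T' : Matrix (Fin b) (Fin b) F) *ᵥ z')) := by rw [← mul_assoc, hεne, one_mul]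
            _ = _ := by rw [h3]
        rw [hs.b2.add_right, hs.b2.smul_right, h2, ← mul_assoc, hεne, one_mul, h1, ← two_mul]
        exact mul_ne_zero hs.two hz
    set R := krG ((1 : GL (Fin a) F), rfl' f₂ (k j))
    have hR : R ∈ M := hLM (hs.krG_mem (Subgroup.one_mem _) (hs.rfl2_mem (hk.1 j)))
    set m := y * R * y⁻¹ with hm
    have hRfix : ∀ w, f₂ w (k j) = 0 → ∀ x, (R : Matrix (Idx a b) (Idx a b) F) *ᵥ ten x w = ten x w :=
      fun w hw x => by rw [krG_val, Units.val_one, kron_mulVec_ten, one_mulVec, hs.rfl2_fix (hk.1 j) hw]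
    have hyi : ∀ i x, ((y⁻¹ : GL (Idx a b) F) : Matrix (Idx a b) (Idx a b) F) *ᵥ ten x (p i) = ten x (p i) :=
      fun i x => (fixF p).inv_mem hy i x
    have hmfix : m ∈ fixF p := by
      intro i x
      rw [hm, gl_mul_mulVec, gl_mul_mulVec, hyi, hRfix _ (by rw [hs.symm2]; exact hEp j hj i), hy i x]
    have hmh : ∀ x, (m : Matrix (Idx a b) (Idx a b) F) *ᵥ ten x h = ten x h := by
      intro x
      set v := ((y⁻¹ : GL (Idx a b) F) : Matrix (Idx a b) (Idx a b) F) *ᵥ ten x h with hv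
      have hrows : ∀ r, f₂ (TensorUnitary.row v r) (k j) = 0 := by
        intro r
        have h1 : (T : Matrix (Fin b) (Fin b) F) *ᵥ TensorUnitary.row v r = ε • TensorUnitary.row v r := by
          rw [← one_kron_mulVec, ← row_smul]
          congr 1
          refine gl_mulVec_inj y ?_
          have := congrArg (fun g : GL (Idx a b) F => (g : Matrix (Idx a b) (Idx a b) F) *ᵥ v) hcomm
          simp only [gl_mul_mulVec] at this
          rw [krG_val, Units.val_one] at this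
          rw [this, mulVec_smul, hv, gl_mulVec_inv, krG_val, Units.val_one, kron_mulVec_ten, one_mulVec, hhS.1,
            ten_smul_right]
        have h2 := hT (TensorUnitary.row v r) (k j)
        rw [h1, hεj, hs.b2.smul_left, hs.b2.smul_right] at h2
        refine (mul_eq_zero.mp (show (2 : F) * f₂ (TensorUnitary.row v r) (k j) = 0 from ?_)).resolve_left hs.two
        linear_combination -h2 - f₂ (TensorUnitary.row v r) (k j) * hεne
      have hRv : (R : Matrix (Idx a b) (Idx a b) F) *ᵥ v = v := vec_ext fun r => by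
        rw [krG_val, Units.val_one, one_kron_mulVec, hs.rfl2_fix (hk.1 j) (hrows r)]
      rw [hm, gl_mul_mulVec, gl_mul_mulVec, ← hv, hRv, hv, gl_mulVec_inv]
    have hmM : m ∈ M := M.mul_mem (M.mul_mem hyM hR) (M.inv_mem hyM)
    have hmL : m ∈ 𝕃 := by
      by_contra hmL
      exact hG (hs.grow_of hmM hmL hmfix hh hhS.2 hmh)
    exact hs.slice_of_conj ha hM hyM (hk.1 j) hmL (fun h0 => hh (by rw [h0, bl_zero_left hs.b2])) hmh
  choose! φ hφ A hAinj hA using hslice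
  -- three indices outside `p`
  have hthird : ∀ j l, ∃ m, E m ∧ m ≠ j ∧ m ≠ l := by
    intro j l
    by_contra hcon
    push Not at hcon
    have hsub : (Finset.univ : Finset (Fin b)) ⊆ Finset.univ.image ι ∪ {j, l} := by
      intro m _
      by_cases hm : E m
      · by_cases hmj : m = j
        · exact Finset.mem_union_right _ (by simp [hmj])
        · exact Finset.mem_union_right _ (by simp [hcon m hm hmj])
      · simp only [E, not_forall, not_not] at hm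
        obtain ⟨i, rfl⟩ := hm
        exact Finset.mem_union_left _ (Finset.mem_image_of_mem _ (Finset.mem_univ i))
    have := (Finset.card_le_card hsub).trans (Finset.card_union_le _ _)
    have h1 := (Finset.card_image_le (s := (Finset.univ : Finset (Fin n))) (f := ι))
    have h2 : ({j, l} : Finset (Fin b)).card ≤ 2 := Finset.card_le_two
    rw [Finset.card_univ, Fintype.card_fin] at this h1
    omega
  have hord : ∀ j l, E j → E l → j ≠ l → ∃ r : F, r ≠ 0 ∧ ∀ x, A l x = r • A j x := by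
    intro j l hj hl hjl
    obtain ⟨m, hm, hmj, hml⟩ := hthird j l
    by_cases h0 : f₂ (k j) (k j) + f₂ (k l) (k l) = 0
    swap
    · exact hs.pair_test hLM hM ha hG hyM hy (hAinj j hj) (hAinj l hl) (hAinj m hm) (hA j hj) (hA l hl)
        (hA m hm) (hφ j hj) (hφ l hl) (hφ m hm) (hEp j hj) (hEp l hl) (hEp m hm) (hk.2 j l hjl)
        (hk.2 j m (Ne.symm hmj)) (hk.2 l m (Ne.symm hml)) h0
    -- the combination of `j` and `m`
    have key : ∀ j l, E j → E l → j ≠ l → m ≠ j → m ≠ l → f₂ (k j) (k j) + f₂ (k l) (k l) = 0 →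
        f₂ (k j) (k j) + f₂ (k m) (k m) ≠ 0 → ∃ r : F, r ≠ 0 ∧ ∀ x, A l x = r • A j x := by
      intro j l hj hl hjl hmj hml h0 h1
      obtain ⟨r, hr0, hr⟩ := hs.pair_test hLM hM ha hG hyM hy (hAinj j hj) (hAinj m hm) (hAinj l hl) (hA j hj)
        (hA m hm) (hA l hl) (hφ j hj) (hφ m hm) (hφ l hl) (hEp j hj) (hEp m hm) (hEp l hl)
        (hk.2 j m (Ne.symm hmj)) (hk.2 j l hjl) (hk.2 m l hml) h1
      have hjm := hs.slice_orth hM ha hyM (hAinj j hj) (hAinj m hm) (hA j hj) (hA m hm) (hk.2 j m (Ne.symm hmj))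
      have hcomb : ∀ α β : F, ∀ x, (y : Matrix (Idx a b) (Idx a b) F) *ᵥ ten x (α • k j + β • k m)
          = ten (A j x) (α • φ j + (β * r) • φ m) := fun α β x => by
        rw [ten_add_right, ten_smul_right, ten_smul_right, mulVec_add, mulVec_smul, mulVec_smul, hA j hj,
          hA m hm, hr, ten_add_right, ten_smul_right, ten_smul_right, ten_smul_left, smul_smul]
      have hφc : ∀ α β : F, f₂ (α • φ j + (β * r) • φ m) (α • φ j + (β * r) • φ m)
          = α * α * f₂ (φ j) (φ j) + β * r * (β * r) * f₂ (φ m) (φ m) := fun α β => by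
        simp only [hs.b2.add_left, hs.b2.add_right, hs.b2.smul_left, hs.b2.smul_right, hjm,
          hs.symm2 (φ m) (φ j)]
        ring
      have hkc : ∀ α β α' β' : F, f₂ (α • k j + β • k m) (α' • k j + β' • k m)
          = α * α' * f₂ (k j) (k j) + β * β' * f₂ (k m) (k m) := fun α β α' β' => by
        simp only [hs.b2.add_left, hs.b2.add_right, hs.b2.smul_left, hs.b2.smul_right,
          hk.2 j m (Ne.symm hmj), hk.2 m j hmj]
        ring
      have hiso : ∀ α β : F, α * α * f₂ (k j) (k j) + β * β * f₂ (k m) (k m) ≠ 0 →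
          f₂ (α • φ j + (β * r) • φ m) (α • φ j + (β * r) • φ m) ≠ 0 := by
        intro α β hne h2
        obtain ⟨z, hz⟩ := (hs.n1 (Pi.single (⟨0, ha⟩ : Fin a) (1 : F)) (by simp)).2
        have h3 := hM hyM (ten (Pi.single ⟨0, ha⟩ 1) (α • k j + β • k m)) (ten z (α • k j + β • k m))
        rw [hcomb, hcomb, hs.form_ten_ten, hs.form_ten_ten, h2, mul_zero, hkc] at h3
        exact mul_ne_zero hz hne h3.symm
      have hperp : ∀ α β : F, ∀ i, f₂ (α • k j + β • k m) (p i) = 0 := fun α β i => by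
        rw [hs.b2.add_left, hs.b2.smul_left, hs.b2.smul_left, hEp j hj, hEp m hm, mul_zero, mul_zero, add_zero]
      have hl' : ∀ α β : F, f₂ (α • k j + β • k m) (k l) = 0 := fun α β => by
        rw [hs.b2.add_left, hs.b2.smul_left, hs.b2.smul_left, hk.2 j l hjl, hk.2 m l hml, mul_zero, mul_zero,
          add_zero]
      refine hs.pair_test hLM hM ha hG hyM hy (k₁ := (1 : F) • k j + (1 : F) • k m) (hAinj j hj) (hAinj l hl)
        (hAinj j hj) (hcomb 1 1) (hA l hl) (hcomb (f₂ (k m) (k m)) (-f₂ (k j) (k j))) (hiso 1 1 ?_) (hφ l hl)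
        (hiso _ _ ?_) (hperp _ _) (hEp l hl) (hperp _ _) (hl' _ _) ?_ (by rw [hs.symm2]; exact hl' _ _) ?_
      · simpa using h1
      · rw [show f₂ (k m) (k m) * f₂ (k m) (k m) * f₂ (k j) (k j) + -f₂ (k j) (k j) * -f₂ (k j) (k j) * f₂ (k m) (k m)
          = f₂ (k m) (k m) * f₂ (k j) (k j) * (f₂ (k j) (k j) + f₂ (k m) (k m)) by ring]
        exact mul_ne_zero (mul_ne_zero (hk.1 m) (hk.1 j)) h1
      · rw [hkc]; ring
      · rw [hkc, show (1 : F) * 1 * f₂ (k j) (k j) + 1 * 1 * f₂ (k m) (k m) + f₂ (k l) (k l)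
          = f₂ (k m) (k m) by linear_combination h0]
        exact hk.1 m
    by_cases h1 : f₂ (k j) (k j) + f₂ (k m) (k m) = 0
    swap
    · exact key j l hj hl hjl hmj hml h0 h1
    have h2 : f₂ (k l) (k l) + f₂ (k m) (k m) ≠ 0 := fun h2 => hk.1 j (by
      exact (mul_eq_zero.mp (show (2 : F) * f₂ (k j) (k j) = 0 by linear_combination h0 + h1 - h2)).resolve_left
        hs.two)
    obtain ⟨r, hr0, hr⟩ := key l j hl hj (Ne.symm hjl) hml hmj (by rw [add_comm]; exact h0) h2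
    exact ⟨r⁻¹, inv_ne_zero hr0, fun x => by rw [hr, smul_smul, inv_mul_cancel₀ hr0, one_smul]⟩
  obtain ⟨j₀, hj₀, -⟩ := hsign.1
  have hall : ∀ j, E j → ∃ ψ, f₂ ψ ψ ≠ 0 ∧
      ∀ x, (y : Matrix (Idx a b) (Idx a b) F) *ᵥ ten x (k j) = ten (A j₀ x) ψ := by
    intro j hj
    by_cases hjj : j₀ = j
    · subst hjj; exact ⟨φ j₀, hφ j₀ hj, hA j₀ hj⟩
    · obtain ⟨r, hr0, hr⟩ := hord j₀ j hj₀ hj hjj
      refine ⟨r • φ j, ?_, fun x => by rw [hA j hj, hr, ten_smul_left, ten_smul_right]⟩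
      rw [hs.b2.smul_left, hs.b2.smul_right]
      exact mul_ne_zero hr0 (mul_ne_zero hr0 (hφ j hj))
  have hA₀ := hAinj j₀ hj₀
  set B := A j₀ with hB
  -- the scalar case
  have hscal : (n ≠ 0 → ∃ s : F, ∀ x, B x = s • x) → False := by
    intro hs'
    rcases Nat.eq_zero_or_pos n with hn0 | hn0
    · refine hyL (hs.mem_of_slices ha (hM hyM) hk B hA₀ fun j => ?_)
      obtain ⟨ψ, -, hψ⟩ := hall j fun i => absurd i.2 (by omega)
      exact ⟨ψ, hψ⟩
    obtain ⟨s, hsB⟩ := hs' (by omega)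
    refine hyL (hs.mem_of_slices ha (hM hyM) hk LinearMap.id Function.injective_id fun j => ?_)
    by_cases hj : E j
    · obtain ⟨ψ, -, hψ⟩ := hall j hj
      exact ⟨s • ψ, fun x => by rw [hψ, hsB, ten_smul_left, ten_smul_right]; rfl⟩
    · simp only [E, not_forall, not_not] at hj
      obtain ⟨i, rfl⟩ := hj
      exact ⟨p i, fun x => by rw [hι]; exact hy i x⟩
  by_cases hsc : ∀ u, ∃ s : F, B u = s • u
  · exact hscal fun _ => exists_scalar_of_eigen B hsc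
  push Not at hsc
  obtain ⟨u, hu⟩ := hsc
  rcases Nat.eq_zero_or_pos n with hn0 | hn0
  · exact hscal fun h => absurd hn0 h
  obtain ⟨ψ, hψ0, hψ⟩ := hall j₀ hj₀
  set μ := f₂ (k j₀) (k j₀) / f₂ ψ ψ with hμdef
  have hμ : ∀ x z, f₁ (B x) (B z) = μ * f₁ x z := fun x z => by
    have h1 := hM hyM (ten x (k j₀)) (ten z (k j₀))
    rw [hψ, hψ, hs.form_ten_ten, hs.form_ten_ten] at h1
    rw [hμdef, div_mul_eq_mul_div, eq_div_iff hψ0, h1, mul_comm]
  have hμ0 : μ ≠ 0 := div_ne_zero (hk.1 j₀) hψ0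
  clear_value μ
  set S := ctv f₁ u 1
  set S' := ctv f₁ (B u) μ⁻¹
  have hS : S ∈ isom f₁ := hs.ctv1_mem _ _
  have hS' : S' ∈ isom f₁ := hs.ctv1_mem _ _
  have hBS : ∀ x, B ((S : Matrix (Fin a) (Fin a) F) *ᵥ x) = (S' : Matrix (Fin a) (Fin a) F) *ᵥ B x := fun x => by
    rw [hs.ctv1_mulVec, hs.ctv1_mulVec, map_add, map_smul, hμ, one_mul, ← mul_assoc, inv_mul_cancel₀ hμ0,
      one_mul]
  set m := y * krG (S, (1 : GL (Fin b) F)) * y⁻¹ * (krG (S', (1 : GL (Fin b) F)))⁻¹ with hm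
  have hmM : m ∈ M := M.mul_mem (M.mul_mem (M.mul_mem hyM (hLM (hs.krG_mem hS (Subgroup.one_mem _))))
    (M.inv_mem hyM)) (M.inv_mem (hLM (hs.krG_mem hS' (Subgroup.one_mem _))))
  have hmE : ∀ j, E j → ∀ ψ, (∀ x, (y : Matrix (Idx a b) (Idx a b) F) *ᵥ ten x (k j) = ten (B x) ψ) →
      ∀ x, (m : Matrix (Idx a b) (Idx a b) F) *ᵥ ten x ψ = ten x ψ := by
    intro j hj ψ hψ x
    obtain ⟨x', hx'⟩ := LinearMap.surjective_of_injective hA₀ (((S'⁻¹ : GL (Fin a) F) : Matrix (Fin a) (Fin a) F) *ᵥ x)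
    rw [hm, gl_mul_mulVec, gl_mul_mulVec, gl_mul_mulVec, ← map_inv, Prod.inv_mk, inv_one, krG_val S'⁻¹, Units.val_one,
      kron_mulVec_ten, one_mulVec, ← hx', ← hψ, gl_inv_mulVec, krG_val S, Units.val_one, kron_mulVec_ten, one_mulVec,
      hψ, hBS, hx', gl_mulVec_inv]
  have hmL : m ∉ 𝕃 := by
    intro hmL
    obtain ⟨T'', -, hmT, -⟩ := hs.eq_one_kron ha hmL (fun h0 => hψ0 (by rw [h0, bl_zero_left hs.b2]))
      (hmE j₀ hj₀ ψ hψ)
    set i₀ : Fin n := ⟨0, hn0⟩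
    have hp0 : p i₀ ≠ 0 := fun h0 => hp.1 i₀ (by rw [h0, bl_zero_left hs.b2])
    have key : ∀ x, ten ((S : Matrix (Fin a) (Fin a) F) *ᵥ x) (p i₀)
        = ten ((S' : Matrix (Fin a) (Fin a) F) *ᵥ x) ((T'' : Matrix (Fin b) (Fin b) F) *ᵥ p i₀) := by
      intro x
      have h1 := congrArg (fun g : GL (Idx a b) F =>
        (g : Matrix (Idx a b) (Idx a b) F) *ᵥ ten ((S' : Matrix (Fin a) (Fin a) F) *ᵥ x) (p i₀)) hmT
      simp only [hm, gl_mul_mulVec, ← map_inv, Prod.inv_mk, inv_one] at h1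
      rw [krG_val, krG_val, Units.val_one, kron_mulVec_ten, one_mulVec, gl_inv_mulVec, (fixF p).inv_mem hy i₀,
        kron_mulVec_ten, one_mulVec, hy, krG_val, Units.val_one, kron_mulVec_ten, one_mulVec] at h1
      exact h1
    obtain ⟨α, hα⟩ := exists_dot_eq_one hp0
    obtain ⟨c, hcS⟩ : ∃ c : F, ∀ x, (S : Matrix (Fin a) (Fin a) F) *ᵥ x = c • ((S' : Matrix (Fin a) (Fin a) F) *ᵥ x) :=
      ⟨α ⬝ᵥ ((T'' : Matrix (Fin b) (Fin b) F) *ᵥ p i₀), fun x => funext fun r => by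
        have h1 := congrArg (fun v : Idx a b → F => α ⬝ᵥ TensorUnitary.row v r) (key x)
        simp only [TensorUnitary.row_ten, dotProduct_smul, hα, smul_eq_mul, mul_one] at h1
        rw [Pi.smul_apply, smul_eq_mul, h1, mul_comm]⟩
    have hBu : B u ≠ 0 := fun h0 => hu 0 (by rw [h0, zero_smul])
    have h1 := hcS u
    rw [hs.ctv1_mulVec, hs.alt1, mul_zero, zero_smul, add_zero, hs.ctv1_mulVec, smul_add, smul_smul] at h1
    have hc : c * (μ⁻¹ * f₁ u (B u)) = 0 := by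
      by_contra hne
      refine hu ((c * (μ⁻¹ * f₁ u (B u)))⁻¹ * (1 - c)) ?_
      rw [mul_smul, sub_smul, one_smul]
      conv_rhs => arg 2; arg 1; rw [h1]
      rw [add_sub_cancel_left, smul_smul, inv_mul_cancel₀ hne, one_smul]
    rw [hc, zero_smul, add_zero] at h1
    have hu0 : u ≠ 0 := fun h0 => hu 0 (by rw [h0, map_zero, zero_smul])
    have hc1 : c = 1 := by
      have h2 : (c - 1) • u = 0 := by rw [sub_smul, one_smul, ← h1, sub_self]
      exact sub_eq_zero.mp ((smul_eq_zero.mp h2).resolve_right hu0)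
    obtain ⟨x, hx⟩ := (hs.n1 u hu0).1
    have h2 := hcS x
    rw [hc1, one_smul, hs.ctv1_mulVec, hs.ctv1_mulVec, one_mul] at h2
    have h3 := add_left_cancel h2
    by_cases h4 : μ⁻¹ * f₁ x (B u) = 0
    · rw [h4, zero_smul, smul_eq_zero] at h3
      exact h3.elim hx hu0
    · refine hu ((μ⁻¹ * f₁ x (B u))⁻¹ * f₁ x u) ?_
      rw [mul_smul, h3, smul_smul, inv_mul_cancel₀ h4, one_smul]
  -- an isotropic vector among the images
  obtain ⟨j₁, hj₁, -⟩ := hsign.2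
  obtain ⟨l, hl, hlj₀, -⟩ := hthird j₀ j₀
  obtain ⟨q, hq, hqj₀, hql⟩ := hthird j₀ l
  obtain ⟨ψ₁, hψ₁0, hψ₁⟩ := hall l hl
  obtain ⟨ψ₂, hψ₂0, hψ₂⟩ := hall q hq
  obtain ⟨s, t, hne, h0⟩ := hs.exists_iso_three hψ0 hψ₁0 hψ₂0
    (hs.slice_orth hM ha hyM hA₀ hA₀ hψ hψ₁ (hk.2 _ _ (Ne.symm hlj₀)))
    (hs.slice_orth hM ha hyM hA₀ hA₀ hψ hψ₂ (hk.2 _ _ (Ne.symm hqj₀)))
    (hs.slice_orth hM ha hyM hA₀ hA₀ hψ₁ hψ₂ (hk.2 _ _ (Ne.symm hql)))
  refine hG (Or.inr (hs.cen_of_slice ha (by omega) hLM hM hne h0 hmM hmL fun x => ?_))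
  simp only [ten_add_right, ten_smul_right, mulVec_add, mulVec_smul, hmE j₀ hj₀ ψ hψ, hmE l hl ψ₁ hψ₁,
    hmE q hq ψ₂ hψ₂]

end Setting

end CfsgLib.TensorSympOrth
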