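import Cfsg.Agent.TensorSympOrth.TopLemmas

/-!
# The first step: centralisers and classes of involutions
-/

set_option autoImplicit false
set_option linter.unusedSectionVars false

namespace CfsgLib.TensorSympOrth

open Matrix Cfsg.Geo CfsgLib.MaxSub CfsgLib.TensorMax
open CfsgLib.TensorUnitary (form ev isom pMat rowsIn)
open scoped Kronecker

variable {F : Type*} [Field F] {a b : ℕ}

namespace Setting

variable {f₁ : (Fin a → F) → (Fin a → F) → F} {f₂ : (Fin b → F) → (Fin b → F) → F}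
  (hs : Setting f₁ f₂) {M : Subgroup (GL (Idx a b) F)} [Fintype F]
include hs

local notation "Φ" => form f₁ f₂
local notation "𝕃" => tensSO f₁ f₂

/-- The product of two reflections. -/
theorem plane_props {e₁ e₂ : Fin b → F} (he₁ : f₂ e₁ e₁ ≠ 0) (he₂ : f₂ e₂ e₂ ≠ 0) (h12 : f₂ e₁ e₂ = 0) :
    rfl' f₂ e₁ * rfl' f₂ e₂ ∈ isom f₂ ∧ (rfl' f₂ e₁ * rfl' f₂ e₂) * (rfl' f₂ e₁ * rfl' f₂ e₂) = 1 ∧
    rfl' f₂ e₁ * rfl' f₂ e₂ ≠ 1 ∧
    ∀ w, f₂ w e₁ = 0 → f₂ w e₂ = 0 →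
      ((rfl' f₂ e₁ * rfl' f₂ e₂ : GL (Fin b) F) : Matrix (Fin b) (Fin b) F) *ᵥ w = w := by
  have hcomm : rfl' f₂ e₂ * rfl' f₂ e₁ = rfl' f₂ e₁ * rfl' f₂ e₂ := gl_ext fun w => by
    rw [gl_mul_mulVec, gl_mul_mulVec, hs.rfl2_mulVec he₁ w, hs.rfl2_mulVec he₂ w, mulVec_sub, mulVec_smul,
      mulVec_sub, mulVec_smul, hs.rfl2_fix he₂ h12, hs.rfl2_fix he₁ (show f₂ e₂ e₁ = 0 by rw [hs.symm2, h12]),
      hs.rfl2_mulVec he₁ w, hs.rfl2_mulVec he₂ w]
    module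
  refine ⟨(isom f₂).mul_mem (hs.rfl2_mem he₁) (hs.rfl2_mem he₂), ?_, ?_, fun w h1 h2 => ?_⟩
  · rw [mul_assoc, ← mul_assoc (rfl' f₂ e₂), hcomm, mul_assoc (rfl' f₂ e₁) (rfl' f₂ e₂), hs.rfl2_sq he₂,
      mul_one, hs.rfl2_sq he₁]
  · intro h
    have h1 : rfl' f₂ e₁ = rfl' f₂ e₂ := by
      have := congrArg (· * rfl' f₂ e₂) h
      simpa only [mul_assoc, hs.rfl2_sq he₂, mul_one, one_mul] using this
    have h2 := hs.rfl2_self he₁
    rw [h1, hs.rfl2_fix he₂ h12, eq_neg_iff_add_eq_zero, ← two_smul F e₁, smul_eq_zero] at h2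
    exact he₁ (by rw [h2.resolve_left hs.two, bl_zero_left hs.b2])
  · rw [gl_mul_mulVec, hs.rfl2_fix he₂ h2, hs.rfl2_fix he₁ h1]

variable (ha : 2 ≤ a) (hb : 3 ≤ b) (hLM : tensSO f₁ f₂ ≤ M) (hM : M ≤ isom (form f₁ f₂))
  (hG : ¬ Grow f₁ f₂ M (Fin.elim0 : Fin 0 → Fin b → F))
include ha hb hLM hM hG

theorem top_cent {x : GL (Idx a b) F} (hx : x ∈ M) {T : GL (Fin b) F} (hT : T ∈ isom f₂) (hT2 : T * T = 1)
    (hT1 : T ≠ 1) {k₀ : Fin b → F} (hk₀ : k₀ ≠ 0) (hk₀T : (T : Matrix (Fin b) (Fin b) F) *ᵥ k₀ = k₀)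
    (hcomm : x * krG ((1 : GL (Fin a) F), T) = krG ((1 : GL (Fin a) F), T) * x) : x ∈ 𝕃 := by
  by_contra hxL
  exact hG (hs.split (p := (Fin.elim0 : Fin 0 → Fin b → F)) (by omega) hLM hM
    ⟨fun i => i.elim0, fun i => i.elim0⟩ (by omega) hx hxL (fun i => i.elim0) hT hT2 hT hT2
    (fun i => i.elim0) (fun i => i.elim0) hT1 hk₀ (fun i => i.elim0) hk₀T hcomm)

theorem top_refl {x : GL (Idx a b) F} (hx : x ∈ M) {e : Fin b → F} (he : f₂ e e ≠ 0)
    (hm : x * krG ((1 : GL (Fin a) F), rfl' f₂ e) * x⁻¹ ∈ 𝕃) : x ∈ 𝕃 := by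
  have ha' : 0 < a := by omega
  have hrank : Module.finrank F (img (x * krG ((1 : GL (Fin a) F), rfl' f₂ e) * x⁻¹)) = a := by
    rw [finrank_img_conj, img_one_kron, hs.img_rfl he, TensorUnitary.finrank_rowsIn,
      finrank_span_singleton (fun h => he (by rw [h, bl_zero_left hs.b2])), mul_one]
  obtain ⟨k₀, hk₀, hk₀p⟩ := hs.exists_ne_perp (fun _ : Fin 1 => e) (by omega)
  rcases hs.recognise_rank ha' hb hm hrank with ⟨T', hT', hmT⟩ | ⟨S', hS', hmS⟩
  · by_contra hxL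
    have hm2 : T' * T' = 1 := by
      refine krG_one_inj ha' (a := a) ?_
      rw [Prod.mk_one_one, map_one, show ((1 : GL (Fin a) F), T' * T') = (1, T') * (1, T') by
        rw [Prod.mk_mul_mk, one_mul], map_mul, ← hmT,
        show x * krG ((1 : GL (Fin a) F), rfl' f₂ e) * x⁻¹ * (x * krG ((1 : GL (Fin a) F), rfl' f₂ e) * x⁻¹)
        = x * (krG ((1 : GL (Fin a) F), rfl' f₂ e) * krG ((1 : GL (Fin a) F), rfl' f₂ e)) * x⁻¹ by group,
        hs.rflK_sq he, mul_one, mul_inv_cancel]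
    refine hG (hs.split (p := (Fin.elim0 : Fin 0 → Fin b → F)) ha' hLM hM
      ⟨fun i => i.elim0, fun i => i.elim0⟩ (by omega) hx hxL (fun i => i.elim0) (hs.rfl2_mem he) (hs.rfl2_sq he)
      hT' hm2 (fun i => i.elim0) (fun i => i.elim0) (hs.rfl2_ne_one he) hk₀ (fun i => i.elim0)
      (hs.rfl2_fix he (hk₀p 0)) ?_)
    rw [← hmT, inv_mul_cancel_right]
  · obtain ⟨v, hv, hvp⟩ := hs.exists_comp_family (p := fun _ : Fin 1 => e)
      ⟨fun _ => he, fun i j h => absurd (Subsingleton.elim i j) h⟩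
    exact absurd (hs.grow_of_U ha' hLM hM hx (hs.rfl2_ne_one he) hmS hS' hv (by omega) (by omega)
      fun i => hs.rfl2_fix he (hvp i 0)) hG

theorem top_refl_cent {e : Fin b → F} (he : f₂ e e ≠ 0) {x : GL (Idx a b) F} (hx : x ∈ M)
    (h : x * krG ((1 : GL (Fin a) F), rfl' f₂ e) = krG ((1 : GL (Fin a) F), rfl' f₂ e) * x) : x ∈ 𝕃 :=
  hs.top_refl ha hb hLM hM hG hx he (by rw [h, mul_inv_cancel_right]; exact hs.rflK_mem he)

/-- The centraliser of a commuting product lies in the stabiliser. -/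
theorem top_key {E : GL (Fin b) F} (hE : E ∈ isom f₂) (hE2 : E * E = 1) {n : ℕ} (q : Fin n → Fin b → F)
    (hq : ∀ w, (∀ i, f₂ w (q i) = 0) → (E : Matrix (Fin b) (Fin b) F) *ᵥ w = w) (hn : n + 1 < b)
    {e : Fin b → F} (he : f₂ e e ≠ 0) {c : GL (Idx a b) F} (hcL : c ∈ 𝕃) (hc1 : c ≠ 1)
    (hc2 : c * c = 1) {h : GL (Idx a b) F} (hh : h ∈ M)
    (hch : c * krG ((1 : GL (Fin a) F), E) = h * krG ((1 : GL (Fin a) F), rfl' f₂ e) * h⁻¹)
    {x : GL (Idx a b) F} (hx : x ∈ M) (hxc : x * c = c * x) : x ∈ 𝕃 := by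
  have ha' : 0 < a := by omega
  have hhL : h ∈ 𝕃 := hs.top_refl ha hb hLM hM hG hh he
    (hch ▸ (𝕃).mul_mem hcL (hs.krG_mem (Subgroup.one_mem _) hE))
  obtain ⟨S, T, μ, hμ, hhST, -, hTμ⟩ := hs.tens_cases ha' hhL (by omega)
  set k' := (T : Matrix (Fin b) (Fin b) F) *ᵥ e with hk'
  have hk'0 : f₂ k' k' ≠ 0 := by rw [hk', hTμ]; exact mul_ne_zero (inv_ne_zero hμ) he
  have hc : c = krG ((1 : GL (Fin a) F), rfl' f₂ k' * E) := by
    rw [hhST, hs.krG_conj, hs.conj_rfl (inv_ne_zero hμ) hTμ he, ← hk'] at hch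
    have h1 := congrArg (· * krG ((1 : GL (Fin a) F), E)) hch
    simpa only [mul_assoc, ← map_mul, Prod.mk_mul_mk, one_mul, hE2, Prod.mk_one_one, map_one, mul_one] using h1
  have hT2 : (rfl' f₂ k' * E) * (rfl' f₂ k' * E) = 1 := by
    refine krG_one_inj ha' (a := a) ?_
    rw [Prod.mk_one_one, map_one, ← hc2, hc, ← map_mul, Prod.mk_mul_mk, one_mul]
  obtain ⟨k₀, hk₀, hk₀p⟩ := hs.exists_ne_perp (Fin.snoc q k' : Fin (n + 1) → Fin b → F) hn
  refine hs.top_cent ha hb hLM hM hG hx ((isom f₂).mul_mem (hs.rfl2_mem hk'0) hE) hT2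
    (fun h1 => hc1 (by rw [hc, h1, Prod.mk_one_one, map_one])) hk₀ ?_ (by rw [← hc]; exact hxc)
  rw [gl_mul_mulVec, hq k₀ (fun i => by simpa using hk₀p i.castSucc),
    hs.rfl2_fix hk'0 (by simpa using hk₀p (Fin.last n))]

/-- In dimension three a contradiction. -/
theorem top_three (hb3 : b = 3) {g : GL (Idx a b) F} (hg : g ∈ M) (hgL : g ∉ 𝕃) : False := by
  obtain ⟨c, hc0, hc⟩ := hs.exists_iso hb
  obtain ⟨d, hd, hdc⟩ := hs.exists_partner hc0 hc
  obtain ⟨e, he, hec, hed⟩ := hs.exists_aniso_pair hb hc hd hdc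
  obtain ⟨ν, hν0, hν⟩ := hs.exists_nonsquare
  set α := -ν / (2 * f₂ e e) with hα
  have hαv : α * (2 * f₂ e e) = -ν := div_mul_cancel₀ _ (mul_ne_zero hs.two he)
  have hα0 : α ≠ 0 := fun h => hν0 (by rw [h, zero_mul] at hαv; exact neg_eq_zero.mp hαv.symm)
  clear_value α
  set e' := c - α • d with he'
  have he'v : f₂ e' e' = -(2 * α) := by
    simp only [he', bl_sub_left hs.b2, bl_sub_right hs.b2, hs.b2.smul_left, hs.b2.smul_right, hc, hd, hdc,
      hs.symm2 c d]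
    ring
  have he'0 : f₂ e' e' ≠ 0 := by rw [he'v]; exact neg_ne_zero.mpr (mul_ne_zero hs.two hα0)
  have hplane : ∀ w, f₂ w e' = 0 → f₂ w w = 0 → w = 0 := by
    intro w h1 h2
    have hrest : w = f₂ w d • c + f₂ w c • d + (f₂ w e / f₂ e e) • e := by
      refine sub_eq_zero.mp (hs.eq_zero_of_perp (n := 3) (p := ![c + d, c - d, e]) ⟨fun i => ?_, fun i j hij => ?_⟩
        hb3.symm fun i => ?_)
      · fin_cases i
        · show f₂ (c + d) (c + d) ≠ 0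
          simp only [hs.b2.add_left, hs.b2.add_right, hc, hd, hdc, hs.symm2 c d, zero_add, add_zero]
          exact fun h => hs.two (by linear_combination h)
        · show f₂ (c - d) (c - d) ≠ 0
          simp only [bl_sub_left hs.b2, bl_sub_right hs.b2, hc, hd, hdc, hs.symm2 c d, zero_sub, sub_zero]
          exact fun h => hs.two (by linear_combination -h)
        · exact he
      · fin_cases i <;> fin_cases j <;> first
          | exact absurd rfl hij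
          | simp [hs.b2.add_left, hs.b2.add_right, bl_sub_left hs.b2, bl_sub_right hs.b2, hc, hd, hdc,
              hs.symm2 c d, hs.symm2 c e, hs.symm2 d e, hec, hed]
      · fin_cases i <;>
          simp [hs.b2.add_left, hs.b2.add_right, bl_sub_left hs.b2, bl_sub_right hs.b2, hs.b2.smul_left, hc, hd,
            hdc, hs.symm2 c d, hs.symm2 c e, hs.symm2 d e, hec, hed, he] <;>
          ring
    have e1 : f₂ w c = α * f₂ w d := by
      rw [he', bl_sub_right hs.b2, hs.b2.smul_right] at h1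
      linear_combination h1
    have hq : 2 * α * f₂ w d * f₂ w d * f₂ e e + f₂ w e * f₂ w e = 0 := by
      have h3 : f₂ w e / f₂ e e * f₂ e e = f₂ w e := div_mul_cancel₀ _ he
      have h5 : f₂ w w = f₂ w d * f₂ w c + f₂ w c * f₂ w d + f₂ w e / f₂ e e * f₂ w e := by
        conv_lhs => arg 2; rw [hrest]
        simp only [hs.b2.add_right, hs.b2.smul_right]
      rw [h5, e1] at h2
      linear_combination f₂ e e * h2 - f₂ w e * h3
    have hwd : f₂ w d = 0 := by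
      by_contra h0
      refine hν ⟨f₂ w e / f₂ w d, ?_⟩
      field_simp
      linear_combination -hq + f₂ w d ^ 2 * hαv
    have hwe : f₂ w e = 0 := mul_self_eq_zero.mp (by rw [hwd] at hq; linear_combination hq)
    rw [hrest, e1, hwd, hwe, mul_zero, zero_smul, zero_smul, zero_div, zero_smul, add_zero, add_zero]
  refine dihedral_contra (L := 𝕃) (Y := M) (r := krG ((1 : GL (Fin a) F), rfl' f₂ e))
    (s := krG ((1 : GL (Fin a) F), rfl' f₂ e')) (g := g) (hs.rflK_sq he) (hs.rflK_sq he'0)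
    (hLM (hs.rflK_mem he)) (hLM (hs.rflK_mem he'0)) hg ?_
    (fun h => hgL (hs.top_refl ha hb hLM hM hG hg he'0 h))
    (fun x hx h => hs.top_refl_cent ha hb hLM hM hG he hx h)
    (fun x hx h => hs.top_refl_cent ha hb hLM hM hG he'0 hx h)
    (fun h => hgL (by
      have := hs.top_refl ha hb hLM hM hG (M.inv_mem hg) he (by rwa [inv_inv])
      simpa using (𝕃).inv_mem this))
    (fun c' _ hcL h1 h2 _ ⟨h, hh, hch⟩ x hx hxc => hs.top_key ha hb hLM hM hG (hs.rfl2_mem he) (hs.rfl2_sq he)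
      (fun _ : Fin 1 => e) (fun w hw => hs.rfl2_fix he (hw 0)) (by omega) he hcL h1 h2 hh hch hx hxc)
    (fun c' _ hcL h1 h2 _ ⟨h, hh, hch⟩ x hx hxc => hs.top_key ha hb hLM hM hG (hs.rfl2_mem he'0) (hs.rfl2_sq he'0)
      (fun _ : Fin 1 => e') (fun w hw => hs.rfl2_fix he'0 (hw 0)) (by omega) he hcL h1 h2 hh hch hx hxc)
  intro h hh hconj
  have hhL := hs.top_refl ha hb hLM hM hG hh he (hconj ▸ hs.rflK_mem he'0)
  obtain ⟨S, T, μ, hμ, hhST, -, hTμ⟩ := hs.tens_cases (by omega) hhL (by omega)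
  rw [hhST, hs.krG_conj, hs.conj_rfl (inv_ne_zero hμ) hTμ he] at hconj
  have himg := congrArg img (krG_one_inj (by omega) hconj)
  rw [hs.img_rfl (by rw [hTμ]; exact mul_ne_zero (inv_ne_zero hμ) he), hs.img_rfl he'0] at himg
  obtain ⟨l, hl⟩ := Submodule.mem_span_singleton.mp
    (himg.symm ▸ Submodule.mem_span_singleton_self e' : e' ∈ Submodule.span F {(T : Matrix (Fin b) (Fin b) F) *ᵥ e})
  have hTc := hplane ((T : Matrix (Fin b) (Fin b) F) *ᵥ c)
    (by rw [← hl, hs.b2.smul_right, hTμ, hs.symm2 c e, hec, mul_zero, mul_zero])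
    (by rw [hTμ, hc, mul_zero])
  exact hc0 (gl_mulVec_inj T (by rw [hTc, mulVec_zero]))

/-- From dimension four on all conjugates of plane involutions lie in the stabiliser. -/
theorem plane_mem (hb4 : 4 ≤ b) {e₁ e₂ : Fin b → F} (he₁ : f₂ e₁ e₁ ≠ 0) (he₂ : f₂ e₂ e₂ ≠ 0)
    (h12 : f₂ e₁ e₂ = 0) {g : GL (Idx a b) F} (hg : g ∈ M) :
    g * krG ((1 : GL (Fin a) F), rfl' f₂ e₁ * rfl' f₂ e₂) * g⁻¹ ∈ 𝕃 := by
  obtain ⟨hz, hz2, hz1, hzfix⟩ := hs.plane_props he₁ he₂ h12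
  set z := rfl' f₂ e₁ * rfl' f₂ e₂ with hzdef
  by_contra hzL
  have hgL : g ∉ 𝕃 := fun h => hzL
    ((𝕃).mul_mem ((𝕃).mul_mem h (hs.krG_mem (Subgroup.one_mem _) hz)) ((𝕃).inv_mem h))
  obtain ⟨k₀, hk₀, hk₀p⟩ := hs.exists_ne_perp ![e₁, e₂] (by omega)
  have hCz : ∀ x ∈ M, x * krG ((1 : GL (Fin a) F), z) = krG ((1 : GL (Fin a) F), z) * x → x ∈ 𝕃 :=
    fun x hx h => hs.top_cent ha hb hLM hM hG hx hz hz2 hz1 hk₀ (hzfix _ (hk₀p 0) (hk₀p 1)) h
  have hze : ∀ i : Fin 2, (z : Matrix (Fin b) (Fin b) F) *ᵥ (![e₁, e₂] i) = -(![e₁, e₂] i) := by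
    intro i
    fin_cases i
    · show (z : Matrix (Fin b) (Fin b) F) *ᵥ e₁ = -e₁
      rw [hzdef, gl_mul_mulVec, hs.rfl2_fix he₂ h12, hs.rfl2_self he₁]
    · show (z : Matrix (Fin b) (Fin b) F) *ᵥ e₂ = -e₂
      rw [hzdef, gl_mul_mulVec, hs.rfl2_self he₂, mulVec_neg, hs.rfl2_fix he₁ (by rw [hs.symm2, h12])]
  refine dihedral_contra (L := 𝕃) (Y := M) (r := krG ((1 : GL (Fin a) F), rfl' f₂ e₁))
    (s := krG ((1 : GL (Fin a) F), z)) (g := g) (hs.rflK_sq he₁)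
    (by rw [← map_mul, Prod.mk_mul_mk, one_mul, hz2, Prod.mk_one_one, map_one])
    (hLM (hs.rflK_mem he₁)) (hLM (hs.krG_mem (Subgroup.one_mem _) hz)) hg ?_ hzL
    (fun x hx h => hs.top_refl_cent ha hb hLM hM hG he₁ hx h) hCz
    (fun h => hgL (by
      have := hs.top_refl ha hb hLM hM hG (M.inv_mem hg) he₁ (by rwa [inv_inv])
      simpa using (𝕃).inv_mem this))
    (fun c' _ hcL h1 h2 _ ⟨h, hh, hch⟩ x hx hxc => hs.top_key ha hb hLM hM hG (hs.rfl2_mem he₁) (hs.rfl2_sq he₁)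
      (fun _ : Fin 1 => e₁) (fun w hw => hs.rfl2_fix he₁ (hw 0)) (by omega) he₁ hcL h1 h2 hh hch hx hxc)
    (fun c' _ hcL h1 h2 _ ⟨h, hh, hch⟩ x hx hxc => hs.top_key ha hb hLM hM hG hz hz2
      ![e₁, e₂] (fun w hw => hzfix w (hw 0) (hw 1)) (by omega) he₁ hcL h1 h2 hh hch hx hxc)
  intro h hh hconj
  have h1 := finrank_img_conj h (krG ((1 : GL (Fin a) F), rfl' f₂ e₁))
  rw [hconj, img_one_kron, img_one_kron, TensorUnitary.finrank_rowsIn, TensorUnitary.finrank_rowsIn,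
    hs.img_rfl he₁, finrank_span_singleton (fun h => he₁ (by rw [h, bl_zero_left hs.b2]))] at h1
  have h2 : 2 ≤ Module.finrank F (img z) := by
    have hli : LinearIndependent F ![e₁, e₂] := hs.orth_linearIndependent ⟨fun i => by fin_cases i <;> assumption,
      fun i j hij => by
        fin_cases i <;> fin_cases j <;> first | exact absurd rfl hij | exact h12 | (rw [hs.symm2]; exact h12)⟩
    have hsub : Submodule.span F (Set.range ![e₁, e₂]) ≤ img z := by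
      rw [Submodule.span_le]
      rintro _ ⟨i, rfl⟩
      refine mem_img.mpr ⟨(-2⁻¹ : F) • ![e₁, e₂] i, ?_⟩
      rw [mulVec_smul, hze, smul_neg, neg_smul, neg_neg, sub_neg_eq_add, ← add_smul,
        show (2⁻¹ : F) + 2⁻¹ = 1 by rw [← two_mul, mul_inv_cancel₀ hs.two], one_smul]
    have := Submodule.finrank_mono hsub
    rwa [finrank_span_eq_card hli, Fintype.card_fin] at this
  have h3 := Nat.eq_of_mul_eq_mul_left (by omega : 0 < a) h1
  omega

end Setting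

end CfsgLib.TensorSympOrth
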