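import Cfsg.Agent.TensorSympOrth.Slice
import Cfsg.Agent.TensorSympOrth.Step

/-!
# Central elements of the stabiliser of a slice in the symplectic factor
-/

set_option autoImplicit false
set_option linter.unusedSectionVars false

namespace CfsgLib.TensorSympOrth

open Matrix Cfsg.Geo CfsgLib.MaxSub CfsgLib.TensorMax
open CfsgLib.TensorUnitary (form ev isom pMat)
open scoped Kronecker

variable {F : Type*} [Field F] {a b : ℕ}

/-- `g = 1 + P_u ⊗ B`. -/
def IsCentU (f₁ : (Fin a → F) → (Fin a → F) → F) (u : Fin a → F) (g : GL (Idx a b) F)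
    (B : Matrix (Fin b) (Fin b) F) : Prop :=
  ∀ v, (g : Matrix (Idx a b) (Idx a b) F) *ᵥ v = v + ten u (B *ᵥ evU f₁ u v)

/-- The matrices of the central elements in `M`. -/
def CB (f₁ : (Fin a → F) → (Fin a → F) → F) (M : Subgroup (GL (Idx a b) F)) (u : Fin a → F)
    (B : Matrix (Fin b) (Fin b) F) : Prop :=
  ∃ g ∈ M, IsCentU f₁ u g B

namespace Setting

variable {f₁ : (Fin a → F) → (Fin a → F) → F} {f₂ : (Fin b → F) → (Fin b → F) → F}
  (hs : Setting f₁ f₂) {M : Subgroup (GL (Idx a b) F)}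
include hs

local notation "Φ" => form f₁ f₂
local notation "𝕃" => tensSO f₁ f₂

theorem evU_one_kron (u : Fin a → F) (B : Matrix (Fin b) (Fin b) F) (v : Idx a b → F) :
    evU f₁ u (((1 : Matrix (Fin a) (Fin a) F) ⊗ₖ B) *ᵥ v) = B *ᵥ evU f₁ u v := by
  induction v using TensorUnitary.ten_induction with
  | hadd v w hv hw => rw [mulVec_add, hs.evU_add, hv, hw, hs.evU_add, mulVec_add]
  | h0 => rw [mulVec_zero, hs.evU_zero, mulVec_zero]
  | h x y => rw [kron_mulVec_ten, one_mulVec, hs.evU_ten, hs.evU_ten, mulVec_smul]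

theorem evU_kron_one {S : GL (Fin a) F} (hS : S ∈ isom f₁) (u : Fin a → F) (v : Idx a b → F) :
    evU f₁ ((S : Matrix (Fin a) (Fin a) F) *ᵥ u) (((S : Matrix (Fin a) (Fin a) F) ⊗ₖ
      (1 : Matrix (Fin b) (Fin b) F)) *ᵥ v) = evU f₁ u v := by
  induction v using TensorUnitary.ten_induction with
  | hadd v w hv hw => rw [mulVec_add, hs.evU_add, hv, hw, hs.evU_add]
  | h0 => rw [mulVec_zero, hs.evU_zero, hs.evU_zero]
  | h x y => rw [kron_mulVec_ten, one_mulVec, hs.evU_ten, hs.evU_ten, hS]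

theorem evU_smul_right (k : F) (u : Fin a → F) (v : Idx a b → F) :
    evU f₁ (k • u) v = k • evU f₁ u v := funext fun _ => hs.b1.smul_right _ _ _

theorem cb_add {u : Fin a → F} {B B' : Matrix (Fin b) (Fin b) F} (h : CB f₁ M u B) (h' : CB f₁ M u B') :
    CB f₁ M u (B + B') := by
  obtain ⟨g, hg, hgB⟩ := h
  obtain ⟨g', hg', hgB'⟩ := h'
  refine ⟨g * g', M.mul_mem hg hg', fun v => ?_⟩
  rw [gl_mul_mulVec, hgB', hgB, hs.evU_add, hs.evU_ten, hs.alt1, zero_smul, add_zero, add_mulVec,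
    ten_add_right]
  abel

theorem cb_neg {u : Fin a → F} {B : Matrix (Fin b) (Fin b) F} (h : CB f₁ M u B) : CB f₁ M u (-B) := by
  obtain ⟨g, hg, hgB⟩ := h
  refine ⟨g⁻¹, M.inv_mem hg, fun v => gl_mulVec_inj g ?_⟩
  rw [gl_mulVec_inv, hgB, hs.evU_add, hs.evU_ten, hs.alt1, zero_smul, add_zero, neg_mulVec,
    ← neg_one_smul F (B *ᵥ evU f₁ u v), ten_smul_right, neg_one_smul, neg_add_cancel_right]

theorem cb_sub {u : Fin a → F} {B B' : Matrix (Fin b) (Fin b) F} (h : CB f₁ M u B) (h' : CB f₁ M u B') :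
    CB f₁ M u (B - B') := by
  rw [sub_eq_add_neg]
  exact hs.cb_add h (hs.cb_neg h')

theorem cb_conj (hLM : 𝕃 ≤ M) {u : Fin a → F} {B : Matrix (Fin b) (Fin b) F} (h : CB f₁ M u B)
    {T : GL (Fin b) F} (hT : T ∈ isom f₂) :
    CB f₁ M u ((T : Matrix (Fin b) (Fin b) F) * B * ((T⁻¹ : GL (Fin b) F) : Matrix (Fin b) (Fin b) F)) := by
  obtain ⟨g, hg, hgB⟩ := h
  have hK := hs.krG_mem (Subgroup.one_mem (isom f₁)) hT
  refine ⟨_, M.mul_mem (M.mul_mem (hLM hK) hg) (M.inv_mem (hLM hK)), fun v => ?_⟩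
  rw [gl_mul_mulVec, gl_mul_mulVec, hgB, mulVec_add, gl_mulVec_inv, krG_val, kron_mulVec_ten,
    ← map_inv, Prod.inv_mk, inv_one, krG_val, Units.val_one, one_mulVec, hs.evU_one_kron, ← mulVec_mulVec,
    ← mulVec_mulVec]

theorem cb_scale (hLM : 𝕃 ≤ M) {u : Fin a → F} (hu : u ≠ 0) {B : Matrix (Fin b) (Fin b) F}
    (h : CB f₁ M u B) {z : F} (hz : z ≠ 0) : CB f₁ M u ((z * z) • B) := by
  obtain ⟨g, hg, hgB⟩ := h
  obtain ⟨S, hS, hSu⟩ := hs.exists_move1 hu (smul_ne_zero hz hu)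
  have hK := hs.krG_mem hS (Subgroup.one_mem (isom f₂))
  refine ⟨_, M.mul_mem (M.mul_mem (hLM hK) hg) (M.inv_mem (hLM hK)), fun v => ?_⟩
  have h1 : evU f₁ u (((krG (S, (1 : GL (Fin b) F)))⁻¹ : GL (Idx a b) F).val *ᵥ v) = z • evU f₁ u v := by
    rw [← hs.evU_kron_one hS, hSu, hs.evU_smul_right]
    congr 2
    rw [show (S : Matrix (Fin a) (Fin a) F) ⊗ₖ (1 : Matrix (Fin b) (Fin b) F)
      = (krG (S, (1 : GL (Fin b) F)) : Matrix (Idx a b) (Idx a b) F) by rw [krG_val, Units.val_one],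
      gl_mulVec_inv]
  rw [gl_mul_mulVec, gl_mul_mulVec, hgB, h1, mulVec_add, gl_mulVec_inv, krG_val, kron_mulVec_ten, hSu,
    Units.val_one, one_mulVec, mulVec_smul, ten_smul_left, ← ten_smul_right, smul_mulVec, smul_smul]

theorem cb_symm {u : Fin a → F} (hu : u ≠ 0) (hM : M ≤ isom Φ) {B : Matrix (Fin b) (Fin b) F}
    (h : CB f₁ M u B) (x y : Fin b → F) : f₂ (B *ᵥ x) y = f₂ x (B *ᵥ y) := by
  obtain ⟨g, hg, hgB⟩ := h
  obtain ⟨z, hz⟩ := (hs.n1 u hu).1
  have h1 := hM hg (ten z x) (ten z y)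
  rw [hgB, hgB, hs.evU_ten, hs.evU_ten, mulVec_smul, mulVec_smul, ten_smul_right, ten_smul_right,
    hs.bf.add_left, hs.bf.add_right, hs.bf.add_right, hs.bf.smul_left, hs.bf.smul_left, hs.bf.smul_right,
    hs.bf.smul_right, hs.form_ten_ten, hs.form_ten_ten, hs.form_ten_ten, hs.form_ten_ten, hs.alt1 u,
    hs.skew1 u z] at h1
  have h2 : f₁ z u * f₁ z u * (f₂ x (B *ᵥ y) - f₂ (B *ᵥ x) y) = 0 := by linear_combination h1
  exact (sub_eq_zero.mp ((mul_eq_zero.mp h2).resolve_left (mul_ne_zero hz hz))).symm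

variable [Fintype F]

/-- A non-zero member killing an isotropic vector gives all centres. -/
theorem cb_slice (ha : 0 < a) (hb : 3 ≤ b) (hLM : 𝕃 ≤ M) (hM : M ≤ isom Φ) {u : Fin a → F} (hu : u ≠ 0)
    {B : Matrix (Fin b) (Fin b) F} (h : CB f₁ M u B) (hB : B ≠ 0) {c : Fin b → F} (hc0 : c ≠ 0)
    (hc : f₂ c c = 0) (hBc : B *ᵥ c = 0) (v : Idx a b → F) : IsCen Φ M v := by
  obtain ⟨g, hg, hgB⟩ := h
  have hfix : ∀ x, (g : Matrix (Idx a b) (Idx a b) F) *ᵥ ten x c = ten x c := fun x => by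
    rw [hgB, hs.evU_ten, mulVec_smul, hBc, smul_zero, ten_zero_right, add_zero]
  refine hs.cen_of_slice ha hb hLM hM hc0 hc hg (fun hgL => hB ?_) hfix v
  obtain ⟨T, -, hgT, -⟩ := hs.eq_one_kron ha hgL hc0 hfix
  have hT : ∀ w, (T : Matrix (Fin b) (Fin b) F) *ᵥ w = w := fun w => ten_inj_right hu (by
    have h1 := hgB (ten u w)
    rwa [hs.evU_ten, hs.alt1, zero_smul, mulVec_zero, ten_zero_right, add_zero, hgT, krG_val, kron_mulVec_ten,
      Units.val_one, one_mulVec] at h1)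
  obtain ⟨z, hz⟩ := (hs.n1 u hu).1
  refine Matrix.ext_iff_mulVec.mpr fun w => ?_
  have h1 := hgB (ten z w)
  rw [hgT, krG_val, kron_mulVec_ten, Units.val_one, one_mulVec, hT, hs.evU_ten, mulVec_smul, left_eq_add,
    ten_eq_zero, smul_eq_zero] at h1
  rw [zero_mulVec]
  exact (h1.resolve_left hu).resolve_left hz

theorem rfl2_conj_mulVec {e : Fin b → F} (he : f₂ e e ≠ 0) (B : Matrix (Fin b) (Fin b) F) (x : Fin b → F) :
    ((rfl' f₂ e : Matrix (Fin b) (Fin b) F) * B * (((rfl' f₂ e)⁻¹ : GL (Fin b) F) : Matrix (Fin b) (Fin b) F))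
      *ᵥ x = (rfl' f₂ e : Matrix (Fin b) (Fin b) F) *ᵥ (B *ᵥ ((rfl' f₂ e : Matrix (Fin b) (Fin b) F) *ᵥ x)) := by
  rw [inv_eq_of_mul_eq_one_right (hs.rfl2_sq he), ← mulVec_mulVec, ← mulVec_mulVec]

/-- Dimension four, with a vector that is no eigenvector. -/
theorem cb_four_core (ha : 0 < a) (hb : b = 4) (hLM : 𝕃 ≤ M) (hM : M ≤ isom Φ) {u : Fin a → F} (hu : u ≠ 0)
    {B : Matrix (Fin b) (Fin b) F} (h : CB f₁ M u B) {p : Fin 2 → Fin b → F} (hp : IsOrth f₂ p)
    (hBp : ∀ i, B *ᵥ p i = 0) {k : Fin b → F} (hk : f₂ k k ≠ 0) (hkp : ∀ i, f₂ k (p i) = 0)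
    (hne : ∀ γ : F, B *ᵥ k ≠ γ • k) (v : Idx a b → F) : IsCen Φ M v := by
  classical
  have hsy := hs.cb_symm hu hM h
  have hB0 : B ≠ 0 := fun h0 => hne 0 (by rw [h0, zero_mulVec, zero_smul])
  have hImp : ∀ x i, f₂ (B *ᵥ x) (p i) = 0 := fun x i => by rw [hsy, hBp, bl_zero_right hs.b2]
  have hp01 : f₂ (p 0) (p 1) = 0 := hp.2 0 1 (by decide)
  obtain ⟨k', hk', hk'p⟩ := hs.exists_ne_perp (Fin.snoc p (B *ᵥ k) : Fin 3 → Fin b → F) (by omega)
  have hk'P : ∀ i, f₂ k' (p i) = 0 := fun i => by simpa only [Fin.snoc_castSucc] using hk'p i.castSucc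
  have hk'B : f₂ k' (B *ᵥ k) = 0 := by simpa only [Fin.snoc_last] using hk'p (Fin.last 2)
  have hodd : Fintype.card F % 2 = 1 := FiniteField.odd_card_of_char_ne_two fun h => hs.two (by
    have : CharP F 2 := ringChar.of_eq h
    exact CharTwo.two_eq_zero)
  by_cases hBk' : B *ᵥ k' = 0
  · -- an isotropic vector in the kernel
    obtain ⟨α, β, hαβ⟩ := exists_sq_add_sq (Nat.odd_iff.mpr hodd) (hp.1 0) (hp.1 1) (-(f₂ k' k'))
    refine hs.cb_slice ha (by omega) hLM hM hu h hB0 (c := k' + (α • p 0 + β • p 1)) ?_ ?_ ?_ v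
    · intro h0
      refine hk' (hs.eq_zero_of_perp (n := 4)
        (p := Fin.snoc (Fin.snoc p k : Fin 3 → Fin b → F) (B *ᵥ k - (f₂ (B *ᵥ k) k / f₂ k k) • k))
        ?_ hb.symm ?_)
      · refine hs.orth_snoc (hs.orth_snoc hp hk hkp) ?_ ?_
        · intro hz
          obtain ⟨k₂, hk₂, hk₂p⟩ := hs.exists_aniso_perp (hs.orth_snoc hp hk hkp) (by omega)
          have hzk : f₂ (B *ᵥ k - (f₂ (B *ᵥ k) k / f₂ k k) • k) k = 0 := by
            rw [bl_sub_left hs.b2, hs.b2.smul_left, div_mul_cancel₀ _ hk, sub_self]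
          refine hne (f₂ (B *ᵥ k) k / f₂ k k) (sub_eq_zero.mp ?_)
          set z := B *ᵥ k - (f₂ (B *ᵥ k) k / f₂ k k) • k with hzdef
          have hzp : ∀ i, f₂ z (p i) = 0 := fun i => by
            rw [hzdef, bl_sub_left hs.b2, hs.b2.smul_left, hImp, hkp, mul_zero, sub_zero]
          have hz2 : z = (f₂ z k₂ / f₂ k₂ k₂) • k₂ := sub_eq_zero.mp (hs.eq_zero_of_perp (n := 4)
            (hs.orth_snoc (hs.orth_snoc hp hk hkp) hk₂ hk₂p) hb.symm fun i => by
              induction i using Fin.lastCases with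
              | last => rw [Fin.snoc_last, bl_sub_left hs.b2, hs.b2.smul_left, div_mul_cancel₀ _ hk₂, sub_self]
              | cast i =>
                rw [Fin.snoc_castSucc, bl_sub_left hs.b2, hs.b2.smul_left, hk₂p, mul_zero, sub_zero]
                induction i using Fin.lastCases with
                | last => rw [Fin.snoc_last]; exact hzk
                | cast i => rw [Fin.snoc_castSucc]; exact hzp i)
          have hz3 : f₂ z z = f₂ z k₂ / f₂ k₂ k₂ * f₂ z k₂ := by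
            conv_lhs => arg 2; rw [hz2]
            rw [hs.b2.smul_right]
          rw [hz, eq_comm, mul_eq_zero, div_eq_zero_iff, or_iff_left hk₂, or_self] at hz3
          rw [hz2, hz3, zero_div, zero_smul]
        · intro i
          induction i using Fin.lastCases with
          | last => rw [Fin.snoc_last, bl_sub_left hs.b2, hs.b2.smul_left, div_mul_cancel₀ _ hk, sub_self]
          | cast i =>
            rw [Fin.snoc_castSucc, bl_sub_left hs.b2, hs.b2.smul_left, hImp, hkp, mul_zero, sub_zero]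
      · have hk'k : f₂ k' k = 0 := by
          have e : f₂ (k' + (α • p 0 + β • p 1)) k = 0 := by rw [h0, bl_zero_left hs.b2]
          rw [hs.b2.add_left, hs.b2.add_left, hs.b2.smul_left, hs.b2.smul_left, hs.symm2 (p 0), hs.symm2 (p 1),
            hkp, hkp, mul_zero, mul_zero, add_zero, add_zero] at e
          exact e
        intro i
        induction i using Fin.lastCases with
        | last => rw [Fin.snoc_last, bl_sub_right hs.b2, hs.b2.smul_right, hk'B, hk'k, mul_zero, sub_zero]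
        | cast i =>
          rw [Fin.snoc_castSucc]
          induction i using Fin.lastCases with
          | last => rw [Fin.snoc_last]; exact hk'k
          | cast i => rw [Fin.snoc_castSucc]; exact hk'P i
    · simp only [hs.b2.add_left, hs.b2.add_right, hs.b2.smul_left, hs.b2.smul_right, hk'P, hp01,
        hs.symm2 (p 0) k', hs.symm2 (p 1) k', hs.symm2 (p 1) (p 0)]
      linear_combination hαβ
    · rw [mulVec_add, mulVec_add, mulVec_smul, mulVec_smul, hBp, hBp, hBk', smul_zero, smul_zero, add_zero,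
        add_zero]
  -- the isotropic vector orthogonal to a reflecting vector
  have hk'k : f₂ k' k ≠ 0 := by
    intro h0
    obtain ⟨k₂, hk₂, hk₂p⟩ := hs.exists_aniso_perp (hs.orth_snoc hp hk hkp) (by omega)
    have hbasis := hs.orth_snoc (hs.orth_snoc hp hk hkp) hk₂ hk₂p
    have hk₂k : f₂ k₂ k = 0 := by simpa only [Fin.snoc_last] using hk₂p (Fin.last 2)
    have hk₂P : ∀ i, f₂ k₂ (p i) = 0 := fun i => by simpa only [Fin.snoc_castSucc] using hk₂p i.castSucc
    have hd : B *ᵥ k = (f₂ (B *ᵥ k) k / f₂ k k) • k + (f₂ (B *ᵥ k) k₂ / f₂ k₂ k₂) • k₂ :=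
      sub_eq_zero.mp (hs.eq_zero_of_perp (n := 4) hbasis hb.symm fun i => by
        induction i using Fin.lastCases with
        | last =>
          rw [Fin.snoc_last, bl_sub_left hs.b2, hs.b2.add_left, hs.b2.smul_left, hs.b2.smul_left,
            hs.symm2 k k₂, hk₂k, div_mul_cancel₀ _ hk₂, mul_zero, zero_add, sub_self]
        | cast i =>
          rw [Fin.snoc_castSucc]
          induction i using Fin.lastCases with
          | last =>
            rw [Fin.snoc_last, bl_sub_left hs.b2, hs.b2.add_left, hs.b2.smul_left, hs.b2.smul_left, hk₂k,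
              div_mul_cancel₀ _ hk, mul_zero, add_zero, sub_self]
          | cast i =>
            rw [Fin.snoc_castSucc, bl_sub_left hs.b2, hs.b2.add_left, hs.b2.smul_left, hs.b2.smul_left,
              hImp, hkp, hk₂P, mul_zero, mul_zero, add_zero, sub_zero])
    have hδ : f₂ (B *ᵥ k) k₂ ≠ 0 := fun hz => hne (f₂ (B *ᵥ k) k / f₂ k k) (by
      conv_lhs => rw [hd]
      rw [hz, zero_div, zero_smul, add_zero])
    have hk₂0 : f₂ k' k₂ = 0 := by
      have e := hk'B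
      rw [hd, hs.b2.add_right, hs.b2.smul_right, hs.b2.smul_right, h0, mul_zero, zero_add] at e
      exact (mul_eq_zero.mp e).resolve_left (div_ne_zero hδ hk₂)
    refine hk' (hs.eq_zero_of_perp (n := 4) hbasis hb.symm fun i => ?_)
    induction i using Fin.lastCases with
    | last => rw [Fin.snoc_last]; exact hk₂0
    | cast i =>
      rw [Fin.snoc_castSucc]
      induction i using Fin.lastCases with
      | last => rw [Fin.snoc_last]; exact h0
      | cast i => rw [Fin.snoc_castSucc]; exact hk'P i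
  obtain ⟨α, β, hαβ⟩ := exists_sq_add_sq (Nat.odd_iff.mpr hodd) (hp.1 0) (hp.1 1) (-(f₂ k k))
  obtain ⟨p', hp'⟩ : ∃ p', p' = α • p 0 + β • p 1 := ⟨_, rfl⟩
  obtain ⟨pp, hpp⟩ : ∃ pp, pp = (-(β * f₂ (p 1) (p 1))) • p 0 + (α * f₂ (p 0) (p 0)) • p 1 := ⟨_, rfl⟩
  have hperp : ∀ w, (∀ i, f₂ w (p i) = 0) → f₂ w p' = 0 ∧ f₂ w pp = 0 := fun w hw => by
    simp [hp', hpp, hs.b2.add_right, hs.b2.smul_right, bl_neg_right hs.b2, hw]
  have ep' : f₂ p' p' = -(f₂ k k) := by
    simp only [hp', hs.b2.add_left, hs.b2.add_right, hs.b2.smul_left, hs.b2.smul_right, hp01,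
      hs.symm2 (p 1) (p 0)]
    linear_combination hαβ
  have epp : f₂ pp pp = f₂ (p 0) (p 0) * f₂ (p 1) (p 1) * -(f₂ k k) := by
    simp only [hpp, hs.b2.add_left, hs.b2.add_right, hs.b2.smul_left, hs.b2.smul_right, hp01,
      hs.symm2 (p 1) (p 0)]
    linear_combination f₂ (p 0) (p 0) * f₂ (p 1) (p 1) * hαβ
  have epq : f₂ p' pp = 0 := by
    simp only [hp', hpp, hs.b2.add_left, hs.b2.add_right, hs.b2.smul_left, hs.b2.smul_right, hp01,
      hs.symm2 (p 1) (p 0)]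
    ring
  have hBp' : B *ᵥ p' = 0 ∧ B *ᵥ pp = 0 := by simp [hp', hpp, mulVec_add, mulVec_smul, mulVec_neg, hBp]
  obtain ⟨ck1, ck2⟩ := hperp k hkp
  obtain ⟨ck1', ck2'⟩ := hperp k' hk'P
  set l := f₂ k' k / f₂ k k with hl
  have hl0 : l ≠ 0 := div_ne_zero hk'k hk
  have hlk : l * f₂ k k = f₂ k' k := div_mul_cancel₀ _ hk
  obtain ⟨μ, he⟩ : ∃ μ : F, f₂ (k' + l • p' + μ • pp) (k' + l • p' + μ • pp) ≠ 0 := by
    by_contra hcon
    push Not at hcon
    have h0 := hcon 0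
    have h1 := hcon 1
    simp only [hs.b2.add_left, hs.b2.add_right, hs.b2.smul_left, hs.b2.smul_right, ck1', ck2', epq,
      hs.symm2 p' k', hs.symm2 pp k', hs.symm2 pp p'] at h0 h1
    have hpp0 : f₂ pp pp ≠ 0 := by
      rw [epp]
      exact mul_ne_zero (mul_ne_zero (hp.1 0) (hp.1 1)) (neg_ne_zero.mpr hk)
    refine hpp0 ?_
    linear_combination h1 - h0
  set e := k' + l • p' + μ • pp with hedef
  have her : f₂ (k + p') e = 0 := by
    simp only [hedef, hs.b2.add_left, hs.b2.add_right, hs.b2.smul_right, ck1, ck2, epq, ep',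
      hs.symm2 p' k', ck1', hs.symm2 k k']
    linear_combination -hlk
  have heB : f₂ (B *ᵥ k) e = 0 := by
    simp only [hedef, hs.b2.add_right, hs.b2.smul_right, hs.symm2 (B *ᵥ k) k', hk'B,
      (hperp _ (hImp k)).1, (hperp _ (hImp k)).2, mul_zero, add_zero]
  have hBe : B *ᵥ e = B *ᵥ k' := by
    rw [hedef, mulVec_add, mulVec_add, mulVec_smul, mulVec_smul, hBp'.1, hBp'.2, smul_zero, smul_zero,
      add_zero, add_zero]
  refine hs.cb_slice ha (by omega) hLM hM hu (hs.cb_sub h (hs.cb_conj hLM h (hs.rfl2_mem he))) ?_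
    (c := k + p') ?_ ?_ ?_ v
  · intro h0
    have h1 := congrArg (fun A : Matrix (Fin b) (Fin b) F => A *ᵥ e) h0
    simp only [sub_mulVec, hs.rfl2_conj_mulVec he, hs.rfl2_self he, mulVec_neg, zero_mulVec] at h1
    rw [hs.rfl2_mulVec he] at h1
    obtain ⟨γ, hγ⟩ : ∃ γ : F, B *ᵥ e = γ • e := ⟨2⁻¹ * (2 / f₂ e e * f₂ (B *ᵥ e) e), by
      rw [mul_smul]
      refine (eq_inv_smul_iff₀ hs.two).mpr ?_
      linear_combination (norm := module) h1⟩
    have h2 := (hperp _ (hImp e)).1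
    rw [hγ, hs.b2.smul_left] at h2
    have hep : f₂ e p' = -(f₂ k' k) := by
      simp only [hedef, hs.b2.add_left, hs.b2.smul_left, ck1', ep', hs.symm2 pp p', epq]
      linear_combination -hlk
    rw [hep] at h2
    rw [(mul_eq_zero.mp h2).resolve_right (neg_ne_zero.mpr hk'k), zero_smul, hBe] at hγ
    exact hBk' hγ
  · intro h0
    refine hk ?_
    have e1 : f₂ (k + p') k = 0 := by rw [h0, bl_zero_left hs.b2]
    rw [hs.b2.add_left, hs.symm2 p' k, ck1, add_zero] at e1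
    exact e1
  · rw [hs.b2.add_left, hs.b2.add_right, hs.b2.add_right, ck1, hs.symm2 p' k, ck1, ep']
    ring
  · rw [sub_mulVec, hs.rfl2_conj_mulVec he, hs.rfl2_fix he her,
      show B *ᵥ (k + p') = B *ᵥ k by rw [mulVec_add, hBp'.1, add_zero], hs.rfl2_fix he heB, sub_self]

/-- Dimension four. -/
theorem cb_four (ha : 0 < a) (hb : b = 4) (hLM : 𝕃 ≤ M) (hM : M ≤ isom Φ) {u : Fin a → F} (hu : u ≠ 0)
    {B : Matrix (Fin b) (Fin b) F} (h : CB f₁ M u B) (hB : B ≠ 0) {p : Fin 2 → Fin b → F} (hp : IsOrth f₂ p)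
    (hBp : ∀ i, B *ᵥ p i = 0) (v : Idx a b → F) : IsCen Φ M v := by
  classical
  have hsy := hs.cb_symm hu hM h
  have hImp : ∀ x i, f₂ (B *ᵥ x) (p i) = 0 := fun x i => by rw [hsy, hBp, bl_zero_right hs.b2]
  obtain ⟨k, hk, hkp⟩ := hs.exists_aniso_perp hp (by omega)
  by_cases hne : ∀ γ : F, B *ᵥ k ≠ γ • k
  · exact hs.cb_four_core ha hb hLM hM hu h hp hBp hk hkp hne v
  push Not at hne
  obtain ⟨γ, hγ⟩ := hne
  have hodd : Fintype.card F % 2 = 1 := FiniteField.odd_card_of_char_ne_two fun h => hs.two (by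
    have : CharP F 2 := ringChar.of_eq h
    exact CharTwo.two_eq_zero)
  have hp01 : f₂ (p 0) (p 1) = 0 := hp.2 0 1 (by decide)
  obtain ⟨k₂, hk₂, hk₂p⟩ := hs.exists_aniso_perp (hs.orth_snoc hp hk hkp) (by omega)
  have hbasis := hs.orth_snoc (hs.orth_snoc hp hk hkp) hk₂ hk₂p
  have hk₂k : f₂ k₂ k = 0 := by simpa only [Fin.snoc_last] using hk₂p (Fin.last 2)
  have hk₂P : ∀ i, f₂ k₂ (p i) = 0 := fun i => by simpa only [Fin.snoc_castSucc] using hk₂p i.castSucc
  obtain ⟨γ₂, hγ₂⟩ : ∃ γ₂ : F, B *ᵥ k₂ = γ₂ • k₂ := ⟨f₂ (B *ᵥ k₂) k₂ / f₂ k₂ k₂,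
    sub_eq_zero.mp (hs.eq_zero_of_perp (n := 4) hbasis hb.symm fun i => by
      induction i using Fin.lastCases with
      | last => rw [Fin.snoc_last, bl_sub_left hs.b2, hs.b2.smul_left, div_mul_cancel₀ _ hk₂, sub_self]
      | cast i =>
        rw [Fin.snoc_castSucc, bl_sub_left hs.b2, hs.b2.smul_left, hk₂p, mul_zero, sub_zero]
        induction i using Fin.lastCases with
        | last => rw [Fin.snoc_last, hsy, hγ, hs.b2.smul_right, hk₂k, mul_zero]
        | cast i => rw [Fin.snoc_castSucc]; exact hImp _ i)⟩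
  obtain ⟨α, β, hαβ⟩ := exists_sq_add_sq (Nat.odd_iff.mpr hodd) (hp.1 0) (hp.1 1) (f₂ k k)
  obtain ⟨p', hp'⟩ : ∃ p', p' = α • p 0 + β • p 1 := ⟨_, rfl⟩
  obtain ⟨pp, hpp⟩ : ∃ pp, pp = (-(β * f₂ (p 1) (p 1))) • p 0 + (α * f₂ (p 0) (p 0)) • p 1 := ⟨_, rfl⟩
  have hperp : ∀ w, (∀ i, f₂ w (p i) = 0) → f₂ w p' = 0 ∧ f₂ w pp = 0 := fun w hw => by
    simp [hp', hpp, hs.b2.add_right, hs.b2.smul_right, bl_neg_right hs.b2, hw]
  have ep' : f₂ p' p' = f₂ k k := by
    simp only [hp', hs.b2.add_left, hs.b2.add_right, hs.b2.smul_left, hs.b2.smul_right, hp01,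
      hs.symm2 (p 1) (p 0)]
    linear_combination hαβ
  have epp : f₂ pp pp = f₂ (p 0) (p 0) * f₂ (p 1) (p 1) * f₂ k k := by
    simp only [hpp, hs.b2.add_left, hs.b2.add_right, hs.b2.smul_left, hs.b2.smul_right, hp01,
      hs.symm2 (p 1) (p 0)]
    linear_combination f₂ (p 0) (p 0) * f₂ (p 1) (p 1) * hαβ
  have epq : f₂ p' pp = 0 := by
    simp only [hp', hpp, hs.b2.add_left, hs.b2.add_right, hs.b2.smul_left, hs.b2.smul_right, hp01,
      hs.symm2 (p 1) (p 0)]
    ring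
  have hBp' : B *ᵥ p' = 0 ∧ B *ᵥ pp = 0 := by simp [hp', hpp, mulVec_add, mulVec_smul, mulVec_neg, hBp]
  obtain ⟨ck1, ck2⟩ := hperp k hkp
  obtain ⟨ck1', ck2'⟩ := hperp k₂ hk₂P
  by_cases hγ0 : γ = 0
  · -- an isotropic vector in the kernel
    obtain ⟨α', β', hαβ'⟩ := exists_sq_add_sq (Nat.odd_iff.mpr hodd) (hp.1 0) (hp.1 1) (-(f₂ k k))
    refine hs.cb_slice ha (by omega) hLM hM hu h hB (c := k + (α' • p 0 + β' • p 1)) ?_ ?_ ?_ v
    · intro h0
      have e1 : f₂ (k + (α' • p 0 + β' • p 1)) k = 0 := by rw [h0, bl_zero_left hs.b2]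
      rw [hs.b2.add_left, hs.b2.add_left, hs.b2.smul_left, hs.b2.smul_left, hs.symm2 (p 0), hs.symm2 (p 1),
        hkp, hkp, mul_zero, mul_zero, add_zero, add_zero] at e1
      exact hk e1
    · simp only [hs.b2.add_left, hs.b2.add_right, hs.b2.smul_left, hs.b2.smul_right, hkp, hp01,
        hs.symm2 (p 0) k, hs.symm2 (p 1) k, hs.symm2 (p 1) (p 0)]
      linear_combination hαβ'
    · rw [mulVec_add, mulVec_add, mulVec_smul, mulVec_smul, hBp, hBp, hγ, hγ0, smul_zero, smul_zero,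
        zero_smul, add_zero, add_zero]
  have hev : f₂ (k - p') (k - p') ≠ 0 := by
    rw [bl_sub_left hs.b2, bl_sub_right hs.b2, bl_sub_right hs.b2, hs.symm2 p' k, ck1, ep', sub_zero, zero_sub,
      sub_neg_eq_add, ← two_mul]
    exact mul_ne_zero hs.two hk
  have hsum : f₂ (k + p') (k + p') ≠ 0 := by
    rw [hs.b2.add_left, hs.b2.add_right, hs.b2.add_right, hs.symm2 p' k, ck1, ep', add_zero, zero_add,
      ← two_mul]
    exact mul_ne_zero hs.two hk
  set e := k - p' with hedef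
  have hρk : (rfl' f₂ e : Matrix (Fin b) (Fin b) F) *ᵥ k = p' := by
    have h3 : 2 / f₂ e e * f₂ k e = 1 := by
      rw [div_mul_eq_mul_div, div_eq_one_iff_eq hev, hedef, bl_sub_left hs.b2, bl_sub_right hs.b2,
        bl_sub_right hs.b2, hs.symm2 p' k, ck1, ep']
      ring
    rw [hs.rfl2_mulVec hev, h3, one_smul, hedef, sub_sub_cancel]
  have hρp : (rfl' f₂ e : Matrix (Fin b) (Fin b) F) *ᵥ p' = k := by
    conv_lhs => rw [← hρk, ← gl_mul_mulVec, hs.rfl2_sq hev, Units.val_one, one_mulVec]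
  have hρ₂ : ∀ w, f₂ w k = 0 → f₂ w p' = 0 → (rfl' f₂ e : Matrix (Fin b) (Fin b) F) *ᵥ w = w :=
    fun w h1 h2 => hs.rfl2_fix hev (by rw [hedef, bl_sub_right hs.b2, h1, h2, sub_zero])
  have hD : ∀ x, (B - (rfl' f₂ e : Matrix (Fin b) (Fin b) F) * B *
      (((rfl' f₂ e)⁻¹ : GL (Fin b) F) : Matrix (Fin b) (Fin b) F)) *ᵥ x
      = B *ᵥ x - (rfl' f₂ e : Matrix (Fin b) (Fin b) F) *ᵥ (B *ᵥ ((rfl' f₂ e : Matrix (Fin b) (Fin b) F) *ᵥ x)) :=
    fun x => by rw [sub_mulVec, hs.rfl2_conj_mulVec hev]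
  have hpk : f₂ pp k = 0 := by rw [hs.symm2, ck2]
  have hppp : f₂ pp p' = 0 := by rw [hs.symm2, epq]
  refine hs.cb_four_core ha hb hLM hM hu (hs.cb_sub h (hs.cb_conj hLM h (hs.rfl2_mem hev))) (p := ![k₂, pp])
    ⟨fun i => ?_, fun i j hij => ?_⟩ (fun i => ?_) (k := k + p') hsum (fun i => ?_) (fun γ' hc => ?_) v
  · fin_cases i
    · exact hk₂
    · show f₂ pp pp ≠ 0
      rw [epp]; exact mul_ne_zero (mul_ne_zero (hp.1 0) (hp.1 1)) hk
  · fin_cases i <;> fin_cases j <;> first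
      | exact absurd rfl hij
      | exact ck2'
      | (show f₂ pp k₂ = 0; rw [hs.symm2]; exact ck2')
  · fin_cases i
    · show _ *ᵥ k₂ = 0
      rw [hD, hρ₂ k₂ hk₂k ck1', hγ₂, mulVec_smul, hρ₂ k₂ hk₂k ck1', sub_self]
    · show _ *ᵥ pp = 0
      rw [hD, hρ₂ pp hpk hppp, hBp'.2, mulVec_zero, sub_self]
  · fin_cases i
    · show f₂ (k + p') k₂ = 0
      rw [hs.b2.add_left, hs.symm2 k, hk₂k, hs.symm2 p', ck1', add_zero]
    · show f₂ (k + p') pp = 0
      rw [hs.b2.add_left, ck2, epq, add_zero]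
  · rw [hD, mulVec_add, mulVec_add, hρk, hρp, mulVec_add, hγ, hBp'.1, add_zero, zero_add, mulVec_smul, hρk]
      at hc
    have h1 := congrArg (fun w => f₂ w k) hc
    have h2 := congrArg (fun w => f₂ w p') hc
    simp only [bl_sub_left hs.b2, hs.b2.smul_left, hs.b2.add_left, hs.symm2 p' k, ck1, ep', mul_zero,
      sub_zero, add_zero, zero_add, zero_sub] at h1 h2
    exact hγ0 ((mul_eq_zero.mp (show (2 * γ) * f₂ k k = 0 by linear_combination h1 - h2)).resolve_right hk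
      |> mul_eq_zero.mp |>.resolve_left hs.two)

/-- Dimension three. -/
theorem cb_three (ha : 0 < a) (hb : b = 3) (hq : 5 ≤ Fintype.card F) (hLM : 𝕃 ≤ M) (hM : M ≤ isom Φ)
    {u : Fin a → F} (hu : u ≠ 0) {B : Matrix (Fin b) (Fin b) F} (h : CB f₁ M u B) (hB : B ≠ 0)
    {p : Fin b → F} (hp : f₂ p p ≠ 0) (hBp : B *ᵥ p = 0) (v : Idx a b → F) : IsCen Φ M v := by
  classical
  have hsy := hs.cb_symm hu hM h
  obtain ⟨t, ht0, ht1⟩ : ∃ t : F, t ≠ 0 ∧ t * t ≠ 1 := by
    by_contra hcon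
    push Not at hcon
    have hsub : (Finset.univ : Finset F) ⊆ {0, 1, -1} := fun t _ => by
      rcases eq_or_ne t 0 with h | h
      · simp [h]
      · rcases mul_self_eq_one_iff.mp (hcon t h) with h' | h' <;> simp [h']
    have h1 := Finset.card_le_card hsub
    have h2 := Finset.card_le_three (a := (0 : F)) (b := 1) (c := -1)
    rw [Finset.card_univ] at h1
    omega
  by_cases hall : ∀ c, c ≠ 0 → f₂ c c = 0 → f₂ (B *ᵥ c) c = 0
  · -- then the form of `B` is a multiple of `f₂`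
    exfalso
    obtain ⟨c, hc0, hc⟩ := hs.exists_iso (by omega)
    obtain ⟨d, hd, hdc⟩ := hs.exists_partner hc0 hc
    obtain ⟨w, hw, hwc, hwd⟩ := hs.exists_aniso_pair (by omega) hc hd hdc
    have hd0 : d ≠ 0 := fun h0 => by rw [h0, bl_zero_left hs.b2] at hdc; exact zero_ne_one hdc
    have hcd : f₂ c d = 1 := by rw [hs.symm2, hdc]
    have hcw : f₂ c w = 0 := by rw [hs.symm2, hwc]
    have hdw : f₂ d w = 0 := by rw [hs.symm2, hwd]
    have e1 := hall c hc0 hc
    have e2 := hall d hd0 hd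
    have hcs : ∀ s : F, 2 * s * f₂ (B *ᵥ d) w + s * s * (f₂ (B *ᵥ w) w - f₂ w w * f₂ (B *ᵥ d) c)
        - s * s * s * f₂ w w * f₂ (B *ᵥ w) c = 0 := by
      intro s
      have h3 : f₂ w w / 2 * 2 = f₂ w w := div_mul_cancel₀ _ hs.two
      have hz := hall (d + s • w - (s * s * (f₂ w w / 2)) • c) (fun h0 => by
          have e := congrArg (fun x => f₂ x c) h0
          simp only [bl_sub_left hs.b2, hs.b2.add_left, hs.b2.smul_left, hdc, hwc, hc, bl_zero_left hs.b2,
            mul_zero, add_zero, sub_zero] at e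
          exact one_ne_zero e) (by
          simp only [bl_sub_left hs.b2, bl_sub_right hs.b2, hs.b2.add_left, hs.b2.add_right, hs.b2.smul_left,
            hs.b2.smul_right, hd, hdc, hcd, hdw, hwd, hwc, hcw, hc]
          linear_combination -(s * s) * h3)
      have s1 : f₂ (B *ᵥ w) d = f₂ (B *ᵥ d) w := by rw [hsy, hs.symm2]
      have s2 : f₂ (B *ᵥ c) d = f₂ (B *ᵥ d) c := by rw [hsy, hs.symm2]
      have s3 : f₂ (B *ᵥ c) w = f₂ (B *ᵥ w) c := by rw [hsy, hs.symm2]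
      simp only [mulVec_add, mulVec_sub, mulVec_smul, bl_sub_left hs.b2, bl_sub_right hs.b2, hs.b2.add_left,
        hs.b2.add_right, hs.b2.smul_left, hs.b2.smul_right, e1, e2, s1, s2, s3] at hz
      linear_combination hz + (s * s * f₂ (B *ᵥ d) c + s * s * s * f₂ (B *ᵥ w) c) * h3
    have k1 := hcs 1
    have k2 := hcs (-1)
    have k3 := hcs t
    have k4 := hcs (-t)
    have hwm : f₂ (B *ᵥ w) w = f₂ w w * f₂ (B *ᵥ d) c :=
      sub_eq_zero.mp ((mul_eq_zero.mp (show (2 : F) * (f₂ (B *ᵥ w) w - f₂ w w * f₂ (B *ᵥ d) c) = 0 by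
        linear_combination k1 + k2)).resolve_left hs.two)
    have hwc0 : f₂ (B *ᵥ w) c = 0 := by
      have h4 : (2 * t * (1 - t * t) * f₂ w w) * f₂ (B *ᵥ w) c = 0 := by
        linear_combination (k3 - k4) - t * (k1 - k2)
      exact (mul_eq_zero.mp h4).resolve_left
        (mul_ne_zero (mul_ne_zero (mul_ne_zero hs.two ht0) (sub_ne_zero.mpr (Ne.symm ht1))) hw)
    have hdw0 : f₂ (B *ᵥ d) w = 0 := by
      have h4 : (2 : F) * 2 * f₂ (B *ᵥ d) w = 0 := by
        rw [hwc0] at k1 k2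
        linear_combination k1 - k2
      exact (mul_eq_zero.mp h4).resolve_left (mul_ne_zero hs.two hs.two)
    set m := f₂ (B *ᵥ d) c with hm
    have hkey : ∀ x, B *ᵥ x = m • x := by
      have hbc : ∀ y, f₂ (B *ᵥ c - m • c) y = f₂ c (B *ᵥ y) - m * f₂ c y := fun y => by
        rw [bl_sub_left hs.b2, hs.b2.smul_left, hsy]
      intro x
      refine sub_eq_zero.mp (hs.eq_zero_of_perp (n := 3) (p := ![c + d, c - d, w]) ⟨fun i => ?_, fun i j hij => ?_⟩
        hb.symm fun i => ?_)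
      · fin_cases i
        · show f₂ (c + d) (c + d) ≠ 0
          simp only [hs.b2.add_left, hs.b2.add_right, hc, hd, hdc, hcd, zero_add, add_zero]
          exact fun h => hs.two (by linear_combination h)
        · show f₂ (c - d) (c - d) ≠ 0
          simp only [bl_sub_left hs.b2, bl_sub_right hs.b2, hc, hd, hdc, hcd, zero_sub, sub_zero]
          exact fun h => hs.two (by linear_combination -h)
        · exact hw
      · fin_cases i <;> fin_cases j <;> first
          | exact absurd rfl hij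
          | simp [hs.b2.add_left, hs.b2.add_right, bl_sub_left hs.b2, bl_sub_right hs.b2, hc, hd, hdc,
              hcd, hcw, hdw, hwc, hwd]
      · suffices hBy : ∀ y ∈ ({c, d, w} : Set (Fin b → F)), B *ᵥ y = m • y by
          have hgo : ∀ y, B *ᵥ y = m • y → f₂ (B *ᵥ x - m • x) y = 0 := fun y hy => by
            rw [bl_sub_left hs.b2, hs.b2.smul_left, hsy, hy, hs.b2.smul_right, sub_self]
          have h1 := hgo c (hBy c (by simp))
          have h2 := hgo d (hBy d (by simp))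
          have h3 := hgo w (hBy w (by simp))
          fin_cases i
          · show f₂ _ (c + d) = 0
            rw [hs.b2.add_right, h1, h2, add_zero]
          · show f₂ _ (c - d) = 0
            rw [bl_sub_right hs.b2, h1, h2, sub_zero]
          · exact h3
        intro y hy
        refine sub_eq_zero.mp (hs.eq_zero_of_perp (n := 3) (p := ![c + d, c - d, w]) ⟨fun i => ?_, fun i j hij => ?_⟩
          hb.symm fun i => ?_)
        · fin_cases i
          · show f₂ (c + d) (c + d) ≠ 0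
            simp only [hs.b2.add_left, hs.b2.add_right, hc, hd, hdc, hcd, zero_add, add_zero]
            exact fun h => hs.two (by linear_combination h)
          · show f₂ (c - d) (c - d) ≠ 0
            simp only [bl_sub_left hs.b2, bl_sub_right hs.b2, hc, hd, hdc, hcd, zero_sub, sub_zero]
            exact fun h => hs.two (by linear_combination -h)
          · exact hw
        · fin_cases i <;> fin_cases j <;> first
            | exact absurd rfl hij
            | simp [hs.b2.add_left, hs.b2.add_right, bl_sub_left hs.b2, bl_sub_right hs.b2, hc, hd, hdc,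
                hcd, hcw, hdw, hwc, hwd]
        · have s1 : f₂ (B *ᵥ w) d = 0 := by rw [hsy, hs.symm2, hdw0]
          have s2 : f₂ (B *ᵥ c) d = m := by rw [hsy, hs.symm2]
          have s3 : f₂ (B *ᵥ c) w = 0 := by rw [hsy, hs.symm2, hwc0]
          simp only [Set.mem_insert_iff, Set.mem_singleton_iff] at hy
          rcases hy with rfl | rfl | rfl <;> fin_cases i <;>
            simp [hs.b2.add_right, bl_sub_left hs.b2, bl_sub_right hs.b2, hs.b2.smul_left, e1, e2, s1, s2, s3,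
              hwc0, hdw0, hwm, ← hm, hc, hd, hdc, hcd, hcw, hdw, hwc, hwd] <;> ring
    have hm0 : m = 0 := by
      have e := hkey p
      rw [hBp, eq_comm, smul_eq_zero] at e
      exact e.resolve_right fun h0 => hp (by rw [h0, bl_zero_left hs.b2])
    refine hB (Matrix.ext_iff_mulVec.mpr fun x => ?_)
    rw [hkey, hm0, zero_smul, zero_mulVec]
  push Not at hall
  obtain ⟨c, hc0, hc, hβ⟩ := hall
  obtain ⟨d, hd, hdc⟩ := hs.exists_partner hc0 hc
  obtain ⟨w, hw, hwc, hwd⟩ := hs.exists_aniso_pair (by omega) hc hd hdc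
  have hEs : ∀ s : F, ∃ E ∈ isom f₂, (∀ x, (E : Matrix (Fin b) (Fin b) F) *ᵥ x
      = x + (s * f₂ x c) • w - (s * f₂ x w + s * s * (f₂ w w / 2) * f₂ x c) • c) ∧
      ∀ x, ((E⁻¹ : GL (Fin b) F) : Matrix (Fin b) (Fin b) F) *ᵥ x
      = x - (s * f₂ x c) • w - (-(s * f₂ x w) + s * s * (f₂ w w / 2) * f₂ x c) • c := by
    intro s
    obtain ⟨E, hE, hEv⟩ := hs.exists_eich (w := s • w) hc (by rw [hs.b2.smul_left, hwc, mul_zero])
    have hv : ∀ x, (E : Matrix (Fin b) (Fin b) F) *ᵥ x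
        = x + (s * f₂ x c) • w - (s * f₂ x w + s * s * (f₂ w w / 2) * f₂ x c) • c := fun x => by
      rw [hEv, hs.b2.smul_right, hs.b2.smul_left, hs.b2.smul_right]
      module
    refine ⟨E, hE, hv, fun x => gl_mulVec_inj E ?_⟩
    rw [gl_mulVec_inv, hv]
    have h3 : f₂ w w / 2 * 2 = f₂ w w := div_mul_cancel₀ _ hs.two
    simp only [bl_sub_left hs.b2, hs.b2.add_left, hs.b2.smul_left, hwc, hc, hs.symm2 c w, mul_zero, sub_zero,
      zero_add]
    match_scalars
    · ring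
    · ring
    · linear_combination (s * s * f₂ x c) * h3
  obtain ⟨E₁, hE₁, hE₁v, hE₁i⟩ := hEs 1
  obtain ⟨E₂, hE₂, hE₂v, hE₂i⟩ := hEs (-1)
  obtain ⟨E₃, hE₃, hE₃v, hE₃i⟩ := hEs t
  obtain ⟨E₄, hE₄, hE₄v, hE₄i⟩ := hEs (-t)
  have hG₁ := hs.cb_sub (hs.cb_sub (hs.cb_add (hs.cb_conj hLM h hE₁) (hs.cb_conj hLM h hE₂)) h) h
  have hG₃ := hs.cb_sub (hs.cb_sub (hs.cb_add (hs.cb_conj hLM h hE₃) (hs.cb_conj hLM h hE₄)) h) h
  have hQ := hs.cb_sub hG₃ (hs.cb_scale hLM hu hG₁ ht0)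
  set κ := 2 * ((t * t) * (t * t) - t * t) * (f₂ w w / 2) * (f₂ w w / 2) * f₂ (B *ᵥ c) c with hκ
  have hκ0 : κ ≠ 0 := by
    refine mul_ne_zero (mul_ne_zero (mul_ne_zero (mul_ne_zero hs.two ?_) ?_) ?_) hβ
    · rw [show (t * t) * (t * t) - t * t = (t * t) * (t * t - 1) by ring]
      exact mul_ne_zero (mul_ne_zero ht0 ht0) (sub_ne_zero.mpr ht1)
    all_goals exact div_ne_zero hw hs.two
  obtain ⟨Q, hQdef, hQv⟩ : ∃ Q, CB f₁ M u Q ∧ ∀ x, Q *ᵥ x = (κ * f₂ x c) • c := by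
    refine ⟨_, hQ, fun x => ?_⟩
    simp only [sub_mulVec, add_mulVec, smul_mulVec, ← mulVec_mulVec, hE₁v, hE₁i, hE₂v, hE₂i, hE₃v, hE₃i, hE₄v,
      hE₄i, mulVec_add, mulVec_sub, mulVec_smul, bl_sub_left hs.b2, hs.b2.add_left, hs.b2.smul_left, hκ]
    module
  refine hs.cb_slice ha (by omega) hLM hM hu hQdef (fun h0 => ?_) hc0 hc (by rw [hQv, hc, mul_zero, zero_smul]) v
  have e := hQv d
  rw [h0, zero_mulVec, hdc, mul_one, eq_comm, smul_eq_zero] at e
  exact e.elim hκ0 hc0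

end Setting

end CfsgLib.TensorSympOrth
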